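import Cfsg.Agent.DRG.Defs

set_option autoImplicit false
set_option linter.unusedSectionVars false
set_option linter.unusedVariables false

namespace Cfsg.Lib.DRG

open MulAction Cfsg.Lib.Perm.Derange Subgroup
open scoped ComplexConjugate

section C
variable {H Ω : Type*} [Group H] [Fintype H] [MulAction H Ω] [Finite Ω] {Q : Subgroup H}
  [Fintype Q] {δ : Ω} {q e t : ℕ}

theorem TH.semi (h : TH Q δ q e t) {b : H} (hb : b ∈ EE Q δ) {x : H} (hx : x ∈ Q) (h1 : x ≠ 1)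
    (hc : b * x = x * b) : b = 1 :=
  h.reg b (h.cent x hx h1 b hc) δ hb.2

theorem TH.cardN (h : TH Q δ q e t) :
    Nat.card (normalizer (Q : Set H)) = Nat.card Ω * e := by
  have : IsPretransitive (normalizer (Q : Set H)) Ω := ⟨fun a b => by
    obtain ⟨x, hx, rfl⟩ := h.tr a
    obtain ⟨y, hy, rfl⟩ := h.tr b
    exact ⟨⟨y * x⁻¹, le_normalizer (mul_mem hy (inv_mem hx))⟩, by
      show (y * x⁻¹) • x • δ = y • δ
      rw [smul_smul, inv_mul_cancel_right]⟩⟩
  have e1 : stabilizer (normalizer (Q : Set H)) δ = (EE Q δ).subgroupOf (normalizer (Q : Set H)) := by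
    ext g
    exact ⟨fun hg => ⟨g.2, hg⟩, fun hg => hg.2⟩
  rw [← (stabilizer (normalizer (Q : Set H)) δ).card_mul_index, index_stabilizer_of_transitive, e1,
    Nat.card_congr (subgroupOfEquivOfLe (show EE Q δ ≤ _ from inf_le_left)).toEquiv, h.cE, mul_comm]

namespace C1

theorem nor (h : TH Q δ q e t) {a x : H} (hx : x ∈ Q) (h1 : x ≠ 1) :
    a * x * a⁻¹ ∈ Q ↔ a ∈ normalizer (Q : Set H) := by
  refine ⟨fun ha => ?_, fun ha => (mem_normalizer_iff.1 ha x).1 hx⟩
  rw [← inv_mem_iff]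
  refine mem_normalizer_fintype fun y hy => h.cent x hx h1 _ ?_
  have := h.ab y hy _ ha
  calc a⁻¹ * y * a⁻¹⁻¹ * x = a⁻¹ * (y * (a * x * a⁻¹)) * a := by group
    _ = x * (a⁻¹ * y * a⁻¹⁻¹) := by rw [this]; group

open Classical in
theorem cnt (h : TH Q δ q e t) (g : H) :
    (Finset.univ.filter fun k : H => g ≠ 1 ∧ k * g * k⁻¹ ∈ Q).card =
      if Sp Q g then Nat.card Ω * e else 0 := by
  split_ifs with hg
  · obtain ⟨g1, k0, hk0⟩ := hg
    have x1 : k0 * g * k0⁻¹ ≠ 1 := fun e => g1 (by simpa using e)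
    rw [← h.cardN, Nat.card_eq_fintype_card, Fintype.card_subtype]
    refine Finset.card_equiv (Equiv.mulRight k0⁻¹) fun k => ?_
    simp only [Finset.mem_filter, Finset.mem_univ, true_and, Equiv.coe_mulRight]
    rw [← nor h hk0 x1, show k * k0⁻¹ * (k0 * g * k0⁻¹) * (k * k0⁻¹)⁻¹ = k * g * k⁻¹ by group]
    exact ⟨fun h => h.2, fun h => ⟨g1, h⟩⟩
  · rw [Finset.card_eq_zero, Finset.filter_eq_empty_iff]
    exact fun k _ hk => hg ⟨hk.1, k, hk.2⟩

theorem fix1 (h : TH Q δ q e t) {b : H} (hb : b ∈ EE Q δ) (h1 : b ≠ 1) :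
    Nat.card (fixedBy Ω b) = 1 := by
  have : fixedBy Ω b = {δ} := by
    ext ω
    refine ⟨fun hω => ?_, fun hω => hω ▸ hb.2⟩
    obtain ⟨x, hx, rfl⟩ := h.tr ω
    have hω' : b • x • δ = x • δ := hω
    have hi : b⁻¹ • δ = δ := (inv_mem hb).2
    have := h.reg (x⁻¹ * (b * x * b⁻¹)) (mul_mem (inv_mem hx) ((mem_normalizer_iff.1 hb.1 x).1 hx)) δ
      (by rw [mul_smul, mul_smul, mul_smul, hi, hω', inv_smul_smul])
    have hc : b * x = x * b := by
      rw [inv_mul_eq_one] at this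
      rw [← mul_inv_eq_iff_eq_mul]; exact this.symm
    by_cases x1 : x = 1
    · rw [x1, one_smul]; rfl
    · exact absurd (h.semi hb hx x1 hc) h1
  rw [this]; simp

theorem orbE (h : TH Q δ q e t) : Nat.card (orbitRel.Quotient (EE Q δ) Ω) = t + 1 := by
  classical
  have b := burnside (EE Q δ) Ω
  have e0 : 0 < e := h.cE ▸ Nat.card_pos
  rw [← Finset.add_sum_erase _ _ (Finset.mem_univ 1),
    Finset.sum_congr rfl (f := fun g : EE Q δ => Nat.card (fixedBy Ω g)) (g := fun _ => 1)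
      (fun g hg => fix1 h g.2 fun e =>
      (Finset.mem_erase.1 hg).1 (Subtype.ext e)), Finset.sum_const, Finset.card_erase_of_mem
      (Finset.mem_univ _), Finset.card_univ, ← Nat.card_eq_fintype_card, h.cE, fixedBy_one_eq_univ,
      Nat.card_congr (Equiv.Set.univ Ω), h.cn, smul_eq_mul, mul_one] at b
  refine Nat.eq_of_mul_eq_mul_right e0 ?_
  rw [← b, add_mul, one_mul]; omega

theorem orbH (hr : classInner (pc H Ω) (pc H Ω) = (t : ℂ) + 1) :
    Nat.card (orbitRel.Quotient H (Ω × Ω)) = t + 1 := by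
  have b := burnside H (Ω × Ω)
  have h0 : (Nat.card H : ℂ) ≠ 0 := Nat.cast_ne_zero.2 Nat.card_pos.ne'
  simp only [card_fixedBy_prod] at b
  have b' := congrArg (Nat.cast : ℕ → ℂ) b
  push_cast at b'
  simp only [classInner, pc, map_natCast] at hr
  rw [b', mul_comm, mul_assoc, mul_inv_cancel₀ h0, mul_one] at hr
  exact_mod_cast hr

end C1

open Classical in
theorem TH.tisum (h : TH Q δ q e t) {f : H → ℂ} (hf : IsClassFunction H f) :
    ((Nat.card Ω : ℂ) * e) * ∑ g ∈ Finset.univ.filter (Sp Q), f g =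
      (Nat.card H : ℂ) * (∑ x : Q, f x - f 1) := by
  have A : ∀ k : H, ∑ g : H, (if g ≠ 1 ∧ k * g * k⁻¹ ∈ Q then f g else 0) = ∑ x : Q, f x - f 1 := by
    intro k
    rw [← Fintype.sum_equiv (MulAut.conj k⁻¹).toEquiv
      (fun g => if g ≠ 1 ∧ g ∈ Q then f g else 0) _ (fun g => by
        have e1 : k * (k⁻¹ * g * k⁻¹⁻¹) * k⁻¹ = g := by group
        simp only [MulEquiv.toEquiv_eq_coe, EquivLike.coe_coe, MulAut.conj_apply, e1, hf g k⁻¹,
          ne_eq, conj_eq_one_iff]), eq_sub_iff_add_eq,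
      ← Finset.sum_subtype (Finset.univ.filter (· ∈ Q)) (by simp) f, Finset.sum_filter,
      ← Finset.add_sum_erase _ _ (Finset.mem_univ 1), ← Finset.add_sum_erase _ _ (Finset.mem_univ 1)]
    rw [Finset.sum_congr rfl (g := fun g => if g ∈ Q then f g else 0) fun g hg => by
      simp [(Finset.mem_erase.1 hg).1]]
    simp [one_mem, add_comm]
  calc _ = ∑ g : H, ∑ k : H, (if g ≠ 1 ∧ k * g * k⁻¹ ∈ Q then f g else 0) := by
        rw [Finset.mul_sum, Finset.sum_filter]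
        refine Finset.sum_congr rfl fun g _ => ?_
        rw [← Finset.sum_filter, Finset.sum_const, C1.cnt h g]
        split_ifs <;> simp
    _ = _ := by
        rw [Finset.sum_comm, Finset.sum_congr rfl fun k _ => A k, Finset.sum_const, Finset.card_univ,
          Nat.card_eq_fintype_card, nsmul_eq_mul]

theorem TH.eq_of_sp (h : TH Q δ q e t) {T : Subgroup H} (hT : Q ≤ T)
    (hs : ∀ g ∈ T, g ≠ 1 → Sp Q g) : T = Q := by
  have := Fact.mk h.prime
  have hp : IsPGroup q T := fun g => by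
    by_cases g1 : (g : H) = 1
    · exact ⟨0, Subtype.ext (by simp [g1])⟩
    · obtain ⟨-, k, hk⟩ := hs g g.2 g1
      obtain ⟨n, hn⟩ := h.pg ⟨_, hk⟩
      have : (k * g * k⁻¹) ^ q ^ n = 1 := congrArg Subtype.val hn
      rw [conj_pow, conj_eq_one_iff] at this
      exact ⟨n, Subtype.ext this⟩
  obtain ⟨n, hn⟩ := hp.index (Q.subgroupOf T)
  have hd := relIndex_dvd_index_of_le hT
  refine le_antisymm (relIndex_eq_one.1 ?_) hT
  rw [relIndex, hn] at hd ⊢
  rcases n with _ | n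
  · rfl
  · exact absurd ((dvd_pow_self q n.succ_ne_zero).trans hd) h.syl

theorem TH.rank (h : TH Q δ q e t) (hr : classInner (pc H Ω) (pc H Ω) = (t : ℂ) + 1) {k : H}
    (hk : k • δ = δ) {x : H} (hx : x ∈ Q) :
    ∃ b ∈ EE Q δ, k • x • δ = (b * x * b⁻¹) • δ := by
  let φ : orbitRel.Quotient (EE Q δ) Ω → orbitRel.Quotient H (Ω × Ω) :=
    Quotient.map (fun ω => (δ, ω)) (by
      rintro a b ⟨g, rfl⟩
      exact ⟨g, Prod.ext g.2.2 rfl⟩)
  have hs : Function.Surjective φ := by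
    rintro ⟨a, b⟩
    obtain ⟨y, -, rfl⟩ := h.tr a
    exact ⟨Quotient.mk _ (y⁻¹ • b), Quotient.sound ⟨y⁻¹, Prod.ext (inv_smul_smul y δ) rfl⟩⟩
  have hi := (hs.bijective_of_nat_card_le (by rw [C1.orbE h, C1.orbH hr])).1
  obtain ⟨b, hb⟩ := Quotient.exact (hi (a₁ := Quotient.mk _ (k • x • δ)) (a₂ := Quotient.mk _ (x • δ))
    (Quotient.sound ⟨k, Prod.ext hk rfl⟩))
  refine ⟨b, b.2, ?_⟩
  have hi : (b : H)⁻¹ • δ = δ := (inv_mem b.2).2
  rw [mul_smul, mul_smul, hi]
  exact hb.symm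

end C

end Cfsg.Lib.DRG
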