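import Cfsg.Agent.DRG.C0
import Cfsg.Agent.DRG.C1

set_option autoImplicit false
set_option linter.unusedSectionVars false

namespace Cfsg.Lib.DRG

open MulAction Cfsg.Lib.Perm.Derange Subgroup
open scoped ComplexConjugate
open Cfsg.Lib.Char

variable {H Ω : Type*} [Group H] [Fintype H] [MulAction H Ω] [Finite Ω] {Q : Subgroup H}
  [Fintype Q] {δ : Ω} {q e t : ℕ}

namespace C2

/-- The conjugate of a linear character. -/
def cj (lam : Q →* ℂˣ) (b : normalizer (Q : Set H)) : Q →* ℂˣ :=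
  lam.comp (Q.normalizerMonoidHom b).toMonoidHom

omit [Fintype H] [Fintype Q] in
theorem ext_cj (lam : Q →* ℂˣ) (b : normalizer (Q : Set H)) (x : Q) :
    extendByZero Q (fun y => (lam y : ℂ)) ((b : H) * x * (b : H)⁻¹) = cj lam b x :=
  Subtype.val_injective.extend_apply (fun y => (lam y : ℂ)) 0 (Q.normalizerMonoidHom b x)

omit [Fintype H] [Fintype Q] in
theorem cj_mul (lam : Q →* ℂˣ) (a b : normalizer (Q : Set H)) : cj (cj lam a) b = cj lam (a * b) :=
  MonoidHom.ext fun x => by simp [cj]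

omit [Fintype H] [Fintype Q] in
theorem cj_one (lam : Q →* ℂˣ) : cj lam 1 = lam := MonoidHom.ext fun x => by simp [cj]

omit [Fintype H] in
theorem inner_cj {χ : H → ℂ} (hχ : IsClassFunction H χ) (lam : Q →* ℂˣ) (b : normalizer (Q : Set H)) :
    classInner (fun x : Q => χ x) (fun x => (cj lam b x : ℂ)) =
      classInner (fun x : Q => χ x) (fun x => (lam x : ℂ)) := by
  rw [← classInner_comp_equiv (Q.normalizerMonoidHom b) (fun x : Q => χ x) (fun x => (lam x : ℂ))]
  congr 1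
  exact funext fun x => (hχ x b).symm

omit [Fintype H] [Fintype Q] in
theorem ph_eq {E : Subgroup H} [Fintype E] (hE : E ≤ normalizer (Q : Set H)) (lam : Q →* ℂˣ) (x : Q) :
    ph Q E lam x = ∑ b : E, (cj lam ⟨b, hE b.2⟩ x : ℂ) := by
  rw [ph, finsum_eq_sum_of_fintype]
  exact Finset.sum_congr rfl fun b _ => ext_cj lam ⟨b, hE b.2⟩ x

omit [Finite Ω] [Fintype Q] in
theorem cj_fix (h : TH Q δ q e t)
    (semi : ∀ b ∈ EE Q δ, ∀ x ∈ Q, x ≠ 1 → b * x = x * b → b = 1) {lam : Q →* ℂˣ} (h1 : lam ≠ 1)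
    {b : normalizer (Q : Set H)} (hb : (b : H) ∈ EE Q δ) (e1 : cj lam b = lam) : b = 1 := by
  by_contra b1
  let f : Q → Q := fun x => Q.normalizerMonoidHom b x * x⁻¹
  have inj : Function.Injective f := fun x y exy => by
    have e2 : (b : H) * x * (b : H)⁻¹ * (x : H)⁻¹ = b * y * (b : H)⁻¹ * (y : H)⁻¹ :=
      congrArg Subtype.val exy
    by_contra ne
    refine b1 (Subtype.ext (semi b hb (y⁻¹ * x : Q) (y⁻¹ * x).2 (fun c => ne ?_) ?_))
    · exact (inv_mul_eq_one.1 (Subtype.ext c)).symm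
    · have c := h.ab _ (y⁻¹ * x).2 _ x.2
      have c2 := h.ab _ y.2 _ x.2
      simp only [Subgroup.coe_mul, Subgroup.coe_inv] at c ⊢
      calc _ = b * (y : H)⁻¹ * (b : H)⁻¹ * (b * x * (b : H)⁻¹ * (x : H)⁻¹) * x * b := by group
        _ = _ := by rw [e2]; group
  refine h1 (MonoidHom.ext fun x => ?_)
  obtain ⟨y, rfl⟩ := Finite.injective_iff_surjective.1 inj x
  have := DFunLike.congr_fun e1 y
  simp only [cj, MonoidHom.comp_apply, MulEquiv.coe_toMonoidHom] at this
  simp only [f, map_mul, map_inv, this, mul_inv_cancel, MonoidHom.one_apply]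

omit [Fintype Q] in
theorem pc_one (δ : Ω) : classInner (pc H Ω) (fun _ => 1) ≠ 0 := by
  rw [classInner_one_right]
  refine mul_ne_zero (inv_ne_zero (card_ne_zero H)) ?_
  simp only [pc, ← Nat.cast_sum, ne_eq, Nat.cast_eq_zero, Finset.sum_eq_zero_iff]
  exact fun c => Nat.card_ne_zero.2 ⟨⟨⟨δ, one_smul H δ⟩⟩, inferInstance⟩ (c 1 (Finset.mem_univ _))

omit [Fintype H] [Finite Ω] [Fintype Q] in
theorem card (h : RQ Q δ) : Nat.card Q = Nat.card Ω :=
  Nat.card_congr (Equiv.ofBijective (fun x : Q => (x : H) • δ) ⟨fun x y c => by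
    have c : (x : H) • δ = (y : H) • δ := c
    have := h.reg ((y : H)⁻¹ * x) (mul_mem (inv_mem y.2) x.2) δ (by rw [mul_smul, c, inv_smul_smul])
    exact Subtype.ext (inv_mul_eq_one.1 this).symm, fun w => by
    obtain ⟨x, hx, c⟩ := h.tr w
    exact ⟨⟨x, hx⟩, c⟩⟩)

theorem lt (h : TH Q δ q e t) {θ : H → ℂ} (hθ : IsIrrCharacter H θ) {d : ℕ} (d1 : θ 1 = d)
    (d2 : 2 * d < Nat.card Ω) (d3 : classInner (fun x : Q => θ x) (fun x : Q => θ x) = d) :
    d < 2 * e := by
  classical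
  have e1 := h.tisum (f := fun g => θ g * conj (θ g)) fun g k => by
    simp only [hθ.isClassFunction g k]
  have e2 := card_mul_classInner θ θ
  rw [← card_mul_classInner (fun x : Q => θ x), d3, card h.toRQ, d1] at e1
  rw [hθ.classInner_self, mul_one] at e2
  simp only [Complex.mul_conj, Complex.normSq_natCast] at e1 e2
  have e3 : (Nat.card Ω : ℝ) * e * ∑ g ∈ Finset.univ.filter (Sp Q), Complex.normSq (θ g) =
      Nat.card H * (Nat.card Ω * d - d * d) := by exact_mod_cast e1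
  have e4 : (Nat.card H : ℝ) = ∑ g, Complex.normSq (θ g) := by exact_mod_cast e2
  have e5 : ∑ g ∈ Finset.univ.filter (Sp Q), Complex.normSq (θ g) ≤ Nat.card H :=
    e4 ▸ Finset.sum_le_sum_of_subset_of_nonneg (Finset.filter_subset _ _)
      fun _ _ _ => Complex.normSq_nonneg _
  obtain ⟨d', p, e6⟩ := hθ.exists_nat_degree_pos
  have p : (0 : ℝ) < d := by
    rw [d1, Nat.cast_inj] at e6
    exact_mod_cast e6 ▸ p
  have pH : (0 : ℝ) < Nat.card H := by exact_mod_cast Nat.card_pos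
  have d2 : (2 * d : ℝ) < Nat.card Ω := by exact_mod_cast d2
  have e7 : (Nat.card Ω : ℝ) * d - d * d ≤ Nat.card Ω * e := le_of_mul_le_mul_left (by
    rw [← e3, mul_comm]
    exact mul_le_mul_of_nonneg_right e5 (by positivity)) pH
  have : (d : ℝ) < 2 * e := by nlinarith
  exact_mod_cast this

end C2

open C2

theorem inner_ph {E : Subgroup H} (hE : E ≤ normalizer (Q : Set H)) {χ : H → ℂ}
    (hχ : IsClassFunction H χ) (lam : Q →* ℂˣ) :
    classInner (fun x : Q => χ x) (fun x : Q => ph Q E lam x) =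
      (Nat.card E : ℂ) * classInner (fun x : Q => χ x) (fun x => (lam x : ℂ)) := by
  have := Fintype.ofFinite E
  rw [show (fun x : Q => ph Q E lam x) = ∑ b : E, fun x => (cj lam ⟨b, hE b.2⟩ x : ℂ) from
    funext fun x => by rw [ph_eq hE, Finset.sum_apply], classInner_sum_right]
  simp only [inner_cj hχ, Finset.sum_const, Finset.card_univ, nsmul_eq_mul, Nat.card_eq_fintype_card]

theorem TH.cons (h : TH Q δ q e t) {θ : H → ℂ} (hθ : IsIrrCharacter H θ) (h1 : θ ≠ fun _ => 1)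
    (hc : classInner (pc H Ω) θ ≠ 0) : θ 1 = e ∧ ∀ lam : Q →* ℂˣ,
      classInner (fun x : Q => θ x) (fun x => (lam x : ℂ)) ≠ 0 →
        lam ≠ 1 ∧ ∀ x ∈ Q, θ x = ph Q (EE Q δ) lam x := by
  classical
  have := Fintype.ofFinite (EE Q δ)
  have hE : EE Q δ ≤ normalizer (Q : Set H) := inf_le_left
  have pt := (h.toRQ.part hθ hc).2
  have n1 : ∀ lam : Q →* ℂˣ, classInner (fun x : Q => θ x) (fun x => (lam x : ℂ)) ≠ 0 → lam ≠ 1 := by
    rintro _ e1 rfl
    exact h1 ((pt 1 e1).2 _ isIrrCharacter_one (pc_one δ) (by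
      simp only [MonoidHom.one_apply, Units.val_one, classInner_one_one, ne_eq, one_ne_zero,
        not_false_eq_true])).symm
  have lin : ∀ χ : IrrCharacter Q, ∃ lam : Q →* ℂˣ, χ.1 = fun g => (lam g : ℂ) := fun χ =>
    χ.2.isCharacter.exists_monoidHom_of_apply_one (χ.2.apply_one_of_comm fun a b =>
      Subtype.ext (h.ab a a.2 b b.2))
  let L := Finset.univ.filter fun χ : IrrCharacter Q => classInner (fun x : Q => θ x) χ ≠ 0
  have cf := hθ.isClassFunction.res Q
  have ex : (fun x : Q => θ x) = ∑ χ ∈ L, χ.1 := by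
    refine cf.eq_sum_irr.trans ?_
    rw [Finset.sum_filter]
    refine Finset.sum_congr rfl fun χ _ => ?_
    split_ifs with c
    · obtain ⟨lam, e1⟩ := lin χ
      rw [e1] at c ⊢
      rw [(pt lam c).1, one_smul]
    · rw [not_not.1 c, zero_smul]
  have d1 : θ 1 = L.card := by
    rw [show θ 1 = _ from congrFun ex 1, Finset.sum_apply, Finset.card_eq_sum_ones, Nat.cast_sum]
    refine Finset.sum_congr rfl fun χ _ => ?_
    obtain ⟨lam, e1⟩ := lin χ
    simp [e1]
  have d3 : classInner (fun x : Q => θ x) (fun x : Q => θ x) = L.card := by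
    conv_lhs => enter [2]; rw [ex]
    rw [classInner_sum_right, Finset.card_eq_sum_ones, Nat.cast_sum]
    refine Finset.sum_congr rfl fun χ hχ => ?_
    have c := (Finset.mem_filter.1 hχ).2
    obtain ⟨lam, e1⟩ := lin χ
    rw [e1] at c ⊢
    rw [(pt lam c).1, Nat.cast_one]
  obtain ⟨d, e1, e2⟩ := h.small θ hθ h1 hc
  obtain rfl : d = L.card := Nat.cast_injective (e1.symm.trans d1)
  have l2 := lt h hθ d1 e2 d3
  let o : (Q →* ℂˣ) → EE Q δ → IrrCharacter Q := fun lam b =>
    ⟨fun x => (cj lam ⟨b, hE b.2⟩ x : ℂ), isIrrCharacter_monoidHom _⟩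
  have oe : ∀ {lam mu a b}, o lam a = o mu b → cj lam ⟨a, hE a.2⟩ = cj mu ⟨b, hE b.2⟩ :=
    fun c => MonoidHom.ext fun x => Units.ext (congrFun (congrArg Subtype.val c) x)
  have oi : ∀ {lam}, lam ≠ 1 → Function.Injective (o lam) := fun {lam} l1 a b c => by
    have := congrArg (cj · (⟨b, hE b.2⟩ : normalizer (Q : Set H))⁻¹) (oe c)
    simp only [cj_mul, mul_inv_cancel, cj_one] at this
    have := cj_fix h (fun _ hb _ hx => h.semi hb hx) l1 (mul_mem a.2 (inv_mem b.2)) this
    exact Subtype.ext (mul_inv_eq_one.1 (congrArg Subtype.val this))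
  have os : ∀ {lam : Q →* ℂˣ}, classInner (fun x : Q => θ x) (fun x => (lam x : ℂ)) ≠ 0 →
      Finset.univ.image (o lam) ⊆ L := fun c => Finset.image_subset_iff.2 fun b _ =>
    Finset.mem_filter.2 ⟨Finset.mem_univ _, by
      simpa only [o, inner_cj hθ.isClassFunction] using c⟩
  have oc : ∀ {lam}, lam ≠ 1 → (Finset.univ.image (o lam)).card = e := fun l1 => by
    rw [Finset.card_image_of_injective _ (oi l1), Finset.card_univ, ← Nat.card_eq_fintype_card, h.cE]
  have key : ∀ {lam : Q →* ℂˣ}, classInner (fun x : Q => θ x) (fun x => (lam x : ℂ)) ≠ 0 →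
      L = Finset.univ.image (o lam) := fun {lam} c => by
    refine Finset.Subset.antisymm (fun χ hχ => ?_) (os c)
    by_contra nm
    have c' := (Finset.mem_filter.1 hχ).2
    obtain ⟨mu, e3⟩ := lin χ
    rw [e3] at c'
    have dj : Disjoint (Finset.univ.image (o lam)) (Finset.univ.image (o mu)) := by
      rw [Finset.disjoint_left]
      intro ψ m1 m2
      obtain ⟨a, -, rfl⟩ := Finset.mem_image.1 m1
      obtain ⟨b, -, e4⟩ := Finset.mem_image.1 m2
      have := congrArg (cj · (⟨b, hE b.2⟩ : normalizer (Q : Set H))⁻¹) (oe e4)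
      simp only [cj_mul, mul_inv_cancel, cj_one] at this
      exact nm (Finset.mem_image.2 ⟨a * b⁻¹, Finset.mem_univ _, Subtype.ext (by
        rw [e3, this]; rfl)⟩)
    have := Finset.card_le_card (Finset.union_subset (os c) (os c'))
    rw [Finset.card_union_of_disjoint dj, oc (n1 _ c), oc (n1 _ c')] at this
    omega
  obtain ⟨lam, c⟩ := h.toRQ.ex_lam hθ
  refine ⟨by rw [d1, key c, oc (n1 _ c)], fun lam c => ⟨n1 _ c, fun x hx => ?_⟩⟩
  rw [show θ x = _ from congrFun ex ⟨x, hx⟩, key c, Finset.sum_apply,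
    Finset.sum_image fun a _ b _ c' => oi (n1 _ c) c']
  exact (ph_eq hE lam ⟨x, hx⟩).symm

end Cfsg.Lib.DRG
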