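import Cfsg.Agent.DRG.C0
import Cfsg.Agent.DRG.C1
import Cfsg.Agent.DRG.C2

/-! Tower DRG: the nontrivial constituents of the permutation character. -/

set_option autoImplicit false

namespace Cfsg.Lib.DRG

open MulAction Cfsg.Lib.Perm.Derange Subgroup Cfsg.Lib.Char
open scoped ComplexConjugate

variable {H Ω : Type*} [Group H] [Fintype H] [MulAction H Ω] [Finite Ω] {Q : Subgroup H}
  [Fintype Q] {δ : Ω} {q e t : ℕ}

namespace C3

omit [Fintype H] [Finite Ω] [Fintype Q] in
theorem cardQ (h : RQ Q δ) : Nat.card Q = Nat.card Ω :=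
  Nat.card_eq_of_bijective (fun x : Q => (x : H) • δ) ⟨fun x y k => Subtype.ext (by
    have k' : (x : H) • δ = (y : H) • δ := k
    have := h.reg _ (mul_mem (inv_mem y.2) x.2) δ (by rw [mul_smul, k', inv_smul_smul])
    exact (inv_mul_eq_one.1 this).symm), fun ω => (h.tr ω).elim fun x k => ⟨⟨x, k.1⟩, k.2⟩⟩

omit [Fintype H] in
theorem one_lam {lam : Q →* ℂˣ} (h : lam ≠ 1) :
    classInner (fun _ : Q => (1 : ℂ)) (fun x => (lam x : ℂ)) = 0 := by
  rw [isIrrCharacter_one.classInner_eq_ite (isIrrCharacter_monoidHom lam), if_neg]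
  exact fun k => h (MonoidHom.ext fun x => Units.ext (congrFun k x).symm)

theorem enum (h : TH Q δ q e t) : ∃ θ : Fin t → H → ℂ, (∀ i, IsIrrCharacter H (θ i)) ∧
    Function.Injective θ ∧ (∀ i, θ i ≠ fun _ => 1) ∧ (∀ i, classInner (pc H Ω) (θ i) ≠ 0) ∧
    (∀ g, pc H Ω g = 1 + ∑ i, θ i g) ∧
    ∀ χ, IsIrrCharacter H χ → (χ ≠ fun _ => 1) → classInner (pc H Ω) χ ≠ 0 → ∃ i, θ i = χ := by
  classical
  let Θ : Finset (IrrCharacter H) := Finset.univ.filter fun χ =>
    ((χ : H → ℂ) ≠ fun _ => 1) ∧ classInner (pc H Ω) χ ≠ 0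
  have mΘ : ∀ χ, χ ∈ Θ ↔ ((χ : H → ℂ) ≠ fun _ => 1) ∧ classInner (pc H Ω) χ ≠ 0 := fun χ => by
    simp only [Θ, Finset.mem_filter, Finset.mem_univ, true_and]
  have pcC : IsCharacter H (pc H Ω) := isCharacter_card_fixedBy H Ω
  have p1 : classInner (pc H Ω) (fun _ => 1) = 1 := by
    obtain ⟨χ, h1, h2, h3⟩ := h.toRQ.ex_cons 1
    by_cases k : χ = fun _ => 1
    · exact k ▸ (h.toRQ.part h1 h2).1
    · exact (((h.cons h1 k h2).2 1 h3).1 rfl).elim
  have sm : ∀ g, pc H Ω g = 1 + ∑ χ ∈ Θ, (χ : H → ℂ) g := fun g => by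
    rw [pcC.isClassFunction.apply_eq_sum_irr g, ← Finset.add_sum_erase _ _
      (Finset.mem_univ (⟨fun _ => 1, isIrrCharacter_one⟩ : IrrCharacter H)), p1, one_mul]
    congr 1
    symm
    refine (Finset.sum_congr rfl fun χ hχ => ?_).trans (Finset.sum_subset (fun χ hχ => ?_)
      fun χ h1 h2 => ?_)
    · rw [(h.toRQ.part χ.2 ((mΘ χ).1 hχ).2).1, one_mul]
    · exact Finset.mem_erase.2 ⟨fun k => ((mΘ χ).1 hχ).1 (congrArg Subtype.val k),
        Finset.mem_univ _⟩
    · have k : classInner (pc H Ω) χ = 0 := by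
        by_contra k
        exact h2 ((mΘ χ).2 ⟨fun k' => (Finset.mem_erase.1 h1).1 (Subtype.ext k'), k⟩)
      rw [k, zero_mul]
  have e0 : 0 < e := h.cE ▸ Nat.card_pos
  have cΘ : Θ.card = t := by
    have k := sm 1
    rw [Finset.sum_congr rfl fun χ hχ => (h.cons χ.2 ((mΘ χ).1 hχ).1 ((mΘ χ).1 hχ).2).1,
      Finset.sum_const, nsmul_eq_mul] at k
    have k1 : pc H Ω 1 = (Nat.card Ω : ℂ) := by simp [pc]
    rw [k1, h.cn] at k
    have k2 : t * e + 1 = 1 + Θ.card * e := by exact_mod_cast k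
    exact (Nat.eq_of_mul_eq_mul_right e0 (by omega)).symm
  let ε := (Θ.equivFinOfCardEq cΘ).symm
  refine ⟨fun i => ((ε i : IrrCharacter H) : H → ℂ), fun i => (ε i).1.2,
    fun i j k => ε.injective (Subtype.ext (Subtype.ext k)), fun i => ((mΘ _).1 (ε i).2).1,
    fun i => ((mΘ _).1 (ε i).2).2, fun g => ?_, fun χ h1 h2 h3 => ?_⟩
  · rw [sm g, ← Finset.sum_coe_sort Θ, ← ε.sum_comp]
  · obtain ⟨i, hi⟩ := ε.surjective ⟨⟨χ, h1⟩, (mΘ _).2 ⟨h2, h3⟩⟩
    exact ⟨i, by simp only [hi]⟩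

end C3

theorem TH.cs (h : TH Q δ q e t) : ∃ θ : Fin t → H → ℂ, CS Q δ e t θ := by
  classical
  obtain ⟨θ, irr, inj, ne1, con, sm, all⟩ := C3.enum h
  have cs := fun i => h.cons (irr i) (ne1 i) (con i)
  choose lam hlam using fun i => h.toRQ.ex_lam (irr i)
  have e0 : (e : ℂ) ≠ 0 := Nat.cast_ne_zero.2 (h.cE ▸ Nat.card_pos : 0 < e).ne'
  have dl : ∀ (μ : Q →* ℂˣ) (i : Fin t),
      classInner (fun x : Q => θ i x) (fun x => (μ x : ℂ)) ≠ 0 →
      ∀ j, classInner (fun x : Q => θ j x) (fun x => (μ x : ℂ)) = if j = i then 1 else 0 := by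
    intro μ i k j
    have p := (h.toRQ.part (irr i) (con i)).2 μ k
    split_ifs with k'
    · exact k' ▸ p.1
    · by_contra k''
      exact k' (inj (p.2 _ (irr j) (con j) k''))
  have ip : ∀ χ : H → ℂ, IsClassFunction H χ → ∀ (μ : Q →* ℂˣ) (i : Fin t),
      classInner (fun x : Q => θ i x) (fun x => (μ x : ℂ)) ≠ 0 →
      classInner (fun x : Q => χ x) (fun x : Q => θ i x) =
        (e : ℂ) * classInner (fun x : Q => χ x) (fun x => (μ x : ℂ)) := by
    intro χ hχ μ i k
    rw [← h.cE, ← inner_ph (E := EE Q δ) inf_le_left hχ μ]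
    exact congrArg _ (funext fun x => ((cs i).2 μ k).2 x x.2)
  have orth : ∀ i j, classInner (fun x : Q => θ i x) (fun x : Q => θ j x) =
      if i = j then (e : ℂ) else 0 := fun i j => by
    rw [ip _ (irr i).isClassFunction _ j (hlam j), dl _ j (hlam j) i, mul_ite, mul_one, mul_zero]
  have orth1 : ∀ i, classInner (fun x : Q => θ i x) (fun _ => 1) = 0 := fun i => by
    by_contra k
    exact ((cs i).2 1 k).1 rfl
  have und : ∀ μ : Q →* ℂˣ, μ ≠ 1 →
      ∃ i, classInner (fun x : Q => θ i x) (fun x => (μ x : ℂ)) ≠ 0 := fun μ hμ => by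
    obtain ⟨χ, h1, h2, h3⟩ := h.toRQ.ex_cons μ
    obtain ⟨i, rfl⟩ := all χ h1 (by rintro rfl; exact h3 (C3.one_lam hμ)) h2
    exact ⟨i, h3⟩
  refine ⟨θ, irr, inj, ne1, fun i => (cs i).1, sm, orth, orth1, fun i j g hg => ?_,
    fun χ hχ => ?_, fun μ hμ => (und μ hμ).imp fun i k => ((cs i).2 μ k).2⟩
  · by_cases ij : i = j
    · rw [ij]
    have ji : j ≠ i := Ne.symm ij
    have cf : IsClassFunction H (θ i - θ j) := (irr i).isClassFunction.sub (irr j).isClassFunction
    have s1 := card_mul_classInner (θ i - θ j) (θ i - θ j)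
    rw [classInner_sub_left, classInner_sub_right, classInner_sub_right,
      (irr i).classInner_self, (irr j).classInner_self, (irr i).classInner_eq_ite (irr j),
      (irr j).classInner_eq_ite (irr i), if_neg (inj.ne ij), if_neg (inj.ne ji)] at s1
    have s2 := card_mul_classInner ((fun x : Q => θ i x) - fun x : Q => θ j x)
      ((fun x : Q => θ i x) - fun x : Q => θ j x)
    rw [classInner_sub_left, classInner_sub_right, classInner_sub_right, orth, orth, orth, orth,
      if_pos rfl, if_pos rfl, if_neg ij, if_neg ji, C3.cardQ h.toRQ] at s2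
    have s3 := h.tisum (cf.mul cf.conj)
    have n0 : (Nat.card Ω : ℂ) ≠ 0 := Nat.cast_ne_zero.2 (by rw [h.cn]; omega)
    have s4 := Finset.sum_filter_add_sum_filter_not Finset.univ (Sp Q)
      fun g => (θ i - θ j) g * conj ((θ i - θ j) g)
    simp only [Pi.mul_apply, Pi.sub_apply] at s1 s2 s3 s4
    rw [← s2, (cs i).1, (cs j).1, sub_self, zero_mul] at s3
    have s5 : ∑ g ∈ Finset.univ.filter (Sp Q), (θ i g - θ j g) * conj (θ i g - θ j g) =
        (Nat.card H : ℂ) * 2 :=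
      mul_left_cancel₀ (mul_ne_zero n0 e0) (by rw [s3]; ring)
    rw [s5, ← s1] at s4
    have s6 : ∑ g ∈ Finset.univ.filter (fun g => ¬ Sp Q g),
        (θ i g - θ j g) * conj (θ i g - θ j g) = 0 := by linear_combination s4
    simp only [Complex.mul_conj] at s6
    rw [← Complex.ofReal_sum, Complex.ofReal_eq_zero,
      Finset.sum_eq_zero_iff_of_nonneg fun _ _ => Complex.normSq_nonneg _] at s6
    exact sub_eq_zero.1 (Complex.normSq_eq_zero.1
      (s6 g (Finset.mem_filter.2 ⟨Finset.mem_univ _, hg⟩)))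
  · choose m hm using fun μ : Q →* ℂˣ =>
      (hχ.res Q).exists_nat_classInner (isIrrCharacter_monoidHom μ).isCharacter
    refine ⟨m 1, fun j => m (lam j), fun x hx => ?_⟩
    have key : ∀ μ : Q →* ℂˣ, classInner (fun x : Q => χ x) (fun x => (μ x : ℂ)) =
        classInner ((m 1 : ℂ) • (fun _ : Q => (1 : ℂ)) + ∑ j, (m (lam j) : ℂ) • fun x : Q => θ j x)
          (fun x => (μ x : ℂ)) := fun μ => by
      rw [classInner_add_left, classInner_smul_left, classInner_sum_left]
      simp only [classInner_smul_left]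
      by_cases k : μ = 1
      · subst k
        have k1 : classInner (fun _ : Q => (1 : ℂ)) (fun x => ((1 : Q →* ℂˣ) x : ℂ)) = 1 :=
          classInner_one_one
        have k2 : ∀ j, classInner (fun x : Q => θ j x) (fun x => ((1 : Q →* ℂˣ) x : ℂ)) = 0 :=
          orth1
        simp only [k1, k2, hm, mul_one, mul_zero, Finset.sum_const_zero, add_zero]
      · obtain ⟨i, hi⟩ := und μ k
        simp only [C3.one_lam k, dl μ i hi, mul_zero, zero_add, mul_ite, mul_one,
          Finset.sum_ite_eq', Finset.mem_univ, if_true]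
        rw [← hm]
        exact mul_left_cancel₀ e0 ((ip χ hχ.isClassFunction μ i hi).symm.trans
          (ip χ hχ.isClassFunction _ i (hlam i)))
    have k := h.toRQ.fourier (fun x : Q => χ x) ⟨x, hx⟩
    simp only [key] at k
    rw [← h.toRQ.fourier] at k
    simpa using k

end Cfsg.Lib.DRG
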