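import Cfsg.Agent.DRG.Defs

/-! Tower DRG: independence of centralisers in the abelian group `Q`. -/

set_option autoImplicit false
set_option linter.unusedVariables false

namespace Cfsg.Lib.DRG

open MulAction Cfsg.Lib.Perm.Derange Subgroup
open scoped ComplexConjugate

variable {G : Type*} [Group G] [Finite G] {Q B D : Subgroup G}

namespace L2

omit [Finite G] in
theorem exists_phi (h : Lin Q B D) :
    ∃ φ : B → Q →* Q, ∀ (a : B) (x : Q), (φ a x : G) = a * x * (a : G)⁻¹ :=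
  ⟨fun a => ⟨⟨fun x => ⟨a * x * (a : G)⁻¹, h.nQ a a.2 x x.2⟩, Subtype.ext (by simp)⟩,
    fun x y => Subtype.ext (by simp [mul_assoc])⟩, fun _ _ => rfl⟩

/-- `a` separates `U i` from `U j` -/
def Sep (B : Subgroup G) {ι : Type*} (U : ι → Subgroup G) (i j : ι) : Prop :=
  ∃ a ∈ B, (∀ k, ∀ w ∈ U k, a * w * a⁻¹ ∈ U k) ∧ (∀ w ∈ U i, a * w = w * a) ∧
    ∀ w ∈ U j, a * w = w * a → w = 1

theorem Sep_eq_1' : type_of% @Sep.eq_1 := @Sep.eq_1

theorem gen (h : Lin Q B D) {ι : Type*} [Fintype ι] (U : ι → Subgroup G) (hU : ∀ i, U i ≤ Q)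
    (sep : ∀ i j, i ≠ j → Sep B U i j ∨ Sep B U j i) : ∏ i, Nat.card (U i) ≤ Nat.card Q := by
  classical
  let _ : CommGroup Q :=
    { (inferInstance : Group Q) with mul_comm := fun a b => Subtype.ext (h.ab a a.2 b b.2) }
  obtain ⟨φ, hφ⟩ := exists_phi h
  have key : ∀ t : Finset ι, ∀ w : ι → Q, (∀ i, (w i : G) ∈ U i) → ∏ i ∈ t, w i = 1 →
      ∀ i ∈ t, w i = 1 := fun t => by
    induction t using Finset.strongInduction with
    | H t ih =>
    have er : ∀ w : ι → Q, (∀ i, (w i : G) ∈ U i) → ∏ i ∈ t, w i = 1 → ∀ i ∈ t, w i = 1 →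
        ∀ j ∈ t, w j = 1 := fun w hw e i hi e1 j hj => by
      by_cases c : j = i
      · rw [c, e1]
      · refine ih _ (Finset.erase_ssubset hi) w hw ?_ j (Finset.mem_erase.2 ⟨c, hj⟩)
        rwa [← Finset.mul_prod_erase t w hi, e1, one_mul] at e
    intro w hw e
    have st : ∀ i ∈ t, ∀ j ∈ t, Sep B U i j → w j = 1 := fun i hi j hj ⟨a, ha, a1, a2, a3⟩ => by
      have := er (fun k => φ ⟨a, ha⟩ (w k) * (w k)⁻¹)
        (fun k => by
          rw [Subgroup.coe_mul, hφ]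
          exact mul_mem (a1 k _ (hw k)) (inv_mem (hw k)))
        (by rw [Finset.prod_mul_distrib, Finset.prod_inv_distrib, ← map_prod, e]; simp) i hi
        (mul_inv_eq_one.2 (Subtype.ext (by rw [hφ]; simp [a2 _ (hw i)]))) j hj
      have e2 := congrArg Subtype.val (mul_inv_eq_one.1 this)
      rw [hφ] at e2
      exact Subtype.ext (a3 _ (hw j) (mul_inv_eq_iff_eq_mul.1 e2))
    intro i hi
    by_cases c : ∃ j ∈ t, j ≠ i
    · obtain ⟨j, hj, c⟩ := c
      rcases sep j i c with s | s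
      · exact st j hj i hi s
      · exact er w hw e j hj (st i hi j hj s) i hi
    · rwa [Finset.prod_eq_single_of_mem i hi fun j hj c' => absurd ⟨j, hj, c'⟩ c] at e
  rw [← Nat.card_pi]
  refine Nat.card_le_card_of_injective
    (fun f : ∀ i, U i => ∏ i, (⟨f i, hU i (f i).2⟩ : Q)) fun f g e => funext fun i => ?_
  have := key Finset.univ (fun i => ⟨f i, hU i (f i).2⟩ * (⟨g i, hU i (g i).2⟩ : Q)⁻¹)
    (fun i => mul_mem (f i).2 (inv_mem (g i).2))
    (by rw [Finset.prod_mul_distrib, Finset.prod_inv_distrib]; exact mul_inv_eq_one.2 e) i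
    (Finset.mem_univ i)
  exact Subtype.ext (congrArg (fun x : Q => (x : G)) (mul_inv_eq_one.1 this))

theorem zc {r : ℕ} (hr : r.Prime) {z : G} (hzr : orderOf z = r)
    (hf : ∀ w ∈ Q, z * w = w * z → w = 1) {y w : G} (hy : y ∈ zpowers z) (y1 : y ≠ 1)
    (hw : w ∈ Q) (e : y * w = w * y) : w = 1 := by
  obtain ⟨k, rfl⟩ := (mem_powers_iff_mem_zpowers.2 hy : y ∈ Submonoid.powers z)
  have c : ¬ r ∣ k := fun d => y1 (orderOf_dvd_iff_pow_eq_one.1 (hzr ▸ d))
  have : z ∈ zpowers (z ^ k) := mem_zpowers_pow_iff.2 (by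
    rw [hzr]; exact ((Nat.Prime.coprime_iff_not_dvd hr).2 c).symm)
  exact hf w hw (mem_centralizer_singleton_iff.1
    ((zpowers_le.2 (mem_centralizer_singleton_iff.2 e) : _ ≤ centralizer {w}) this))

omit [Finite G] in
theorem cj_cent {a x w : G} (e : a * x = x * a) (hw : w * x = x * w) :
    a * w * a⁻¹ * x = x * (a * w * a⁻¹) := by
  have e' : a⁻¹ * x = x * a⁻¹ := (Commute.inv_left e).eq
  rw [mul_assoc, e', ← mul_assoc, mul_assoc a, hw, ← mul_assoc, e]; group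

end L2

theorem Lin.ind (h : Lin Q B D) {Z : Subgroup G} (hZ : Z ≤ B)
    (hab : ∀ x ∈ Z, ∀ y ∈ Z, x * y = y * x) (s : Finset (Subgroup G))
    (hs : ∀ V ∈ s, V ≤ Z ∧ ∀ w ∈ Q ⊓ centralizer (V : Set G), w ≠ 1 → Z ⊓ centralizer {w} ≤ V) :
    ∏ V ∈ s, Nat.card ↥(Q ⊓ centralizer (V : Set G)) ≤ Nat.card Q := by
  rw [← Finset.prod_coe_sort]
  have key : ∀ i j : s, ¬ i.1 ≤ j.1 →
      L2.Sep B (fun V : s => Q ⊓ centralizer (V.1 : Set G)) i j := fun i j c => by
    obtain ⟨a, a1, a2⟩ := SetLike.not_le_iff_exists.1 c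
    have aZ := (hs i i.2).1 a1
    refine ⟨a, hZ aZ, fun k w hw => ⟨h.nQ a (hZ aZ) w hw.1, fun x hx => ?_⟩,
      fun w hw => hw.2 a a1, fun w hw e => ?_⟩
    · exact (L2.cj_cent (hab a aZ x ((hs k k.2).1 hx)) (hw.2 x hx).symm).symm
    · by_contra w1
      exact a2 ((hs j j.2).2 w hw w1 ⟨aZ, mem_centralizer_singleton_iff.2 e⟩)
  refine L2.gen h (fun V : s => Q ⊓ centralizer (V.1 : Set G)) (fun _ => inf_le_left)
    fun i j c => ?_
  by_cases e : i.1 ≤ j.1
  · exact Or.inr (key j i fun e' => c (Subtype.ext (le_antisymm e e')))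
  · exact Or.inl (key i j e)

theorem Lin.nc (h : Lin Q B D) {U : Subgroup G} (hU : U ≤ Q) (h1 : U ≠ ⊥) {r : ℕ} (hr : r.Prime)
    {e z : G} (he : e ∈ B ⊓ D) (hz : z ∈ B ⊓ D) (hez : e * z = z * e) (her : e ^ r = 1)
    (hzr : orderOf z = r) (hne : e ∉ zpowers z) (heU : ∀ u ∈ U, e * u * e⁻¹ ∈ U)
    (hzU : ∀ u ∈ U, z * u * z⁻¹ ∈ U) (hf : ∀ w ∈ Q, z * w = w * z → w = 1) :
    ∃ (k : ℕ) (w : G), w ∈ U ∧ w ≠ 1 ∧ e * z ^ k * w = w * (e * z ^ k) := by
  by_contra! f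
  let _ : CommGroup Q :=
    { (inferInstance : Group Q) with mul_comm := fun a b => Subtype.ext (h.ab a a.2 b b.2) }
  obtain ⟨φ, hφ⟩ := L2.exists_phi h
  have hm : ∀ a b : B, ∀ x, φ (a * b) x = φ a (φ b x) := fun a b x =>
    Subtype.ext (by simp only [hφ, Subgroup.coe_mul]; group)
  have h0 : ∀ x, φ 1 x = x := fun x => Subtype.ext (by simp [hφ])
  have nr : ∀ a : B, a ^ r = 1 → ∀ u : Q,
      (a : G) * (∏ j ∈ Finset.range r, φ (a ^ j) u : Q) =
        (∏ j ∈ Finset.range r, φ (a ^ j) u : Q) * (a : G) := fun a ha u => by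
    rw [← mul_inv_eq_iff_eq_mul, ← hφ]
    refine congrArg Subtype.val ?_
    have e1 := Finset.prod_range_succ (fun j => φ (a ^ j) u) r
    have e2 := Finset.prod_range_succ' (fun j => φ (a ^ j) u) r
    rw [ha, e2, pow_zero] at e1
    rw [map_prod, ← mul_right_cancel e1]
    exact Finset.prod_congr rfl fun j _ => by rw [pow_succ', hm]
  let S : Submonoid G :=
    { carrier := {a | ∀ u ∈ U, a * u * a⁻¹ ∈ U}
      one_mem' := fun u hu => by simpa using hu
      mul_mem' := fun {a b} ha hb u hu => by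
        have := ha _ (hb u hu)
        convert this using 1; group }
  obtain ⟨⟨u, hu⟩, u1⟩ := ne_bot_iff_exists_ne_one.1 h1
  let e' : B := ⟨e, he.1⟩
  let z' : B := ⟨z, hz.1⟩
  let u' : Q := ⟨u, hU hu⟩
  have c : Commute e' z' := Subtype.ext hez
  have zr : z' ^ r = 1 := Subtype.ext (by rw [← hzr]; exact pow_orderOf_eq_one z)
  have n1 : ∀ k : ℕ, ∏ j ∈ Finset.range r, φ ((e' * z' ^ k) ^ j) u' = 1 := fun k => by
    by_contra n
    refine f k _ ?_ (fun x => n (Subtype.ext x)) (nr (e' * z' ^ k) ?_ u')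
    · refine (U.subgroupOf Q).prod_mem fun j _ => mem_subgroupOf.2 ?_
      rw [hφ]
      exact S.pow_mem (S.mul_mem heU (S.pow_mem hzU k)) j u hu
    · rw [(c.pow_right k).mul_pow, ← pow_mul, mul_comm k, pow_mul, zr, one_pow, mul_one]
      exact Subtype.ext her
  have n2 : ∀ j : ℕ, j + 1 < r → ∏ k ∈ Finset.range r, φ ((z' ^ (j + 1)) ^ k) u' = 1 :=
    fun j hj => Subtype.ext (L2.zc hr hzr hf (y := z ^ (j + 1)) (npow_mem_zpowers z _)
      (pow_ne_one_of_lt_orderOf (by omega) (hzr ▸ hj)) (Subtype.prop _)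
      (nr (z' ^ (j + 1)) (by rw [← pow_mul, mul_comm, pow_mul, zr, one_pow]) u'))
  have n3 : u' ^ r = 1 := by
    have e1 : ∏ k ∈ Finset.range r, ∏ j ∈ Finset.range r, φ ((e' * z' ^ k) ^ j) u' = 1 :=
      Finset.prod_eq_one fun k _ => n1 k
    obtain ⟨m, rfl⟩ : ∃ m, r = m + 1 := ⟨r - 1, by have := hr.pos; omega⟩
    rw [Finset.prod_comm, Finset.prod_range_succ', Finset.prod_eq_one, one_mul] at e1
    · simpa [h0] using e1
    · intro j hj
      have := congrArg (φ (e' ^ (j + 1))) (n2 j (by simpa using hj))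
      rw [map_prod, map_one] at this
      rw [← this]
      exact Finset.prod_congr rfl fun k _ => by
        rw [(c.pow_right k).mul_pow, hm, ← pow_mul, ← pow_mul, mul_comm k]
  have := Fact.mk hr
  have o1 : orderOf u' = r := orderOf_eq_prime n3 fun x => u1 (Subtype.ext (congrArg
    (fun y : Q => (y : G)) x))
  have o2 : orderOf (⟨z, hz⟩ : ↥(B ⊓ D)) = r := by rw [← hzr, Subgroup.orderOf_mk]
  exact hr.one_lt.ne' (Nat.eq_one_of_dvd_coprimes h.cop (o1 ▸ orderOf_dvd_natCard u')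
    (o2 ▸ orderOf_dvd_natCard _))

theorem Lin.pw (h : Lin Q B D) {r : ℕ} (hr : r.Prime) {e z : G} (he : e ∈ B) (hz : z ∈ B)
    (hez : e * z = z * e) (her : e ^ r = 1) (hzr : orderOf z = r) (hne : e ∉ zpowers z)
    (hf : ∀ w ∈ Q, z * w = w * z → w = 1) (hc : ∀ i : ℕ, ∃ b ∈ B, b * e * b⁻¹ = e * z ^ i) :
    Nat.card ↥(Q ⊓ centralizer {e}) ^ r ≤ Nat.card Q := by
  have c : Commute e z := hez
  refine le_trans ?_ (L2.gen h (fun i : Fin r => Q ⊓ centralizer {e * z ^ (i : ℕ)})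
    (fun _ => inf_le_left) fun i j ij => Or.inl ?_)
  · rw [← Fin.prod_const]
    refine Finset.prod_le_prod' fun i _ => ?_
    obtain ⟨b, hb, e1⟩ := hc i
    refine Nat.card_le_card_of_injective (fun w => ⟨b * w * b⁻¹, h.nQ b hb w w.2.1,
      mem_centralizer_singleton_iff.2 ?_⟩) fun x y e2 => Subtype.ext ?_
    · rw [← e1]
      calc _ = b * (w * e) * b⁻¹ := by group
        _ = _ := by rw [mem_centralizer_singleton_iff.1 w.2.2]; group
    · simpa using congrArg Subtype.val e2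
  · have aB := mul_mem he (pow_mem hz (i : ℕ))
    refine ⟨_, aB, fun k w hw => ⟨h.nQ _ aB w hw.1, mem_centralizer_singleton_iff.2
      (L2.cj_cent ?_ (mem_centralizer_singleton_iff.1 hw.2))⟩,
      fun w hw => (mem_centralizer_singleton_iff.1 hw.2).symm, fun w hw e1 => ?_⟩
    · exact (((Commute.refl e).mul_right (c.pow_right k)).mul_left
        ((c.symm.pow_left i).mul_right (Commute.pow_pow_self z i k))).eq
    · refine L2.zc hr hzr hf (y := (z ^ (j : ℕ))⁻¹ * z ^ (i : ℕ))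
        (mul_mem (inv_mem (npow_mem_zpowers z _)) (npow_mem_zpowers z _)) (fun x => ij ?_) hw.1 ?_
      · exact Fin.ext (pow_injOn_Iio_orderOf (x := z) (hzr ▸ j.2) (hzr ▸ i.2)
          (inv_mul_eq_one.1 x)).symm
      · have e2 : Commute (e * z ^ (j : ℕ)) w := (mem_centralizer_singleton_iff.1 hw.2).symm
        have e3 := (e2.inv_left.mul_left e1).eq
        rwa [show (e * z ^ (j : ℕ))⁻¹ * (e * z ^ (i : ℕ)) = (z ^ (j : ℕ))⁻¹ * z ^ (i : ℕ) by
          group] at e3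

end Cfsg.Lib.DRG
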