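import Cfsg.Agent.DRG.L1
import Cfsg.Agent.DRG.L2

set_option autoImplicit false

namespace Cfsg.Lib.DRG

open Subgroup

namespace L3

variable {G : Type*} [Group G]

/-- conjugate subgroup -/
def cj (b : G) (V : Subgroup G) : Subgroup G := V.map (MulAut.conj b).toMonoidHom

theorem mem_cj {b : G} {V : Subgroup G} {x : G} : x ∈ cj b V ↔ b⁻¹ * x * b ∈ V := by
  constructor
  · rintro ⟨y, hy, rfl⟩
    simpa [mul_assoc] using hy
  · intro h
    exact ⟨_, h, by simp [mul_assoc]⟩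

theorem card_cj (b : G) (V : Subgroup G) : Nat.card (cj b V) = Nat.card V :=
  card_map_of_injective (MulAut.conj b).injective

theorem cmm {b x w : G} (h : x * w = w * x) :
    (b⁻¹ * x * b) * (b⁻¹ * w * b) = (b⁻¹ * w * b) * (b⁻¹ * x * b) := by
  calc (b⁻¹ * x * b) * (b⁻¹ * w * b) = b⁻¹ * (x * w) * b := by group
    _ = b⁻¹ * (w * x) * b := by rw [h]
    _ = _ := by group

end L3

open L3

variable {G : Type*} [Group G] [Finite G] {Q B D : Subgroup G}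

theorem Lin.abel (h : Lin Q B D) {Z : Subgroup G} (hZ : Z ≤ B ⊓ D)
    (hab : ∀ x ∈ Z, ∀ y ∈ Z, x * y = y * x) (hinv : ∀ b ∈ B, ∀ y ∈ Z, b * y * b⁻¹ ∈ Z)
    {x : G} (hx : x ∈ Z) (h1 : x ≠ 1) : ∀ w ∈ Q, x * w = w * x → w = 1 := by
  classical
  intro w0 hw0 hxw
  by_contra hw01
  have hZB : Z ≤ B := hZ.trans inf_le_left
  obtain ⟨w, ⟨hwQ, hw1⟩, hmax⟩ := Set.exists_max_image {w : G | w ∈ Q ∧ w ≠ 1}
    (fun w => Nat.card ↥(Z ⊓ centralizer {w})) (Set.toFinite _) ⟨w0, hw0, hw01⟩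
  set V := Z ⊓ centralizer ({w} : Set G) with hV
  have hVZ : V ≤ Z := inf_le_left
  have hV1 : V ≠ ⊥ := by
    intro e
    have h2 := hmax w0 ⟨hw0, hw01⟩
    rw [e, card_bot] at h2
    have h3 : Z ⊓ centralizer ({w0} : Set G) = ⊥ := eq_bot_of_card_le _ h2
    have h4 : x ∈ Z ⊓ centralizer ({w0} : Set G) :=
      ⟨hx, mem_centralizer_singleton_iff.2 hxw⟩
    rw [h3] at h4
    exact h1 (mem_bot.1 h4)
  have hwU : w ∈ Q ⊓ centralizer (V : Set G) :=
    ⟨hwQ, fun v hv => mem_centralizer_singleton_iff.1 hv.2⟩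
  have hkey : ∀ w' ∈ Q ⊓ centralizer (V : Set G), w' ≠ 1 → Z ⊓ centralizer {w'} ≤ V := by
    intro w' hw' h1'
    have hle : V ≤ Z ⊓ centralizer {w'} := fun v hv =>
      ⟨hv.1, mem_centralizer_singleton_iff.2 (hw'.2 v hv)⟩
    exact (eq_of_le_of_card_ge hle (hmax w' ⟨hw'.1, h1'⟩)).ge
  set y := Nat.card ↥(Q ⊓ centralizer (V : Set G)) with hy
  have hcU : ∀ b ∈ B, Q ⊓ centralizer (cj b V : Set G) = cj b (Q ⊓ centralizer (V : Set G)) := by
    intro b hb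
    ext u
    rw [mem_cj, mem_inf, mem_inf]
    constructor
    · rintro ⟨hu, hc⟩
      refine ⟨by simpa using h.nQ _ (inv_mem hb) u hu, fun v hv => ?_⟩
      have h5 : b * v * b⁻¹ ∈ cj b V := mem_cj.2 (by simpa [mul_assoc] using hv)
      have h6 := cmm (b := b) (hc _ h5)
      simpa [mul_assoc] using h6
    · rintro ⟨hu, hc⟩
      refine ⟨by simpa [mul_assoc] using h.nQ _ hb _ hu, fun v hv => ?_⟩
      have h6 := cmm (b := b⁻¹) (hc _ (mem_cj.1 hv))
      simpa [mul_assoc] using h6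
  let s : Finset (Subgroup G) := (Set.toFinite {W | ∃ b ∈ B, cj b V = W}).toFinset
  have hs : ∀ W, W ∈ s ↔ ∃ b ∈ B, cj b V = W := fun W => by simp [s]
  have hsy : ∀ W ∈ s, Nat.card ↥(Q ⊓ centralizer (W : Set G)) = y := by
    intro W hW
    obtain ⟨b, hb, rfl⟩ := (hs W).1 hW
    rw [hcU b hb, card_cj]
  have hind := h.ind hZB hab s (by
    intro W hW
    obtain ⟨b, hb, rfl⟩ := (hs W).1 hW
    refine ⟨fun v hv => by simpa [mul_assoc] using hinv b hb _ (hVZ (mem_cj.1 hv)), ?_⟩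
    intro w' hw' h1' v hv
    rw [hcU b hb, mem_cj] at hw'
    refine mem_cj.2 (hkey _ hw' (fun e => h1' ?_) ⟨by simpa using hinv _ (inv_mem hb) v hv.1, ?_⟩)
    · have : w' = b * (b⁻¹ * w' * b) * b⁻¹ := by group
      rw [this, e]; simp
    · exact mem_centralizer_singleton_iff.2 (cmm (mem_centralizer_singleton_iff.1 hv.2)))
  rw [Finset.prod_congr rfl hsy, Finset.prod_const] at hind
  have hVs : V ∈ s := (hs V).2 ⟨1, one_mem _, by ext v; simp [mem_cj]⟩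
  have hnb : ∀ Y ≤ B, Y ≠ ⊥ → (∀ b ∈ B, ∀ v ∈ Y, b * v * b⁻¹ ∈ Y) → Y ≠ V := by
    intro Y hY hY1 hYi e
    have h5 := h.cfix hY hY1 hYi
    rw [e] at h5
    rw [h5] at hwU
    exact hw1 (mem_bot.1 hwU)
  have ht : 2 ≤ s.card := by
    by_contra hc
    have hc' : s.card ≤ 1 := by omega
    refine hnb V (hVZ.trans hZB) hV1 (fun b hb v hv => ?_) rfl
    have e : cj b V = V := Finset.card_le_one.1 hc' _ ((hs _).2 ⟨b, hb, rfl⟩) _ hVs
    rw [← e, mem_cj]
    simpa [mul_assoc] using hv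
  have hy1 : 1 ≤ y := Nat.card_pos
  have hcl : {u | ∃ b ∈ B, b * w * b⁻¹ = u}.ncard ≤ s.card * (y - 1) := by
    let T : Subgroup G → Finset G := fun W =>
      (Set.toFinite ((Q ⊓ centralizer (W : Set G) : Subgroup G) : Set G)).toFinset.erase 1
    have hsub : {u | ∃ b ∈ B, b * w * b⁻¹ = u} ⊆ ↑(s.biUnion T) := by
      rintro _ ⟨b, hb, rfl⟩
      simp only [Finset.coe_biUnion, Set.mem_iUnion, Finset.mem_coe]
      refine ⟨cj b V, (hs _).2 ⟨b, hb, rfl⟩, Finset.mem_erase.2 ⟨fun e => hw1 ?_, ?_⟩⟩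
      · have : w = b⁻¹ * (b * w * b⁻¹) * b := by group
        rw [this, e]; simp
      · rw [Set.Finite.mem_toFinset, SetLike.mem_coe, hcU b hb, mem_cj]
        simpa [mul_assoc] using hwU
    refine (Set.ncard_le_ncard hsub (Finset.finite_toSet _)).trans ?_
    rw [Set.ncard_coe_finset]
    refine Finset.card_biUnion_le_card_mul _ _ _ fun W hW => ?_
    rw [Finset.card_erase_of_mem (by simp), ← Set.ncard_eq_toFinset_card, ← hsy W hW]
    exact le_of_eq rfl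
  have hZ1 : Z ≠ ⊥ := fun e => h1 (by rw [e] at hx; exact mem_bot.1 hx)
  have hZV : Z ≠ V := hnb Z hZB hZ1 hinv
  have h2V : 2 * Nat.card V ≤ Nat.card Z := by
    obtain ⟨k, hk⟩ := card_dvd_of_le hVZ
    have hk1 : k ≠ 1 := by
      rintro rfl
      exact hZV (eq_of_le_of_card_ge hVZ (by omega)).symm
    have hk0 : k ≠ 0 := by
      rintro rfl
      have : 0 < Nat.card Z := Nat.card_pos
      omega
    rw [hk, mul_comm]
    exact Nat.mul_le_mul_left _ (by omega)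
  have horb := h.orb hZ hwQ hw1
  rw [← hV] at horb
  have hVp : 0 < Nat.card V := Nat.card_pos
  have h2m : 2 * D.index ≤ s.card * (y - 1) := by
    refine Nat.le_of_mul_le_mul_right ?_ hVp
    calc 2 * D.index * Nat.card V = D.index * (2 * Nat.card V) := by ring
      _ ≤ D.index * Nat.card Z := Nat.mul_le_mul_left _ h2V
      _ ≤ _ := horb
      _ ≤ _ := Nat.mul_le_mul_right _ hcl
  exact absurd (bern ht h2m hy1 hind) (not_le.2 h.sm)

theorem Lin.uniq (h : Lin Q B D) {Z : Subgroup G} (hZ : Z ≤ B ⊓ D)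
    (hab : ∀ x ∈ Z, ∀ y ∈ Z, x * y = y * x) (hinv : ∀ b ∈ B, ∀ y ∈ Z, b * y * b⁻¹ ∈ Z)
    {r : ℕ} (hr : r.Prime) {e z : G} (he : e ∈ Z) (hz : z ∈ Z) (her : e ^ r = 1)
    (hzr : orderOf z = r) : e ∈ zpowers z := by
  by_contra hne
  have hz1 : z ≠ 1 := by
    rintro rfl
    rw [orderOf_one] at hzr
    exact hr.one_lt.ne hzr
  have hQ : Q ≠ ⊥ := by
    intro e'
    refine hz1 (h.fai z (hZ hz).1 fun x hx => ?_)
    rw [e'] at hx
    rw [mem_bot.1 hx, mul_one, one_mul]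
  obtain ⟨k, w, hw, hw1, hc⟩ := h.nc le_rfl hQ hr (hZ he) (hZ hz) (hab e he z hz) her hzr hne
    (h.nQ e (hZ he).1) (h.nQ z (hZ hz).1) (h.abel hZ hab hinv hz hz1)
  refine hw1 (h.abel hZ hab hinv (mul_mem he (pow_mem hz k)) (fun e' => hne ?_) w hw hc)
  rw [eq_inv_of_mul_eq_one_left e']
  exact inv_mem (pow_mem (mem_zpowers z) k)

end Cfsg.Lib.DRG
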