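import Cfsg.Agent.DRG.L1
import Cfsg.Agent.DRG.L2
import Cfsg.Agent.DRG.L3

set_option autoImplicit false
set_option linter.unusedSectionVars false

namespace Cfsg.Lib.DRG

open MulAction Cfsg.Lib.Perm.Derange Subgroup
open scoped ComplexConjugate

variable {G : Type*} [Group G] [Finite G] {Q B D : Subgroup G}
variable {X : Subgroup G} {z : G} {r : ℕ}

theorem L4.zp (hx : XS B D X z r) : ∀ b ∈ B, ∀ y ∈ zpowers z, b * y * b⁻¹ ∈ zpowers z := by
  rintro b hb _ ⟨k, rfl⟩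
  exact conj_zpow (a := b) ▸ zpow_mem (hx.zinv b hb) k

theorem L4.z1 (hx : XS B D X z r) : z ≠ 1 := fun e =>
  hx.prime.one_lt.ne (by rw [← hx.ord, e, orderOf_one])

theorem XS.zf (h : Lin Q B D) (hx : XS B D X z r) {c : G} (hc : c ∈ zpowers z) (h1 : c ≠ 1) :
    ∀ w ∈ Q, c * w = w * c → w = 1 :=
  h.abel (Z := zpowers z) (zpowers_le.2 (hx.le hx.mem))
    (by rintro _ ⟨i, rfl⟩ _ ⟨j, rfl⟩; exact zpow_mul_comm z i j) (L4.zp hx) hc h1

theorem XS.ncen (h : Lin Q B D) (hx : XS B D X z r) {e : G} (he : e ∈ X) (her : e ^ r = 1)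
    (hne : e ∉ zpowers z) : ∃ f ∈ X, f * e ≠ e * f := by
  by_contra k
  push Not at k
  refine hne (h.uniq (Z := X ⊓ centralizer (X : Set G)) (inf_le_left.trans hx.le)
    (fun x hx' y hy => hy.2 x hx'.1) (fun b hb y hy => ⟨hx.inv b hb y hy.1, fun x hx' => ?_⟩)
    hx.prime ⟨he, k⟩ ⟨hx.mem, hx.cen⟩ her hx.ord)
  have := hy.2 _ (hx.inv _ (inv_mem hb) x hx')
  calc _ = b * (b⁻¹ * x * b⁻¹⁻¹ * y) * b⁻¹ := by group
    _ = _ := by rw [this]; group

theorem XS.bd (h : Lin Q B D) (hx : XS B D X z r) {e : G} (he : e ∈ X) (her : e ^ r = 1)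
    (hne : e ∉ zpowers z) :
    Nat.card ↥(Q ⊓ centralizer {e}) ^ r ≤ Nat.card Q ∧ ∃ v ∈ Q, v ≠ 1 ∧ e * v = v * e := by
  have : Fact r.Prime := ⟨hx.prime⟩
  obtain ⟨f, hf, n⟩ := XS.ncen h hx he her hne
  have hc := hx.comm f hf e he
  have c1 : f * e * f⁻¹ * e⁻¹ ≠ 1 := fun k => n (by
    rw [mul_inv_eq_one, mul_inv_eq_iff_eq_mul] at k; exact k)
  have e1 : f * e * f⁻¹ = f * e * f⁻¹ * e⁻¹ * e := by group
  generalize f * e * f⁻¹ * e⁻¹ = c at hc c1 e1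
  have fc : Commute f c := by
    obtain ⟨k, rfl⟩ := hc
    exact Commute.zpow_right (hx.cen f hf) k
  have e2 : ∀ j : ℕ, f ^ j * e * (f ^ j)⁻¹ = c ^ j * e := fun j => by
    induction j with
    | zero => simp
    | succ j ih =>
      calc _ = f * (f ^ j * e * (f ^ j)⁻¹) * f⁻¹ := by rw [pow_succ']; group
        _ = c ^ j * (f * e * f⁻¹) := by rw [ih, ← mul_assoc, (fc.pow_right j).eq]; group
        _ = _ := by rw [e1, pow_succ, mul_assoc]
  have e3 : ∀ i : ℕ, ∃ b ∈ B, b * e * b⁻¹ = e * z ^ i := fun i => by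
    obtain ⟨j, hj⟩ := mem_powers_of_prime_card (G := zpowers z) (p := r)
      (by rw [Nat.card_zpowers, hx.ord]) (g := ⟨c, hc⟩)
      (g' := ⟨z ^ i, pow_mem (mem_zpowers z) i⟩) fun k => c1 (congrArg Subtype.val k)
    have hj' : c ^ j = z ^ i := congrArg Subtype.val hj
    exact ⟨f ^ j, pow_mem (hx.le hf).1 j, by
      rw [e2, hj', (Commute.pow_right (hx.cen e he) i).eq]⟩
  have zf := XS.zf h hx (mem_zpowers z) (L4.z1 hx)
  refine ⟨h.pw hx.prime (hx.le he).1 (hx.le hx.mem).1 (hx.cen e he) her hx.ord hne zf e3, ?_⟩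
  obtain ⟨k, w, hw, w1, e4⟩ := h.nc le_rfl (fun k => L4.z1 hx (h.fai z (hx.le hx.mem).1
    fun x hx' => by rw [mem_bot.1 (k.le hx')]; simp)) hx.prime (hx.le he) (hx.le hx.mem)
    (hx.cen e he) her hx.ord hne (h.nQ e (hx.le he).1) (h.nQ z (hx.le hx.mem).1) zf
  obtain ⟨b, hb, e5⟩ := e3 k
  refine ⟨_, h.nQ _ (inv_mem hb) w hw, fun k => w1 (conj_eq_one_iff.1 k), ?_⟩
  rw [← e5] at e4
  calc _ = b⁻¹ * (b * e * b⁻¹ * w) * b := by group
    _ = _ := by rw [e4]; group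

/-- the counting inequality for `I = {e ∈ X | e ^ r = 1, e ∉ ⟨z⟩}` -/
theorem XS.cnt (h : Lin Q B D) (hx : XS B D X z r) {v : G} (hv : v ∈ Q) (h1 : v ≠ 1) :
    ∃ y, 1 ≤ y ∧ y ^ r ≤ Nat.card Q ∧
      D.index * Nat.card X * (Nat.card ↥(X ⊓ centralizer {v}) - 1) ≤
        Nat.card ↥(X ⊓ centralizer {v}) * {e | e ∈ X ∧ e ^ r = 1 ∧ e ∉ zpowers z}.ncard *
          (y - 1) := by
  have p1 : 1 ≤ Nat.card Q := Nat.card_pos
  have p2 : 1 ^ r ≤ Nat.card Q := by simpa using p1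
  refine ⟨Nat.findGreatest (fun n => n ^ r ≤ Nat.card Q) (Nat.card Q), Nat.le_findGreatest p1 p2,
    Nat.findGreatest_spec (P := fun n => n ^ r ≤ Nat.card Q) p1 p2, le_trans ?_ (h.cnt hx.le
      (I := {e | e ∈ X ∧ e ^ r = 1 ∧ e ∉ zpowers z}) (fun b hb e he => ⟨hx.inv b hb e he.1, ?_,
        fun k => he.2.2 ?_⟩) (fun e he => ?_) hv h1)⟩
  · refine Nat.mul_le_mul_left _ ?_
    rw [← SetLike.coe_sort_coe, Nat.card_coe_set_eq,
      ← Set.ncard_sdiff_singleton_of_mem (one_mem _)]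
    refine Set.ncard_le_ncard (fun x ⟨k1, k2⟩ => ?_) (Set.toFinite _)
    have k3 : x * v = v * x := (mem_centralizer_singleton_iff.1 k1.2)
    exact ⟨⟨k1.1, by_contra fun n => h1 (XS.zf h hx (hx.pow x k1.1) n v hv
      (Commute.pow_left k3 r)), fun n => h1 (XS.zf h hx n k2 v hv k3)⟩, k3⟩
  · rw [conj_pow, he.2.1, mul_one, mul_inv_cancel]
  · simpa [mul_assoc] using L4.zp hx _ (inv_mem hb) _ k
  · have := (XS.bd h hx he.1 he.2.1 he.2.2).1
    exact Nat.le_findGreatest ((Nat.le_self_pow hx.prime.ne_zero _).trans this) this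

theorem XS.odd (h : Lin Q B D) (hx : XS B D X z r) (hr : r ≠ 2) {e : G} (he : e ∈ X)
    (her : e ^ r = 1) : e ∈ zpowers z := by
  have : Fact r.Prime := ⟨hx.prime⟩
  by_contra hne
  obtain ⟨v, hv, v1, ev⟩ := (XS.bd h hx he her hne).2
  obtain ⟨y, y1, y2, y3⟩ := XS.cnt h hx hv v1
  have r3 : 3 ≤ r := by have := hx.prime.two_le; omega
  have k3 : r ≤ Nat.card ↥(X ⊓ centralizer {v}) := Nat.le_of_dvd Nat.card_pos (by
    rw [← orderOf_eq_prime her fun k => hne (k ▸ one_mem _)]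
    exact orderOf_dvd_natCard _ ⟨he, mem_centralizer_singleton_iff.2 ev⟩)
  have i1 : {e | e ∈ X ∧ e ^ r = 1 ∧ e ∉ zpowers z}.ncard ≤ Nat.card X := by
    rw [← SetLike.coe_sort_coe, Nat.card_coe_set_eq]
    exact Set.ncard_le_ncard (fun _ k => k.1) (Set.toFinite _)
  have x0 : 0 < Nat.card X := Nat.card_pos
  refine h.sm.not_ge (bern hx.prime.two_le ?_ y1 y2)
  generalize Nat.card ↥(X ⊓ centralizer {v}) = k at y3 k3
  obtain ⟨k, rfl⟩ : ∃ l, k = l + 1 := ⟨k - 1, by omega⟩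
  rw [Nat.add_sub_cancel] at y3
  have i2 : D.index * k ≤ (k + 1) * (y - 1) := Nat.le_of_mul_le_mul_left (by
    calc Nat.card X * (D.index * k) = _ := by ring
      _ ≤ _ := y3
      _ ≤ (k + 1) * Nat.card X * (y - 1) := Nat.mul_le_mul_right _ (Nat.mul_le_mul_left _ i1)
      _ = _ := by ring) x0
  have i3 : 2 * D.index ≤ 3 * (y - 1) := Nat.le_of_mul_le_mul_left (by
    calc (k + 1) * (2 * D.index) = D.index * (2 * (k + 1)) := by ring
      _ ≤ D.index * (3 * k) := Nat.mul_le_mul_left _ (by omega)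
      _ = 3 * (D.index * k) := by ring
      _ ≤ 3 * ((k + 1) * (y - 1)) := Nat.mul_le_mul_left _ i2
      _ = (k + 1) * (3 * (y - 1)) := by ring) (Nat.succ_pos k)
  exact i3.trans (Nat.mul_le_mul_right _ r3)

end Cfsg.Lib.DRG
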