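import Cfsg.Agent.DRG.L1
import Cfsg.Agent.DRG.L2
import Cfsg.Agent.DRG.L4

/-! Tower DRG: the case `r = 2` of the extraspecial-type configuration. -/

set_option autoImplicit false

namespace Cfsg.Lib.DRG

open MulAction Cfsg.Lib.Perm.Derange Subgroup
open scoped ComplexConjugate

namespace L5

theorem arith {m n i k y a b : ℕ} (h : m * n * (k - 1) ≤ k * i * y) (h1 : a * i ≤ b * n)
    (h2 : b * k ≤ a * (k - 1)) (ha : 0 < a) (hn : 0 < n) (hk : 2 ≤ k) : m ≤ y := by
  have h3 : 0 < a * (n * (k - 1)) := Nat.mul_pos ha (Nat.mul_pos hn (by omega))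
  refine Nat.le_of_mul_le_mul_left ?_ h3
  calc a * (n * (k - 1)) * m = a * (m * n * (k - 1)) := by ring
    _ ≤ a * (k * i * y) := Nat.mul_le_mul_left _ h
    _ = k * y * (a * i) := by ring
    _ ≤ k * y * (b * n) := Nat.mul_le_mul_left _ h1
    _ = n * y * (b * k) := by ring
    _ ≤ n * y * (a * (k - 1)) := Nat.mul_le_mul_left _ h2
    _ = a * (n * (k - 1)) * y := by ring

variable {G : Type*} [Group G]

theorem zz {z c : G} (hz : orderOf z = 2) (hc : c ∈ zpowers z) : c = 1 ∨ c = z := by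
  obtain ⟨k, rfl⟩ := mem_zpowers_iff.1 hc
  have h2 : z ^ (2 : ℤ) = 1 := by
    have := pow_orderOf_eq_one z
    rw [hz] at this
    exact_mod_cast this
  rcases Int.even_or_odd' k with ⟨j, rfl | rfl⟩
  · left; rw [zpow_mul, h2, one_zpow]
  · right; rw [zpow_add, zpow_mul, h2, one_zpow, one_mul, zpow_one]

theorem four [Finite G] {S : Set G} {a b : G} (h1 : 1 ∈ S) (ha : a ∈ S) (hb : b ∈ S)
    (hab : a * b ∈ S) (a1 : a ≠ 1) (b1 : b ≠ 1) (ab : a ≠ b) (aa : a * a = 1) : 4 ≤ S.ncard := by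
  classical
  have n1 : a * b ≠ 1 := fun e => ab (mul_left_cancel (aa.trans e.symm))
  have h0 : (({1, a, b, a * b} : Finset G) : Set G) ⊆ S := by
    intro t ht
    simp only [Finset.coe_insert, Finset.coe_singleton, Set.mem_insert_iff,
      Set.mem_singleton_iff] at ht
    rcases ht with rfl | rfl | rfl | rfl <;> assumption
  have h2 : ({1, a, b, a * b} : Finset G).card = 4 := by
    rw [Finset.card_insert_of_notMem (by simp [a1.symm, b1.symm, n1.symm]),
      Finset.card_insert_of_notMem (by simp [ab, b1]),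
      Finset.card_insert_of_notMem (by simp [a1]), Finset.card_singleton]
  have := Set.ncard_le_ncard h0
  rwa [Set.ncard_coe_finset, h2] at this

end L5

variable {G : Type*} [Group G] [Finite G] {Q B D : Subgroup G} {X : Subgroup G} {z : G} {r : ℕ}

open L5 in
theorem XS.two (h : Lin Q B D) (hx : XS B D X z 2) {e : G} (he : e ∈ X)
    (her : e ^ 2 = 1) : e ∈ zpowers z := by
  by_contra hne
  have ee : e * e = 1 := by rw [← pow_two, her]
  have z2 : z * z = 1 := by rw [← pow_two, ← hx.ord, pow_orderOf_eq_one]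
  have z1 : z ≠ 1 := fun e => by
    have := hx.ord
    rw [e, orderOf_one] at this
    omega
  have e1 : e ≠ 1 := fun h => hne (h ▸ one_mem _)
  have ez : e * z = z * e := hx.cen e he
  have hN : ∀ f ∈ X, f * e ≠ e * f → f * e = z * (e * f) := fun f hf hn => by
    rcases zz hx.ord (hx.comm f hf e he) with h1 | h1
    · exact absurd (by calc f * e = f * e * f⁻¹ * e⁻¹ * (e * f) := by group
        _ = e * f := by rw [h1, one_mul]) hn
    · rw [← h1]; group
  obtain ⟨f₀, hf₀, nf₀⟩ := hx.ncen h he her hne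
  set I : Set G := {e | e ∈ X ∧ e ^ 2 = 1 ∧ e ∉ zpowers z} with hI
  set XC : Set G := {f | f ∈ X ∧ f * e = e * f} with hXC
  set XN : Set G := {f | f ∈ X ∧ f * e ≠ e * f} with hXN
  have c1 : XC.ncard ≤ XN.ncard := Set.ncard_le_ncard_of_injOn (f₀ * ·)
    (fun f hf => ⟨X.mul_mem hf₀ hf.1, fun h1 => nf₀ (mul_right_cancel (b := f) (by
      rw [mul_assoc, ← hf.2, ← mul_assoc, h1, mul_assoc]))⟩) (mul_right_injective f₀).injOn
  have c2 : XN.ncard ≤ XC.ncard := Set.ncard_le_ncard_of_injOn (f₀ * ·)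
    (fun f hf => ⟨X.mul_mem hf₀ hf.1, by
      calc f₀ * f * e = f₀ * z * e * f := by rw [mul_assoc, hN f hf.1 hf.2]; group
        _ = z * (f₀ * e) * f := by rw [hx.cen f₀ hf₀]; group
        _ = z * z * (e * (f₀ * f)) := by rw [hN f₀ hf₀ nf₀]; group
        _ = e * (f₀ * f) := by rw [z2, one_mul]⟩) (mul_right_injective f₀).injOn
  have c3 : XC.ncard + XN.ncard = Nat.card X := by
    rw [← Set.ncard_union_eq (Set.disjoint_left.2 fun f h1 h2 => h2.2 h1.2)]
    refine (congrArg Set.ncard (Set.ext fun f => ?_)).trans (Nat.card_coe_set_eq (X : Set G)).symm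
    exact ⟨fun h => h.elim (·.1) (·.1), fun h => (em _).imp (⟨h, ·⟩) (⟨h, ·⟩)⟩
  have c4 : (XN ∩ I).ncard ≤ (XN \ I).ncard := Set.ncard_le_ncard_of_injOn (· * e)
    (fun f hf => ⟨⟨X.mul_mem hf.1.1 he, fun h1 => hf.1.2 (mul_right_cancel (b := e) (by
      rw [h1, mul_assoc]))⟩, fun h1 => z1 (by
        have h2 := hf.2.2.1
        have h3 := h1.2.1
        rw [pow_two] at h2 h3
        calc z = z * (e * (f * f) * e) := by rw [h2, mul_one, ee, mul_one]
          _ = z * (e * f) * (f * e) := by group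
          _ = 1 := by rw [← hN f hf.1.1 hf.1.2, h3])⟩) (mul_left_injective e).injOn
  have c5 := Set.ncard_inter_add_ncard_sdiff_eq_ncard XN I
  have c6 : I.ncard ≤ (XC ∩ I).ncard + (XN ∩ I).ncard :=
    (Set.ncard_le_ncard fun f hf => (em _).imp (fun h => ⟨⟨hf.1, h⟩, hf⟩)
      fun h => ⟨⟨hf.1, h⟩, hf⟩).trans (Set.ncard_union_le _ _)
  have c7 : (XC ∩ I).ncard ≤ XC.ncard := Set.ncard_le_ncard Set.inter_subset_left
  have c8 : 4 ≤ XC.ncard := four (a := e) (b := z) ⟨X.one_mem, by simp⟩ ⟨he, rfl⟩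
    ⟨hx.mem, ez.symm⟩ ⟨X.mul_mem he hx.mem, by rw [mul_assoc, ← ez]⟩ e1 z1
    (fun h => hne (h ▸ mem_zpowers _)) ee
  have fin : ∀ v ∈ Q, v ≠ 1 → ∀ a b : ℕ, 0 < a → a * I.ncard ≤ b * Nat.card X →
      2 ≤ Nat.card ↥(X ⊓ centralizer {v}) →
      b * Nat.card ↥(X ⊓ centralizer {v}) ≤ a * (Nat.card ↥(X ⊓ centralizer {v}) - 1) → False :=
    fun v hv v1 a b ha h1 h2 h3 => by
      obtain ⟨y, y1, y2, y3⟩ := hx.cnt h hv v1
      have := arith y3 h1 h3 ha Nat.card_pos h2
      exact absurd h.sm (not_lt.2 (bern le_rfl (by omega) y1 y2))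
  obtain ⟨-, v, hv, v1, ev⟩ := hx.bd h he her hne
  by_cases hc : XC ∩ I ⊆ {e, e * z}
  · have c9 := (Set.ncard_le_ncard hc).trans (Set.ncard_insert_le _ _)
    rw [Set.ncard_singleton] at c9
    have k2 : 2 ≤ Nat.card ↥(X ⊓ centralizer {v}) :=
      (one_lt_card_iff_ne_bot _).2 fun hb => e1 ((eq_bot_iff_forall _).1 hb e
        ⟨he, mem_centralizer_singleton_iff.2 ev⟩)
    exact fin v hv v1 2 1 (by norm_num) (by omega) k2 (by omega)
  · obtain ⟨b, ⟨⟨hb, be⟩, -, b2, bz⟩, nb⟩ := Set.not_subset.1 hc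
    have inv : ∀ c ∈ X, c * e = e * c → ∀ u ∈ Q ⊓ centralizer {e},
        c * u * c⁻¹ ∈ Q ⊓ centralizer {e} := fun c hc ce u hu =>
      ⟨h.nQ c (hx.le hc).1 u hu.1, (centralizer {e}).mul_mem ((centralizer {e}).mul_mem
        (mem_centralizer_singleton_iff.2 ce) hu.2)
        ((centralizer {e}).inv_mem (mem_centralizer_singleton_iff.2 ce))⟩
    obtain ⟨k, w, hw, w1, hk⟩ := h.nc (U := Q ⊓ centralizer {e}) inf_le_left
      (fun hb => v1 ((eq_bot_iff_forall _).1 hb v ⟨hv, mem_centralizer_singleton_iff.2 ev.symm⟩))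
      Nat.prime_two (hx.le hb) (hx.le hx.mem) (hx.cen b hb) b2 hx.ord bz (inv b hb be)
      (inv z hx.mem ez.symm) (hx.zf h (mem_zpowers z) z1)
    have zk : z ^ k ∈ zpowers z := pow_mem (mem_zpowers z) k
    have m1 : e ∈ X ⊓ centralizer {w} :=
      ⟨he, mem_centralizer_singleton_iff.2 (mem_centralizer_singleton_iff.1 hw.2).symm⟩
    have m2 : b * z ^ k ∈ X ⊓ centralizer {w} :=
      ⟨X.mul_mem hb (pow_mem hx.mem k), mem_centralizer_singleton_iff.2 hk⟩
    have k4 : 4 ≤ Nat.card ↥(X ⊓ centralizer {w}) := by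
      refine (four (S := (X ⊓ centralizer {w} : Subgroup G)) (one_mem _) m1 m2 (mul_mem m1 m2) e1
        (fun h1 => bz ?_) (fun h1 => nb ?_) ee).trans_eq (Nat.card_coe_set_eq _).symm
      · rw [eq_inv_of_mul_eq_one_left h1]; exact inv_mem zk
      · rcases zz hx.ord zk with h2 | h2
        · left; rw [h1, h2, mul_one]
        · right; rw [Set.mem_singleton_iff, h1, h2, mul_assoc, z2, mul_one]
    exact fin w hw.1 w1 4 3 (by norm_num) (by omega) (by omega) (by omega)

end Cfsg.Lib.DRG
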