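import Cfsg.Agent.DRG.L1
import Cfsg.Agent.DRG.L2
import Cfsg.Agent.DRG.L3
import Cfsg.Agent.Solv.CyclicIndexP

/-! Tower DRG (statement S3550): a `2`-group with a cyclic subgroup of index two. -/

set_option autoImplicit false

namespace Cfsg.Lib.DRG

open MulAction Cfsg.Lib.Perm.Derange Subgroup

namespace L6

theorem invol {G : Type*} [Group G] {S : Subgroup G} (hp : IsPGroup 2 S) {x : G} (hx : x ∈ S)
    (h1 : x ≠ 1) : ∃ j : ℕ, x ^ j ≠ 1 ∧ (x ^ j) ^ 2 = 1 := by
  obtain ⟨k, hk⟩ := hp ⟨x, hx⟩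
  have hk' : x ^ 2 ^ k = 1 := by simpa using congrArg Subtype.val hk
  clear hk
  induction k with
  | zero => exact absurd (by simpa using hk') h1
  | succ k ih =>
    by_cases h : x ^ 2 ^ k = 1
    · exact ih h
    · exact ⟨2 ^ k, h, by rw [← pow_mul, ← pow_succ]; exact hk'⟩

theorem uniq {G : Type*} [Group G] [Finite G] {C : Subgroup G} (hc : IsCyclic C) {x y : G}
    (hx : x ∈ C) (hy : y ∈ C) (x1 : x ≠ 1) (y1 : y ≠ 1) (x2 : x ^ 2 = 1) (y2 : y ^ 2 = 1) :
    x = y := by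
  classical
  have := Fintype.ofFinite C
  by_contra hne
  have hle := IsCyclic.card_pow_eq_one_le (α := C) (n := 2) (by norm_num)
  have hsub : ({1, ⟨x, hx⟩, ⟨y, hy⟩} : Finset C) ⊆ Finset.univ.filter (fun a : C => a ^ 2 = 1) := by
    intro a ha
    simp only [Finset.mem_insert, Finset.mem_singleton] at ha
    simp only [Finset.mem_filter, Finset.mem_univ, true_and]
    rcases ha with rfl | rfl | rfl
    · exact one_pow _
    · exact Subtype.ext x2
    · exact Subtype.ext y2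
  have h3 : ({1, ⟨x, hx⟩, ⟨y, hy⟩} : Finset C).card = 3 := by
    rw [Finset.card_eq_three]
    refine ⟨_, _, _, ?_, ?_, ?_, rfl⟩
    · intro h; exact x1 (congrArg Subtype.val h).symm
    · intro h; exact y1 (congrArg Subtype.val h).symm
    · intro h; exact hne (congrArg Subtype.val h)
  have := Finset.card_le_card hsub
  omega

end L6

section L
variable {G : Type*} [Group G] [Finite G] {Q B D : Subgroup G}
variable {X : Subgroup G} {z : G} {r : ℕ}

theorem cyc2 {P : Type*} [Group P] [Finite P] {r : ℕ} (hr : r.Prime) (hP : IsPGroup r P)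
    (hn : ∀ A : Subgroup P, A.Normal → IsMulCommutative A → IsCyclic A)
    (hm : ∃ A : Subgroup P, IsMulCommutative A ∧ ¬ IsCyclic A) :
    r = 2 ∧ ∃ C : Subgroup P, IsCyclic C ∧ C.index = 2 := by
  have := Fact.mk hr
  obtain ⟨A, -, hA⟩ := hm
  have hnc : ¬ IsCyclic P := fun h => hA inferInstance
  have hp2 : r = 2 := by
    by_contra hp2
    exact hnc (Cfsg.Lib.Solv.PG.isCyclic_of_forall_normal_abelian_isCyclic hP hp2 hn)
  subst hp2
  refine ⟨rfl, ?_⟩
  rcases Cfsg.Lib.Solv.PG.two_group_of_forall_normal_abelian_isCyclic hP hn with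
    h | ⟨a, x, n, -, ha, -, -, hc, -⟩
  · exact absurd h hnc
  refine ⟨zpowers a, inferInstance, ?_⟩
  have h1 := (zpowers a).card_mul_index
  rw [Nat.card_zpowers, ha, hc, pow_succ] at h1
  exact Nat.eq_of_mul_eq_mul_left (by positivity) h1

theorem Lin.dih (h : Lin Q B D) {S C : Subgroup G} (hS : S ≤ B ⊓ D) (hp : IsPGroup 2 S)
    (hinv : ∀ b ∈ B, ∀ y ∈ S, b * y * b⁻¹ ∈ S) (hC : C ≤ S) (hc : IsCyclic C)
    (hi : C.relIndex S = 2) {e : G} (he : e ∈ S) (h1 : e ≠ 1) :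
    ∀ w ∈ Q, e * w = w * e → w = 1 := by
  by_cases hab : ∀ x ∈ S, ∀ y ∈ S, x * y = y * x
  · exact h.abel hS hab hinv he h1
  -- index two facts
  have hmul : ∀ x ∈ S, ∀ y ∈ S, (x * y ∈ C ↔ (x ∈ C ↔ y ∈ C)) := by
    intro x hx y hy
    have := Subgroup.mul_mem_iff_of_index_two (H := C.subgroupOf S) hi
      (a := ⟨x, hx⟩) (b := ⟨y, hy⟩)
    simpa [Subgroup.mem_subgroupOf] using this
  have hconj : ∀ s ∈ S, ∀ y ∈ C, s * y * s⁻¹ ∈ C := by
    intro s hs y hy
    rw [hmul _ (S.mul_mem hs (hC hy)) _ (S.inv_mem hs), hmul _ hs _ (hC hy), C.inv_mem_iff]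
    tauto
  obtain ⟨⟨c, hcC⟩, hgen⟩ := hc.exists_generator
  have hgen' : ∀ x ∈ C, ∃ k : ℤ, c ^ k = x := by
    intro x hx
    obtain ⟨k, hk⟩ := hgen ⟨x, hx⟩
    exact ⟨k, by simpa using congrArg Subtype.val hk⟩
  have hCab : ∀ x ∈ C, ∀ y ∈ C, x * y = y * x := by
    intro x hx y hy
    obtain ⟨k, rfl⟩ := hgen' x hx
    obtain ⟨l, rfl⟩ := hgen' y hy
    exact zpow_mul_comm c k l
  -- `c` does not commute with elements outside `C`
  have hnc : ∀ f ∈ S, f ∉ C → c * f ≠ f * c := by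
    intro f hf hfC hcf
    apply hab
    have hf' : ∀ y ∈ C, Commute y f := by
      intro y hy
      obtain ⟨k, rfl⟩ := hgen' y hy
      exact Commute.zpow_left hcf k
    have hdec : ∀ x ∈ S, x ∈ C ∨ ∃ y ∈ C, x = y * f := by
      intro x hx
      by_cases hxC : x ∈ C
      · exact Or.inl hxC
      · refine Or.inr ⟨x * f⁻¹, ?_, by group⟩
        rw [hmul _ hx _ (S.inv_mem hf), C.inv_mem_iff]
        tauto
    intro x hx y hy
    rcases hdec x hx with hx' | ⟨a, ha, rfl⟩ <;> rcases hdec y hy with hy' | ⟨b, hb, rfl⟩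
    · exact hCab x hx' y hy'
    · exact Commute.mul_right (hCab x hx' b hb) (hf' x hx')
    · exact Commute.mul_left (hCab a ha y hy') (hf' y hy').symm
    · exact Commute.mul_left (Commute.mul_right (hCab a ha b hb) (hf' a ha))
        (Commute.mul_right (hf' b hb).symm (Commute.refl f))
  -- involutions of `C` act fixed point freely, hence all of `C`
  have hcen : ∀ z ∈ C, z ≠ 1 → z ^ 2 = 1 → ∀ s ∈ S, s * z = z * s := by
    intro z hz z1 z2 s hs
    have : s * z * s⁻¹ = z := by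
      refine L6.uniq hc (hconj s hs z hz) hz ?_ z1 ?_ z2
      · intro h0
        apply z1
        have : z = s⁻¹ * (s * z * s⁻¹) * s := by group
        rw [this, h0]; group
      · rw [conj_pow, z2]; group
    calc s * z = s * z * s⁻¹ * s := by group
      _ = z * s := by rw [this]
  have hzf : ∀ z ∈ C, z ≠ 1 → z ^ 2 = 1 → ∀ w ∈ Q, z * w = w * z → w = 1 := by
    intro z hz z1 z2
    refine h.abel (Z := S ⊓ centralizer (S : Set G)) (inf_le_left.trans hS) ?_ ?_ (x := z)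
      ⟨hC hz, ?_⟩ z1
    · intro x hx y hy
      exact hy.2 x hx.1
    · intro b hb y hy
      refine ⟨hinv b hb y hy.1, ?_⟩
      intro s hs
      have h2 := hinv b⁻¹ (B.inv_mem hb) s hs
      have h3 : (b⁻¹ * s * b⁻¹⁻¹) * y = y * (b⁻¹ * s * b⁻¹⁻¹) := hy.2 _ h2
      calc s * (b * y * b⁻¹) = b * ((b⁻¹ * s * b⁻¹⁻¹) * y) * b⁻¹ := by group
        _ = b * (y * (b⁻¹ * s * b⁻¹⁻¹)) * b⁻¹ := by rw [h3]
        _ = b * y * b⁻¹ * s := by group
    · intro s hs
      exact hcen z hz z1 z2 s hs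
  have hCf : ∀ x ∈ C, x ≠ 1 → ∀ w ∈ Q, x * w = w * x → w = 1 := by
    intro x hx x1 w hw hxw
    obtain ⟨j, j1, j2⟩ := L6.invol hp (hC hx) x1
    exact hzf _ (C.pow_mem hx j) j1 j2 w hw (Commute.pow_left hxw j)
  intro v hv hev
  by_contra v1
  obtain ⟨j, j1, j2⟩ := L6.invol hp he h1
  set e' := e ^ j with he'
  have he'S : e' ∈ S := S.pow_mem he j
  have he'v : e' * v = v * e' := Commute.pow_left hev j
  set I : Set G := {f | f ∈ S ∧ f ^ 2 = 1 ∧ f ≠ 1 ∧ ∃ w ∈ Q, w ≠ 1 ∧ f * w = w * f} with hI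
  have hIC : ∀ f ∈ I, f ∉ C := by
    rintro f ⟨-, -, f1, w, hw, w1, hfw⟩ hfC
    exact w1 (hCf f hfC f1 w hw hfw)
  have he'I : e' ∈ I := ⟨he'S, j2, j1, v, hv, v1, he'v⟩
  have hIinv : ∀ b ∈ B, ∀ f ∈ I, b * f * b⁻¹ ∈ I := by
    rintro b hb f ⟨hf, f2, f1, w, hw, w1, hfw⟩
    refine ⟨hinv b hb f hf, by rw [conj_pow, f2]; group, ?_, b * w * b⁻¹, h.nQ b hb w hw, ?_, ?_⟩
    · intro h0
      apply f1
      have : f = b⁻¹ * (b * f * b⁻¹) * b := by group
      rw [this, h0]; group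
    · intro h0
      apply w1
      have : w = b⁻¹ * (b * w * b⁻¹) * b := by group
      rw [this, h0]; group
    · calc b * f * b⁻¹ * (b * w * b⁻¹) = b * (f * w) * b⁻¹ := by group
        _ = b * (w * f) * b⁻¹ := by rw [hfw]
        _ = b * w * b⁻¹ * (b * f * b⁻¹) := by group
  have hy : ∀ f ∈ I, Nat.card ↥(Q ⊓ centralizer {f}) ≤ Nat.sqrt (Nat.card Q) := by
    intro f hfI
    have hfC := hIC f hfI
    obtain ⟨hf, f2, -, -⟩ := hfI
    have hd : c * f * c⁻¹ * f⁻¹ ∈ C := by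
      have := C.mul_mem hcC (hconj f hf c⁻¹ (C.inv_mem hcC))
      simpa [mul_assoc] using this
    have hd1 : c * f * c⁻¹ * f⁻¹ ≠ 1 := by
      intro h0
      apply hnc f hf hfC
      calc c * f = c * f * c⁻¹ * f⁻¹ * (f * c) := by group
        _ = f * c := by rw [h0, one_mul]
    set d := c * f * c⁻¹ * f⁻¹ with hdd
    obtain ⟨k, k1, k2⟩ := L6.invol hp (hC hd) hd1
    have hk : ∀ i : ℕ, c ^ i * f * (c ^ i)⁻¹ = d ^ i * f := by
      intro i
      induction i with
      | zero => simp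
      | succ i ih =>
        have hcd : c * d ^ i = d ^ i * c := hCab c hcC _ (C.pow_mem hd i)
        calc c ^ (i + 1) * f * (c ^ (i + 1))⁻¹ = c * (c ^ i * f * (c ^ i)⁻¹) * c⁻¹ := by group
          _ = (c * d ^ i) * f * c⁻¹ := by rw [ih]; group
          _ = d ^ i * (c * f * c⁻¹ * f⁻¹) * f := by rw [hcd]; group
          _ = d ^ (i + 1) * f := by rw [← hdd, pow_succ]
    have hzC : d ^ k ∈ C := C.pow_mem hd k
    have hfz : f * d ^ k = d ^ k * f := hcen _ hzC k1 k2 f hf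
    have : Fact (Nat.Prime 2) := ⟨Nat.prime_two⟩
    rw [Nat.le_sqrt']
    refine h.pw Nat.prime_two (hS hf).1 (hS (hC hzC)).1 hfz f2 (orderOf_eq_prime k2 k1) ?_
      (hzf _ hzC k1 k2) ?_
    · intro hm
      exact hfC ((zpowers_le.mpr hzC) hm)
    · intro i
      refine ⟨c ^ (k * i), (hS (hC (C.pow_mem hcC _))).1, ?_⟩
      rw [hk, pow_mul]
      exact (Commute.pow_right hfz i).symm
  have hcnt := h.cnt hS hIinv hy hv v1
  have hc0 : 1 ≤ {f | f ∈ I ∧ f * v = v * f}.ncard :=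
    (Set.ncard_pos (Set.toFinite _)).mpr ⟨e', he'I, he'v⟩
  have hT : Nat.card ↥(S ⊓ centralizer {v}) ≤ 2 := by
    have h2 := Subgroup.relIndex_le_of_le_right (H := C) (K := S ⊓ centralizer {v}) (L := S)
      inf_le_left (by rw [hi]; norm_num)
    have h3 : C.subgroupOf (S ⊓ centralizer {v}) = ⊥ := by
      rw [Subgroup.subgroupOf_eq_bot, Subgroup.disjoint_def]
      intro x hx hx'
      by_contra x1
      exact v1 (hCf x hx x1 v hv (hx'.2 v rfl).symm)
    rw [hi, Subgroup.relIndex, h3, Subgroup.index_bot] at h2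
    exact h2
  have hIle : I.ncard ≤ Nat.card C := by
    have : I.ncard ≤ (C : Set G).ncard := by
      refine Set.ncard_le_ncard_of_injOn (fun f => f * e') ?_ ?_ (Set.toFinite _)
      · intro f hf
        have := hmul f hf.1 e' he'S
        exact this.mpr ⟨fun a => absurd a (hIC f hf), fun a => absurd a (hIC e' he'I)⟩
      · intro a _ b _ hab
        exact mul_right_cancel hab
    rwa [← Nat.card_coe_set_eq (C : Set G)] at this
  have hCS : Nat.card C * 2 = Nat.card S := by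
    have h2 := (C.subgroupOf S).card_mul_index
    rw [Nat.card_congr (Subgroup.subgroupOfEquivOfLe hC).toEquiv] at h2
    rw [← hi]; exact h2
  have hSpos : 0 < Nat.card S := Nat.card_pos
  have hQpos : 0 < Nat.card Q := Nat.card_pos
  have hy1 : 1 ≤ Nat.sqrt (Nat.card Q) := Nat.sqrt_pos.mpr hQpos
  have hm : D.index ≤ Nat.sqrt (Nat.card Q) - 1 := by
    refine Nat.le_of_mul_le_mul_left ?_ hSpos
    calc Nat.card S * D.index = D.index * Nat.card S * 1 := by ring
      _ ≤ D.index * Nat.card S * {f | f ∈ I ∧ f * v = v * f}.ncard := by gcongr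
      _ ≤ _ := hcnt
      _ ≤ 2 * Nat.card C * (Nat.sqrt (Nat.card Q) - 1) := by gcongr
      _ = Nat.card S * (Nat.sqrt (Nat.card Q) - 1) := by rw [← hCS]; ring
  have h5 : (D.index + 1) ^ 2 ≤ Nat.card Q :=
    (Nat.pow_le_pow_left (by omega) 2).trans (Nat.sqrt_le' _)
  exact absurd h.sm (by omega)

end L

end Cfsg.Lib.DRG
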