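import Mathlib

/-! Tower DRG: abelian `r`-groups with few elements of order `r` are cyclic. -/

set_option autoImplicit false

namespace Cfsg.Lib.DRG.L7

open Subgroup

theorem ker_le {A : Type*} [CommGroup A] [Finite A] {r : ℕ}
    (h : Nat.card (powMonoidHom r : A →* A).ker ≤ r) (k : ℕ) :
    Nat.card (powMonoidHom (r ^ k) : A →* A).ker ≤ r ^ k := by
  induction k with
  | zero =>
    have : (powMonoidHom (r ^ 0) : A →* A).ker = ⊥ := by
      ext a; simp [MonoidHom.mem_ker]
    rw [this]; simp
  | succ k ih =>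
    set K := (powMonoidHom (r ^ (k + 1)) : A →* A).ker with hK
    let f : K →* A := (powMonoidHom r : A →* A).comp K.subtype
    have h1 : Nat.card K = Nat.card f.ker * Nat.card f.range := by
      rw [← f.ker.card_mul_index, Subgroup.index_ker]
    have h2 : Nat.card f.ker ≤ Nat.card (powMonoidHom r : A →* A).ker := by
      refine Nat.card_le_card_of_injective (fun a => ⟨a.1.1, a.2⟩) ?_
      intro a b hab
      have h0 := congrArg Subtype.val hab
      exact Subtype.ext (Subtype.ext h0)
    have h3 : f.range ≤ (powMonoidHom (r ^ k) : A →* A).ker := by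
      rintro _ ⟨a, rfl⟩
      have : (a : A) ^ r ^ (k + 1) = 1 := a.2
      rw [MonoidHom.mem_ker, powMonoidHom_apply]
      show ((a : A) ^ r) ^ r ^ k = 1
      rw [← pow_mul, ← pow_succ', this]
    have h4 := Subgroup.card_le_of_le h3
    rw [h1, pow_succ']
    exact Nat.mul_le_mul (h2.trans h) (h4.trans ih)

theorem cyc {A : Type*} [CommGroup A] [Finite A] {r : ℕ} (hr : r.Prime) (hp : IsPGroup r A)
    (h : Nat.card (powMonoidHom r : A →* A).ker ≤ r) : IsCyclic A := by
  classical
  have := Fintype.ofFinite A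
  have := Fact.mk hr
  obtain ⟨m, hm⟩ := IsPGroup.iff_card.1 hp
  refine isCyclic_of_card_pow_eq_one_le fun n hn => ?_
  obtain ⟨j, -, hj⟩ := (Nat.dvd_prime_pow hr).1 (Nat.gcd_dvd_right n (r ^ m))
  have h1 : r ^ j ≤ n := hj ▸ Nat.gcd_le_left _ hn
  refine le_trans ?_ ((ker_le h j).trans h1)
  rw [← Nat.card_eq_finsetCard]
  refine Nat.card_le_card_of_injective (fun a => ⟨a.1, ?_⟩) ?_
  · have ha := (Finset.mem_filter.1 a.2).2
    rw [MonoidHom.mem_ker, powMonoidHom_apply, ← hj, pow_gcd_eq_one]
    exact ⟨ha, hm ▸ pow_card_eq_one'⟩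
  · intro a b hab
    have h0 := congrArg Subtype.val hab
    exact Subtype.ext h0

/-- an abelian `r`-subgroup whose elements of order `r` lie in `⟨z⟩` is cyclic -/
theorem cyc' {P : Type*} [Group P] [Finite P] {r : ℕ} (hr : r.Prime) (hp : IsPGroup r P)
    {A : Subgroup P} (hA : IsMulCommutative A) {z : P} (hz : orderOf z = r)
    (h : ∀ a ∈ A, a ^ r = 1 → a ∈ zpowers z) : IsCyclic A := by
  let : CommGroup A := { (inferInstance : Group A) with mul_comm := hA.is_comm.comm }
  refine cyc hr (hp.to_subgroup A) ?_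
  refine le_trans ?_ (le_of_eq ((Nat.card_zpowers z).trans hz))
  refine Nat.card_le_card_of_injective (fun a => ⟨a.1.1, h _ a.1.2 ?_⟩) ?_
  · have : a.1 ^ r = 1 := a.2
    exact congrArg Subtype.val this
  · intro a b hab
    have h0 := congrArg Subtype.val hab
    exact Subtype.ext (Subtype.ext h0)

/-- two commuting elements of order dividing `r` -/
theorem ncyc {P : Type*} [Group P] [Finite P] {r : ℕ} (hr : r.Prime) {e z : P}
    (hc : e * z = z * e) (he : e ^ r = 1) (hz : orderOf z = r) (hne : e ∉ zpowers z) :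
    ∃ A : Subgroup P, IsMulCommutative A ∧ ¬ IsCyclic A := by
  classical
  refine ⟨closure {e, z}, isMulCommutative_closure ?_, fun hcyc => ?_⟩
  · rintro x (rfl | rfl) y (rfl | rfl) <;> simp [hc]
  · set A := closure ({e, z} : Set P)
    have heA : e ∈ A := subset_closure (by simp)
    have hzA : z ∈ A := subset_closure (by simp)
    have := Fintype.ofFinite A
    have h1 := IsCyclic.card_pow_eq_one_le (α := A) hr.pos
    have h2 : orderOf (⟨z, hzA⟩ : A) = r := by rw [← hz, Subgroup.orderOf_mk]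
    have h3 : insert (⟨e, heA⟩ : A) (Finset.univ.filter (· ∈ zpowers (⟨z, hzA⟩ : A))) ⊆
        Finset.univ.filter (fun a : A => a ^ r = 1) := by
      intro a ha
      rw [Finset.mem_insert] at ha
      rw [Finset.mem_filter]
      refine ⟨Finset.mem_univ _, ?_⟩
      rcases ha with rfl | ha
      · exact Subtype.ext he
      · obtain ⟨k, rfl⟩ := mem_zpowers_iff.1 (Finset.mem_filter.1 ha).2
        rw [← zpow_natCast, ← zpow_mul, mul_comm, zpow_mul, zpow_natCast, ← h2,
          pow_orderOf_eq_one, one_zpow]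
    have h4 := Finset.card_le_card h3
    rw [Finset.card_insert_of_notMem] at h4
    · have h5 : (Finset.univ.filter (· ∈ zpowers (⟨z, hzA⟩ : A))).card = r := by
        rw [← h2, ← Nat.card_zpowers, Nat.card_eq_fintype_card, Fintype.card_subtype]
      omega
    · intro hm
      obtain ⟨k, hk⟩ := mem_zpowers_iff.1 (Finset.mem_filter.1 hm).2
      exact hne (mem_zpowers_iff.2 ⟨k, by simpa using congrArg Subtype.val hk⟩)

/-- a power of prime order -/
theorem pw {G : Type*} [Group G] [Finite G] {e : G} (h1 : e ≠ 1) :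
    ∃ (k r : ℕ), r.Prime ∧ r ∣ orderOf e ∧ orderOf (e ^ k) = r := by
  have h0 : orderOf e ≠ 1 := by rwa [Ne, orderOf_eq_one_iff]
  obtain ⟨r, hr, hd⟩ := Nat.exists_prime_and_dvd h0
  exact ⟨orderOf e / r, r, hr, hd, orderOf_pow_orderOf_div (orderOf_pos e).ne' hd⟩

/-- a nontrivial normal subgroup of a `p`-group meets the centre -/
theorem nc {P : Type*} [Group P] [Finite P] {r : ℕ} (hr : r.Prime) (hp : IsPGroup r P)
    {W : Subgroup P} [W.Normal] (hW : W ≠ ⊥) : ∃ x ∈ W, x ≠ 1 ∧ x ∈ center P := by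
  have := Fact.mk hr
  have hq : IsPGroup r (ConjAct P) := hp.of_equiv ConjAct.toConjAct
  have hd : r ∣ Nat.card W := by
    obtain ⟨n, hn⟩ := IsPGroup.iff_card.1 (hp.to_subgroup W)
    rcases n with _ | n
    · exact absurd (Subgroup.card_eq_one.1 (by simpa using hn)) hW
    · rw [hn]; exact dvd_pow_self _ (by omega)
  obtain ⟨b, hb, h1⟩ := hq.exists_fixed_point_of_prime_dvd_card_of_fixed_point W hd
    (a := (1 : W)) (fun g => smul_one g)
  refine ⟨b, b.2, fun h => h1 (Subtype.ext h.symm), mem_center_iff.2 fun g => ?_⟩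
  have := congrArg Subtype.val (hb (ConjAct.toConjAct g))
  have h2 : g * b * g⁻¹ = b := this
  exact mul_inv_eq_iff_eq_mul.1 h2

end Cfsg.Lib.DRG.L7
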