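import Cfsg.Agent.DRG.Defs
import Cfsg.Agent.Char.Burnside

set_option autoImplicit false
set_option linter.unusedSectionVars false

namespace Cfsg.Lib.DRG

open MulAction Cfsg.Lib.Perm.Derange Subgroup
open scoped ComplexConjugate commutatorElement

namespace P2

open Classical in
theorem split {G : Type*} [Group G] [Fintype G] (K D : Subgroup G) :
    Nat.card K = Nat.card ↥(K ⊓ D) + (Finset.univ.filter fun g : G => g ∈ K ∧ g ∉ D).card := by
  rw [← card_filter_mem K, ← card_filter_mem (K ⊓ D),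
    ← Finset.card_filter_add_card_filter_not (s := Finset.univ.filter (· ∈ K)) (· ∈ D),
    Finset.filter_filter, Finset.filter_filter]
  congr 2
  ext x
  simp only [Finset.mem_filter, mem_inf]

open Classical in
theorem half {G : Type*} [Group G] [Fintype G] {K D : Subgroup G} (h : ¬ K ≤ D) :
    Nat.card K ≤ 2 * (Finset.univ.filter fun g : G => g ∈ K ∧ g ∉ D).card := by
  obtain ⟨k, hk⟩ := card_dvd_of_le (inf_le_left : K ⊓ D ≤ K)
  have e := split K D
  have pos : 0 < Nat.card K := Nat.card_pos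
  have k0 : k ≠ 0 := by rintro rfl; omega
  have k1 : k ≠ 1 := by
    rintro rfl
    exact h ((eq_of_le_of_card_ge (inf_le_left : K ⊓ D ≤ K) (by omega)).ge.trans inf_le_right)
  have : Nat.card ↥(K ⊓ D) * 2 ≤ Nat.card ↥(K ⊓ D) * k := Nat.mul_le_mul_left _ (by omega)
  omega

theorem os {G Ω : Type*} [Group G] [MulAction G Ω] (N : Subgroup G) (β : Ω) :
    (orbit N β).ncard * Nat.card ↥(N ⊓ stabilizer G β) = Nat.card N := by
  rw [← index_stabilizer, ← (stabilizer N β).index_mul_card,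
    ← Nat.card_congr (subgroupOfEquivOfLe (inf_le_left : N ⊓ stabilizer G β ≤ N)).toEquiv,
    inf_subgroupOf_left]
  rfl

variable {G Ω : Type*} [Group G] [Fintype G] [MulAction G Ω] [Finite Ω] [IsPretransitive G Ω]

open Classical in
theorem big {N : Subgroup G} {g : G} {ω : Ω} (hg : g ∈ N) (hD : g ∉ der G Ω) (e : g • ω = ω) :
    Nat.card N ≤ 2 * (Finset.univ.filter fun x : G =>
      x ∈ N ∧ x ∉ der G Ω ∧ ∃ β ∈ orbit N ω, x • β = β).card := by
  set O := (Set.toFinite (orbit N ω)).toFinset with hO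
  have mO : ∀ β, β ∈ O ↔ β ∈ orbit N ω := fun β => Set.Finite.mem_toFinset _
  have cO : O.card = (orbit N ω).ncard := (Set.ncard_eq_toFinset_card _ _).symm
  have e1 : (Finset.univ.filter fun x : G => x ∈ N ∧ x ∉ der G Ω ∧ ∃ β ∈ orbit N ω, x • β = β) =
      O.biUnion fun β => Finset.univ.filter fun x : G => x ∈ N ⊓ stabilizer G β ∧ x ∉ der G Ω := by
    ext x
    simp only [Finset.mem_filter, Finset.mem_univ, true_and, Finset.mem_biUnion, mO, mem_inf,
      mem_stabilizer_iff]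
    exact ⟨fun ⟨a, b, β, c, d⟩ => ⟨β, c, ⟨a, d⟩, b⟩, fun ⟨β, c, ⟨a, d⟩, b⟩ => ⟨a, b, β, c, d⟩⟩
  rw [e1, Finset.card_biUnion, Finset.mul_sum]
  · have pos : 0 < O.card := Finset.card_pos.2 ⟨ω, (mO ω).2 (mem_orbit_self ω)⟩
    refine Nat.le_of_mul_le_mul_left ?_ pos
    conv_rhs => rw [Finset.mul_sum]
    rw [← smul_eq_mul, ← Finset.sum_const]
    refine Finset.sum_le_sum fun β hβ => ?_
    have hβ' := (mO β).1 hβ
    rw [← os N β, orbit_eq_iff.2 hβ', cO]
    refine Nat.mul_le_mul_left _ (half fun h => hD ?_)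
    obtain ⟨a, rfl⟩ := hβ'
    have m : (a : G) * g * (a : G)⁻¹ ∈ der G Ω := by
      refine h ⟨N.mul_mem (N.mul_mem a.2 hg) (N.inv_mem a.2), ?_⟩
      change ((a : G) * g * (a : G)⁻¹) • (a : G) • ω = (a : G) • ω
      rw [mul_smul, inv_smul_smul, mul_smul, e]
    simpa [mul_assoc] using (der_normal (G := G) (Ω := Ω)).conj_mem' (n := _) m a
  · intro β _ γ _ hne
    refine Finset.disjoint_left.2 fun x h1 h2 => ?_
    rw [Finset.mem_filter] at h1 h2
    exact h1.2.2 (mem_der_of_fix_two hne h1.2.1.2 h2.2.1.2)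

theorem exfix {g : G} (hD : g ∉ der G Ω) : ∃ ω : Ω, g • ω = ω := by
  by_contra h
  push Not at h
  exact hD (subset_closure h)

theorem one {N : Subgroup G} {g x : G} {ω : Ω} (hg : g ∈ N) (hD : g ∉ der G Ω) (e : g • ω = ω)
    (hx : x ∈ N) (hxD : x ∉ der G Ω) : ∃ β ∈ orbit N ω, x • β = β := by
  classical
  by_contra hn
  obtain ⟨γ, hγ⟩ := exfix hxD
  have b1 := big hg hD e
  have b2 := big hx hxD hγ
  have s := split N (der G Ω)
  have pos : 0 < Nat.card ↥(N ⊓ der G Ω) := Nat.card_pos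
  have dj : Disjoint (Finset.univ.filter fun x : G =>
      x ∈ N ∧ x ∉ der G Ω ∧ ∃ β ∈ orbit N ω, x • β = β) (Finset.univ.filter fun x : G =>
      x ∈ N ∧ x ∉ der G Ω ∧ ∃ β ∈ orbit N γ, x • β = β) := by
    refine Finset.disjoint_left.2 fun y h1 h2 => ?_
    rw [Finset.mem_filter] at h1 h2
    obtain ⟨-, -, hy, β, m1, f1⟩ := h1
    obtain ⟨-, -, -, β', m2, f2⟩ := h2
    have : β = β' := by
      by_contra hne
      exact hy (mem_der_of_fix_two hne f1 f2)
    subst this
    refine hn ⟨γ, ?_, hγ⟩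
    rw [← orbit_eq_iff.2 m1, orbit_eq_iff.2 m2]
    exact mem_orbit_self γ
  have le := Finset.card_le_card (s := _ ∪ _)
    (t := Finset.univ.filter fun g : G => g ∈ N ∧ g ∉ der G Ω) (Finset.union_subset
      (Finset.monotone_filter_right _ fun x _ (h : x ∈ N ∧ x ∉ der G Ω ∧ ∃ β ∈ orbit N ω, x • β = β) =>
        ⟨h.1, h.2.1⟩)
      (Finset.monotone_filter_right _ fun x _ (h : x ∈ N ∧ x ∉ der G Ω ∧ ∃ β ∈ orbit N γ, x • β = β) =>
        ⟨h.1, h.2.1⟩))
  rw [Finset.card_union_of_disjoint dj] at le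
  omega

theorem ns {G : Type*} [Group G] [Finite G]
    (hna : ∀ N : Subgroup G, N.Normal → IsMulCommutative ↥N → N = ⊥) :
    ∀ (n : ℕ) (D : Subgroup G), Nat.card D = n → D.Normal → Group.IsSolvable D → D = ⊥ := by
  intro n
  induction n using Nat.strong_induction_on with
  | _ n ih =>
    intro D e hD hs
    by_contra ne
    have : Nontrivial D := (nontrivial_iff_ne_bot D).2 ne
    have le : ⁅D, D⁆ ≤ D := commutator_le_left D D
    have lt : Nat.card ↥⁅D, D⁆ < n := by
      refine e ▸ lt_of_le_of_ne (card_le_of_le le) fun k => ?_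
      have h1 := eq_of_le_of_card_ge le k.ge
      refine (Group.IsSolvable.commutator_lt_top_of_nontrivial D).ne ?_
      apply map_injective D.subtype_injective
      rw [map_subtype_commutator, h1, ← MonoidHom.range_eq_map, range_subtype]
    have h := ih _ lt _ rfl inferInstance
      (Group.isSolvable_of_isSolvable_injective (inclusion_injective le))
    refine ne (hna D hD ⟨⟨fun a b => Subtype.ext ?_⟩⟩)
    have : ⁅(a : G), (b : G)⁆ ∈ ⁅D, D⁆ := commutator_mem_commutator a.2 b.2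
    rw [h, mem_bot] at this
    exact commutatorElement_eq_one_iff_mul_comm.1 this

end P2

section P2
variable {G Ω : Type*} [Group G] [Finite G] [MulAction G Ω] [Finite Ω] [IsPretransitive G Ω]

theorem cov {N : Subgroup G} (hN : N ⊔ der G Ω = ⊤) (hm : 2 ≤ (der G Ω).index) :
    ∃ δ : Ω, (N ⊓ stabilizer G δ) ⊔ der G Ω = ⊤ := by
  have := Fintype.ofFinite G
  have nle : ¬ N ≤ der G Ω := fun h => by
    rw [sup_eq_right.2 h] at hN
    rw [hN, index_top] at hm
    omega
  obtain ⟨g, hg, hD⟩ := SetLike.not_le_iff_exists.1 nle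
  obtain ⟨δ, e⟩ := P2.exfix hD
  refine ⟨δ, top_le_iff.1 (hN.ge.trans (sup_le (fun a ha => ?_) le_sup_right))⟩
  have le : der N (orbit N δ) ≤ (der G Ω).subgroupOf N := by
    refine (closure_le _).2 fun x hx => ?_
    by_contra hx'
    obtain ⟨β, hβ, f⟩ := P2.one hg hD e x.2 hx'
    exact hx ⟨β, hβ⟩ (Subtype.ext f)
  obtain ⟨d, hd⟩ := (der_main (G := N) (Ω := orbit N δ)).1.exists_smul_eq ⟨δ, mem_orbit_self δ⟩
    ⟨a • δ, ⟨⟨a, ha⟩, rfl⟩⟩
  have hd' : ((d : N) : G) • δ = a • δ := congrArg Subtype.val hd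
  have e2 : a = (d : N) * (((d : N) : G)⁻¹ * a) := by group
  rw [e2]
  refine mul_mem (mem_sup_right (le d.2)) (mem_sup_left ⟨N.mul_mem (N.inv_mem (d : N).2) ha, ?_⟩)
  change (((d : N) : G)⁻¹ * a) • δ = δ
  rw [mul_smul, ← hd', inv_smul_smul]

/-- Frattini argument -/
theorem frat {G : Type*} [Group G] [Finite G] {D N R : Subgroup G} [D.Normal] {q : ℕ}
    (hq : q.Prime) (hN : N ⊔ D = ⊤) (hR : R ≤ N ⊓ D) (hp : IsPGroup q R)
    (hs : ¬ q ∣ R.relIndex (N ⊓ D)) : (N ⊓ normalizer (R : Set G)) ⊔ D = ⊤ := by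
  have : Fact q.Prime := ⟨hq⟩
  have : ((N ⊓ D).subgroupOf N).Normal := by rw [inf_subgroupOf_left]; infer_instance
  have p : IsPGroup q ((R.subgroupOf N).subgroupOf ((N ⊓ D).subgroupOf N)) :=
    hp.comap_subtype.comap_subtype
  have i : ¬ q ∣ ((R.subgroupOf N).subgroupOf ((N ⊓ D).subgroupOf N)).index := by
    change ¬ q ∣ (R.subgroupOf N).relIndex ((N ⊓ D).subgroupOf N)
    rwa [relIndex_subgroupOf inf_le_left]
  have h := Sylow.normalizer_sup_eq_top (p.toSylow i)
  rw [IsPGroup.toSylow_coe, subgroupOf_map_subtype, inf_of_le_left (subgroupOf_mono N hR)] at h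
  refine top_le_iff.1 (hN.ge.trans (sup_le (fun a ha => ?_) le_sup_right))
  obtain ⟨y, hy, z, hz, e⟩ := mem_sup_of_normal_right.1 (h.ge (mem_top (⟨a, ha⟩ : N)))
  have e' : a = (y : G) * z := (congrArg Subtype.val e).symm
  rw [e']
  refine mul_mem (mem_sup_left ⟨y.2, mem_normalizer_fintype fun r hr => ?_⟩) (mem_sup_right hz.2)
  exact (mem_normalizer_iff.1 hy ⟨r, (hR hr).1⟩).1 hr

theorem not_solv {G : Type*} [Group G] [Finite G]
    (hna : ∀ N : Subgroup G, N.Normal → IsMulCommutative ↥N → N = ⊥) {D : Subgroup G}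
    (hD : D.Normal) (hs : Group.IsSolvable D) : D = ⊥ := P2.ns hna _ D rfl hD hs

theorem four_le [FaithfulSMul G Ω] (hΩ : 2 ≤ Nat.card Ω)
    (hna : ∀ N : Subgroup G, N.Normal → IsMulCommutative ↥N → N = ⊥) : 4 ≤ Nat.card Ω := by
  by_contra h
  have d := card_dvd_of_injective (toPermHom G Ω) toPerm_injective
  have e : Nat.card (Equiv.Perm Ω) = (Nat.card Ω).factorial := by
    classical
    have := Fintype.ofFinite Ω
    rw [Nat.card_eq_fintype_card, Nat.card_eq_fintype_card, Fintype.card_perm]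
  rw [e] at d
  have d6 : Nat.card G ∣ 2 ^ 1 * 3 ^ 1 := d.trans (Nat.factorial_dvd_factorial (n := 3) (by omega))
  have := Char.isSolvable_of_card_dvd Nat.prime_two Nat.prime_three G d6
  have t := not_solv hna (D := ⊤) inferInstance inferInstance
  have : Nontrivial Ω := Finite.one_lt_card_iff_nontrivial.1 hΩ
  obtain ⟨a, b, hab⟩ := exists_pair_ne Ω
  obtain ⟨g, hg⟩ := exists_smul_eq G a b
  have : g = 1 := mem_bot.1 (t ▸ mem_top g)
  rw [this, one_smul] at hg
  exact hab hg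
end P2

end Cfsg.Lib.DRG
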