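import Cfsg.Agent.DRG.L1
import Cfsg.Agent.DRG.L3
import Cfsg.Agent.DRG.L4
import Cfsg.Agent.DRG.L5
import Cfsg.Agent.DRG.L6
import Cfsg.Agent.DRG.P2
import Cfsg.Agent.DRG.L7h

/-! Tower DRG: `B` acts semiregularly on the nonidentity elements of `Q`. -/

set_option autoImplicit false

namespace Cfsg.Lib.DRG

open MulAction Cfsg.Lib.Perm.Derange Subgroup

namespace L7
variable {G : Type*} [Group G]

theorem nrm {S : Subgroup G} {z : G} (hc : ∀ s ∈ S, s * z = z * s) :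
    ((zpowers z).subgroupOf S).Normal := by
  refine ⟨fun a ha g => ?_⟩
  rw [mem_subgroupOf] at ha ⊢
  obtain ⟨k, hk⟩ := mem_zpowers_iff.1 ha
  have : Commute (g : G) (z ^ k) := Commute.zpow_right (hc g g.2) k
  have h2 : ((g * a * g⁻¹ : S) : G) = a := by
    push_cast
    rw [← hk, this.eq, mul_inv_cancel_right]
  rw [h2]; exact ha

/-- the preimage of `Ω₁(Z(S / ⟨z⟩))` -/
def XX (S : Subgroup G) (z : G) (r : ℕ) (hc : ∀ s ∈ S, s * z = z * s) : Subgroup G where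
  carrier := {y | y ∈ S ∧ (∀ s ∈ S, y * s * y⁻¹ * s⁻¹ ∈ zpowers z) ∧ y ^ r ∈ zpowers z}
  one_mem' := ⟨S.one_mem, fun s _ => by simp, by simp⟩
  mul_mem' := by
    rintro a b ⟨ha, ha1, ha2⟩ ⟨hb, hb1, hb2⟩
    have hcz : ∀ s ∈ S, ∀ c ∈ zpowers z, s * c * s⁻¹ = c := by
      intro s hs c hcm
      obtain ⟨k, rfl⟩ := mem_zpowers_iff.1 hcm
      have : Commute s (z ^ k) := Commute.zpow_right (hc s hs) k
      rw [this.eq, mul_inv_cancel_right]
    refine ⟨S.mul_mem ha hb, fun s hs => ?_, ?_⟩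
    · have : a * b * s * (a * b)⁻¹ * s⁻¹ =
          a * (b * s * b⁻¹ * s⁻¹) * a⁻¹ * (a * s * a⁻¹ * s⁻¹) := by group
      rw [this, hcz a ha _ (hb1 s hs)]
      exact mul_mem (hb1 s hs) (ha1 s hs)
    · have := nrm hc
      let π := QuotientGroup.mk' ((zpowers z).subgroupOf S)
      have key : ∀ x : S, π x = 1 ↔ (x : G) ∈ zpowers z := fun x => by
        rw [QuotientGroup.mk'_apply, QuotientGroup.eq_one_iff, mem_subgroupOf]
      have h1 : Commute (π ⟨a, ha⟩) (π ⟨b, hb⟩) := by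
        rw [← commutatorElement_eq_one_iff_commute, ← map_commutatorElement, key]
        exact ha1 b hb
      have h2 : π (⟨a, ha⟩ ^ r) = 1 := (key _).2 ha2
      have h3 : π (⟨b, hb⟩ ^ r) = 1 := (key _).2 hb2
      have h4 : π ((⟨a, ha⟩ * ⟨b, hb⟩) ^ r) = 1 := by
        rw [map_pow] at h2 h3
        rw [map_pow, map_mul, h1.mul_pow, h2, h3, one_mul]
      exact (key _).1 h4
  inv_mem' := by
    rintro a ⟨ha, ha1, ha2⟩
    refine ⟨S.inv_mem ha, fun s hs => ?_, by rw [inv_pow]; exact inv_mem ha2⟩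
    have h1 := inv_mem (ha1 (a⁻¹ * s * a) (S.mul_mem (S.mul_mem (S.inv_mem ha) hs) ha))
    convert h1 using 1
    group

theorem mem_XX {S : Subgroup G} {z : G} {r : ℕ} {hc : ∀ s ∈ S, s * z = z * s} {y : G} :
    y ∈ XX S z r hc ↔
      y ∈ S ∧ (∀ s ∈ S, y * s * y⁻¹ * s⁻¹ ∈ zpowers z) ∧ y ^ r ∈ zpowers z := Iff.rfl

theorem xs {B D S : Subgroup G} {z : G} {r : ℕ} (hS : S ≤ B ⊓ D) (hr : r.Prime)
    (hinv : ∀ b ∈ B, ∀ y ∈ S, b * y * b⁻¹ ∈ S) (hz : z ∈ S) (ho : orderOf z = r)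
    (hc : ∀ s ∈ S, s * z = z * s) (hzi : ∀ b ∈ B, b * z * b⁻¹ ∈ zpowers z) :
    XS B D (XX S z r hc) z r := by
  have hcz : ∀ b ∈ B, ∀ c ∈ zpowers z, b * c * b⁻¹ ∈ zpowers z := by
    intro b hb c hcm
    obtain ⟨k, rfl⟩ := mem_zpowers_iff.1 hcm
    rw [← conj_zpow]
    exact zpow_mem (hzi b hb) k
  refine ⟨hr, fun x hx => hS hx.1, fun b hb x hx => ⟨hinv b hb x hx.1, fun s hs => ?_, ?_⟩,
    ⟨hz, fun s hs => ?_, pow_mem (mem_zpowers z) r⟩, ho, fun x hx => hc x hx.1, hzi,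
    fun x hx y hy => hx.2.1 y hy.1, fun x hx => hx.2.2⟩
  · have h1 := hcz b hb _ (hx.2.1 _ (hinv b⁻¹ (B.inv_mem hb) s hs))
    convert h1 using 1
    group
  · rw [conj_pow]
    exact hcz b hb _ hx.2.2
  · rw [← hc s hs]
    simp

theorem cycA [Finite G] {S : Subgroup G} {z : G} {r : ℕ} (hr : r.Prime) (hp : IsPGroup r S)
    (hz : z ∈ S) (ho : orderOf z = r) (hc : ∀ s ∈ S, s * z = z * s)
    (hX : ∀ x ∈ XX S z r hc, x ^ r = 1 → x ∈ zpowers z) (A : Subgroup S) (hA : A.Normal)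
    (hab : IsMulCommutative A) : IsCyclic A := by
  have ho' : orderOf (⟨z, hz⟩ : S) = r := by rw [← ho, Subgroup.orderOf_mk]
  refine cyc' hr hp hab ho' fun a ha har => ?_
  have hN := nrm hc
  let π := QuotientGroup.mk' ((zpowers z).subgroupOf S)
  have key : ∀ x : S, π x = 1 ↔ (x : G) ∈ zpowers z := fun x => by
    rw [QuotientGroup.mk'_apply, QuotientGroup.eq_one_iff, mem_subgroupOf]
  let W : Subgroup S :=
    { carrier := {x | x ∈ A ∧ x ^ r = 1}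
      one_mem' := ⟨A.one_mem, one_pow _⟩
      mul_mem' := by
        rintro x y ⟨hx, hx1⟩ ⟨hy, hy1⟩
        have : Commute x y := congrArg Subtype.val (hab.is_comm.comm ⟨x, hx⟩ ⟨y, hy⟩)
        exact ⟨A.mul_mem hx hy, by rw [this.mul_pow, hx1, hy1, one_mul]⟩
      inv_mem' := by
        rintro x ⟨hx, hx1⟩
        exact ⟨A.inv_mem hx, by rw [inv_pow, hx1, inv_one]⟩ }
  have hW : W.Normal := ⟨fun x hx g => ⟨hA.conj_mem x hx.1 g, by rw [conj_pow, hx.2]; simp⟩⟩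
  have hW' : (W.map π).Normal := hW.map π (QuotientGroup.mk'_surjective _)
  have hb : W.map π = ⊥ := by
    by_contra hne
    obtain ⟨_, ⟨x, hx, rfl⟩, h1, h2⟩ := nc hr (hp.to_quotient _) hne
    refine h1 ((key x).2 (hX x ⟨x.2, fun s hs => ?_, ?_⟩ ?_))
    · have h3 : π (x * ⟨s, hs⟩ * x⁻¹ * ⟨s, hs⟩⁻¹) = 1 := by
        rw [map_mul, map_mul, map_mul, map_inv, map_inv, ← mem_center_iff.1 h2]
        group
      exact (key _).1 h3
    · have h3 : (x : G) ^ r = 1 := congrArg Subtype.val hx.2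
      rw [h3]; exact one_mem _
    · exact congrArg Subtype.val hx.2
  have h1 : π a = 1 := by
    have : π a ∈ W.map π := mem_map_of_mem π (show a ∈ W from ⟨ha, har⟩)
    rwa [hb, mem_bot] at this
  obtain ⟨k, hk⟩ := mem_zpowers_iff.1 ((key a).1 h1)
  exact mem_zpowers_iff.2 ⟨k, Subtype.ext (by simpa using hk)⟩

end L7

section L
variable {G : Type*} [Group G] [Finite G] {Q B D : Subgroup G}
variable {X : Subgroup G} {z : G} {r : ℕ}

theorem Lin.pgrp (h : Lin Q B D) {S : Subgroup G} (hS : S ≤ B ⊓ D) (hr : r.Prime)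
    (hp : IsPGroup r S) (hinv : ∀ b ∈ B, ∀ y ∈ S, b * y * b⁻¹ ∈ S) {e : G} (he : e ∈ S)
    (h1 : e ≠ 1) : ∀ w ∈ Q, e * w = w * e → w = 1 := by
  have := Fact.mk hr
  -- reduce to order `r`
  suffices H : ∀ e ∈ S, orderOf e = r → ∀ w ∈ Q, e * w = w * e → w = 1 by
    intro w hw hew
    obtain ⟨k, r', hr', hd, ho⟩ := L7.pw h1
    obtain ⟨n, hn⟩ := IsPGroup.iff_orderOf.1 hp ⟨e, he⟩
    rw [Subgroup.orderOf_mk] at hn
    have : r' = r := (Nat.prime_dvd_prime_iff_eq hr' hr).1 (hr'.dvd_of_dvd_pow (hn ▸ hd))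
    exact H _ (pow_mem he k) (this ▸ ho) w hw (Commute.pow_left hew k)
  have hnt : Nontrivial S := ⟨⟨⟨e, he⟩, 1, fun h => h1 (congrArg Subtype.val h)⟩⟩
  clear he h1 e
  intro e he hoe
  have her : e ^ r = 1 := hoe ▸ pow_orderOf_eq_one e
  have h1 : e ≠ 1 := fun h => hr.ne_one (by rw [← hoe, h, orderOf_one])
  set Z := S ⊓ centralizer (S : Set G) with hZ
  have hZle : Z ≤ B ⊓ D := inf_le_left.trans hS
  have hZab : ∀ x ∈ Z, ∀ y ∈ Z, x * y = y * x := fun x hx y hy =>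
    mem_centralizer_iff.1 hy.2 x hx.1
  have hZinv : ∀ b ∈ B, ∀ y ∈ Z, b * y * b⁻¹ ∈ Z := by
    intro b hb y hy
    refine ⟨hinv b hb y hy.1, mem_centralizer_iff.2 fun s hs => ?_⟩
    have h2 := mem_centralizer_iff.1 hy.2 _ (hinv b⁻¹ (B.inv_mem hb) s hs)
    calc s * (b * y * b⁻¹) = b * (b⁻¹ * s * b⁻¹⁻¹ * y) * b⁻¹ := by group
      _ = b * (y * (b⁻¹ * s * b⁻¹⁻¹)) * b⁻¹ := by rw [h2]
      _ = b * y * b⁻¹ * s := by group
  obtain ⟨z, hzZ, hz⟩ : ∃ z ∈ Z, orderOf z = r := by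
    obtain ⟨x, -, hx1, hx⟩ := L7.nc hr hp (W := ⊤) top_ne_bot
    have hxZ : (x : G) ∈ Z := ⟨x.2, mem_centralizer_iff.2 fun s hs =>
      congrArg Subtype.val (mem_center_iff.1 hx ⟨s, hs⟩)⟩
    obtain ⟨k, r', hr', hd, ho⟩ := L7.pw hx1
    obtain ⟨n, hn⟩ := IsPGroup.iff_orderOf.1 hp x
    have : r' = r := (Nat.prime_dvd_prime_iff_eq hr' hr).1 (hr'.dvd_of_dvd_pow (hn ▸ hd))
    refine ⟨(x : G) ^ k, pow_mem hxZ k, ?_⟩
    rw [← this, ← ho, ← Subgroup.orderOf_coe]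
    rfl
  have hc : ∀ s ∈ S, s * z = z * s := fun s hs => mem_centralizer_iff.1 hzZ.2 s hs
  have hzr : z ^ r = 1 := hz ▸ pow_orderOf_eq_one z
  have hzi : ∀ b ∈ B, b * z * b⁻¹ ∈ zpowers z := fun b hb =>
    h.uniq hZle hZab hZinv hr (hZinv b hb z hzZ) hzZ (by rw [conj_pow, hzr]; simp) hz
  have hx := L7.xs hS hr hinv hzZ.1 hz hc hzi
  have hX : ∀ x ∈ L7.XX S z r hc, x ^ r = 1 → x ∈ zpowers z := by
    intro x hxm hxr
    by_cases h2 : r = 2
    · subst h2; exact XS.two h hx hxm hxr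
    · exact XS.odd h hx h2 hxm hxr
  by_cases hez : e ∈ zpowers z
  · exact h.abel hZle hZab hZinv (zpowers_le.2 hzZ hez) h1
  have hm := L7.ncyc (P := S) hr (e := ⟨e, he⟩) (z := ⟨z, hzZ.1⟩) (Subtype.ext (hc e he))
    (Subtype.ext her) (by rw [← hz, Subgroup.orderOf_mk]) (fun hm => by
      obtain ⟨k, hk⟩ := mem_zpowers_iff.1 hm
      exact hez (mem_zpowers_iff.2 ⟨k, by simpa using congrArg Subtype.val hk⟩))
  obtain ⟨h2, C, hC, hCi⟩ := cyc2 hr hp (L7.cycA hr hp hzZ.1 hz hc hX) hm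
  subst h2
  refine h.dih hS hp hinv (C := C.map S.subtype) (map_subtype_le C) ?_ ?_ he h1
  · exact isCyclic_of_surjective (C.equivMapOfInjective S.subtype S.subtype_injective)
      (MulEquiv.surjective _)
  · rw [relIndex, subgroupOf, comap_map_eq_self_of_injective S.subtype_injective, hCi]

theorem Lin.semi (h : Lin Q B D) {e : G} (he : e ∈ B) (h1 : e ≠ 1) :
    ∀ w ∈ Q, e * w = w * e → w = 1 := by
  by_cases hD : e ∈ D
  swap
  · exact h.fpf e he hD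
  intro w hw hew
  obtain ⟨k, r, hr, -, ho⟩ := L7.pw h1
  have := Fact.mk hr
  have := h.nD
  have hE : e ^ k ∈ B ⊓ D := pow_mem (show e ∈ B ⊓ D from ⟨he, hD⟩) k
  have hp : IsPGroup r (zpowers (⟨e ^ k, hE⟩ : ↥(B ⊓ D))) :=
    IsPGroup.of_card (n := 1) (by rw [Nat.card_zpowers, Subgroup.orderOf_mk, ho, pow_one])
  obtain ⟨T, hT⟩ := hp.exists_le_sylow
  set S := (T : Subgroup ↥(B ⊓ D)).map (B ⊓ D).subtype with hS
  have hSle : S ≤ B ⊓ D := map_subtype_le _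
  have hSp : IsPGroup r S := T.isPGroup'.map _
  have hSi : ¬ r ∣ S.relIndex (B ⊓ D) := by
    rw [relIndex, subgroupOf, hS, comap_map_eq_self_of_injective (subtype_injective _)]
    exact T.not_dvd_index
  have hf := frat hr h.cov hSle hSp hSi
  have h' := h.mono (B' := B ⊓ normalizer (S : Set G)) inf_le_left hf
  refine h'.pgrp (S := S) (fun s hs => ⟨⟨(hSle hs).1, le_normalizer hs⟩, (hSle hs).2⟩) hr hSp
    (fun b hb y hy => (mem_normalizer_iff.1 hb.2 y).1 hy) (e := e ^ k)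
    ⟨⟨e ^ k, hE⟩, hT (mem_zpowers _), rfl⟩ (fun h0 => ?_) w hw (Commute.pow_left hew k)
  rw [h0, orderOf_one] at ho
  exact hr.ne_one ho.symm
end L

end Cfsg.Lib.DRG
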