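import Cfsg.Agent.DRG.Defs
import Cfsg.Agent.Char.Clifford

/-! Tower DRG: the constituents of the permutation character of the derangement subgroup are small. -/

set_option autoImplicit false

namespace Cfsg.Lib.DRG

open MulAction Cfsg.Lib.Perm.Derange Subgroup Cfsg.Lib.Char
open scoped ComplexConjugate

namespace T1

theorem three {H : Type*} [Group H] [Fintype H] {π θ θ' : H → ℂ} (hπ : IsCharacter H π)
    (h0 : classInner π (fun _ => 1) ≠ 0) (hθ : IsIrrCharacter H θ) (h1 : θ ≠ fun _ => 1)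
    (hc : classInner π θ ≠ 0) (hθ' : IsIrrCharacter H θ') (h1' : θ' ≠ fun _ => 1)
    (hc' : classInner π θ' ≠ classInner θ θ') {n d : ℕ} (hn : π 1 = n) (hd : θ 1 = d)
    (hd' : θ' 1 = d) : 2 * d < n := by
  have a1 := hπ.sub_of_classInner_ne_zero isIrrCharacter_one h0
  have a2 := a1.sub_of_classInner_ne_zero hθ (by
    rw [classInner_sub_left, isIrrCharacter_one.classInner_of_ne hθ h1.symm, sub_zero]
    exact hc)
  have a3 := a2.sub_of_classInner_ne_zero hθ' (by
    rw [classInner_sub_left, classInner_sub_left,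
      isIrrCharacter_one.classInner_of_ne hθ' h1'.symm, sub_zero]
    exact sub_ne_zero.2 hc')
  obtain ⟨k, hk⟩ := a3.exists_nat_degree
  simp only [Pi.sub_apply, hn, hd, hd'] at hk
  have h2 : (n : ℂ) = ((k + 1 + d + d : ℕ) : ℂ) := by
    push_cast
    linear_combination hk
  have h3 : n = k + 1 + d + d := Nat.cast_injective h2
  omega

theorem inv_case {G : Type*} [Group G] [Fintype G] {N : Subgroup G} [hN : N.Normal] [Fintype N]
    {π : G → ℂ} (hπ : IsCharacter G π) (hoff : ∀ g, g ∉ N → π g = 1) {θ : N → ℂ}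
    (hθ : IsIrrCharacter N θ) (h1 : θ ≠ fun _ => 1)
    (hinv : ∀ (g : G) (n : N), θ ⟨g * n * g⁻¹, hN.conj_mem n n.2 g⟩ = θ n)
    (ha : classInner (fun n : N => π n) θ = 1) : N.index = 1 := by
  classical
  obtain ⟨c, hc⟩ := hπ.exists_nat_coeff
  have hf : ∀ χ : IrrCharacter G, ∃ f : ℕ, classInner (fun n : N => (χ : G → ℂ) n) θ = f :=
    fun χ => (χ.2.isCharacter.res N).exists_nat_classInner hθ.isCharacter
  choose f hf using hf
  have hres : (fun n : N => π n) =
      ∑ χ : IrrCharacter G, (c χ : ℂ) • fun n : N => (χ : G → ℂ) n := by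
    funext n
    rw [hc]
    simp only [Finset.sum_apply, Pi.smul_apply]
  have hsum : ∑ χ : IrrCharacter G, c χ * f χ = 1 := by
    have h2 := ha
    rw [hres, classInner_sum_left] at h2
    simp only [classInner_smul_left, hf] at h2
    exact_mod_cast h2
  obtain ⟨ψ, -, hψ⟩ := Finset.exists_ne_zero_of_sum_ne_zero (hsum.trans_ne one_ne_zero)
  have hle : c ψ * f ψ ≤ 1 := by
    rw [← hsum]
    exact Finset.single_le_sum (f := fun χ => c χ * f χ) (fun _ _ => Nat.zero_le _)
      (Finset.mem_univ ψ)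
  have hcf : c ψ * f ψ = 1 := by omega
  have hc1 : c ψ = 1 := Nat.eq_one_of_mul_eq_one_right hcf
  have hf1 : f ψ = 1 := Nat.eq_one_of_mul_eq_one_left hcf
  have hψθ : (fun n : N => (ψ : G → ℂ) n) = θ := by
    have h2 := clifford_res_invariant ψ.2 hθ hinv (by rw [hf, hf1]; simp)
    rw [hf, hf1, Nat.cast_one, one_smul] at h2
    exact h2
  have hψ1 : (ψ : G → ℂ) ≠ fun _ => 1 := fun h => h1 (by rw [← hψθ, h])
  have hin : classInner (π - fun _ => 1) (ψ : G → ℂ) = 1 := by
    rw [classInner_sub_left, isIrrCharacter_one.classInner_of_ne ψ.2 hψ1.symm, sub_zero, hc,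
      classInner_sum_smul_irr (fun χ => (c χ : ℂ)) ψ, hc1, Nat.cast_one]
  have hin' : classInner ((fun n : N => π n) - fun _ => 1) θ = 1 := by
    rw [classInner_sub_left, isIrrCharacter_one.classInner_of_ne hθ h1.symm, sub_zero, ha]
  have e1 := card_mul_classInner (π - fun _ => 1) (ψ : G → ℂ)
  have e2 := card_mul_classInner ((fun n : N => π n) - fun _ => 1) θ
  rw [hin, mul_one] at e1
  rw [hin', mul_one] at e2
  have e3 : ∑ g : G, (π - fun _ => 1 : G → ℂ) g * conj ((ψ : G → ℂ) g) =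
      ∑ n : N, (π - fun _ => 1 : G → ℂ) n * conj ((ψ : G → ℂ) n) := by
    rw [← Finset.sum_subtype (Finset.univ.filter (· ∈ N)) (by simp)
      (fun g => (π - fun _ => 1 : G → ℂ) g * conj ((ψ : G → ℂ) g))]
    refine (Finset.sum_filter_of_ne fun g _ h => ?_).symm
    by_contra hg
    apply h
    simp [hoff g hg]
  have e4 : (Nat.card G : ℂ) = Nat.card N := by
    rw [e1, e2, e3, ← hψθ]
    rfl
  have e5 : Nat.card G = Nat.card N := Nat.cast_injective e4
  have e6 := N.card_mul_index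
  rw [e5] at e6
  exact Nat.eq_of_mul_eq_mul_left Nat.card_pos (e6.trans (mul_one _).symm)

end T1

variable {G Ω : Type*} [Group G] [Finite G] [MulAction G Ω] [Finite Ω] [IsPretransitive G Ω]
  {Q : Subgroup G} {δ : Ω} {q : ℕ}

theorem Reg.small (h : Reg Q δ q) [Fintype (der G Ω)] (θ : der G Ω → ℂ)
    (hθ : IsIrrCharacter (der G Ω) θ) (h1 : θ ≠ fun _ => 1)
    (hc : classInner (pc (der G Ω) Ω) θ ≠ 0) : ∃ d : ℕ, θ 1 = d ∧ 2 * d < Nat.card Ω := by
  haveI := Fintype.ofFinite G
  haveI : Nonempty Ω := ⟨δ⟩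
  haveI := (der_main (G := G) (Ω := Ω)).1
  obtain ⟨d, hd⟩ := hθ.isCharacter.exists_nat_degree
  refine ⟨d, hd, ?_⟩
  have hπ : IsCharacter G (pc G Ω) := isCharacter_card_fixedBy G Ω
  have hπD : IsCharacter (der G Ω) (pc (der G Ω) Ω) := isCharacter_card_fixedBy _ Ω
  have hres : pc (der G Ω) Ω = fun n : der G Ω => pc G Ω n := rfl
  have h0 : classInner (pc (der G Ω) Ω) (fun _ => 1) ≠ 0 := by
    have h2 := burnside (der G Ω) Ω
    rw [card_quotient_eq_one, one_mul] at h2
    have h3 : ∑ n : der G Ω, pc (der G Ω) Ω n = (Nat.card (der G Ω) : ℂ) := by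
      rw [← h2, Nat.cast_sum]
      rfl
    rw [classInner_one_right, h3, inv_mul_cancel₀ (card_ne_zero _)]
    exact one_ne_zero
  have hn : pc (der G Ω) Ω 1 = (Nat.card Ω : ℕ) := by
    unfold pc
    rw [fixedBy_one_eq_univ, Nat.card_univ]
  by_cases ha : classInner (pc (der G Ω) Ω) θ = 1
  · by_cases hinv : ∀ g : G, conjChar (der G Ω) θ g = θ
    · exfalso
      have h2 := T1.inv_case hπ (fun g hg => by
        unfold pc
        rw [der_main.2 g hg, Nat.cast_one]) hθ h1 (fun g n => congrFun (hinv g) n) ha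
      have h3 := h.m2
      omega
    · obtain ⟨g, hg⟩ := not_forall.1 hinv
      refine T1.three hπD h0 hθ h1 hc (hθ.conjChar g) (fun e => h1 ?_) ?_ hn hd
        ((conjChar_apply_one _ θ g).trans hd)
      · rw [← conjChar_conjChar_inv (der G Ω) θ g, e, conjChar_const]
      · rw [hθ.classInner_of_ne (hθ.conjChar g) (Ne.symm hg), hres,
          classInner_res_conjChar hπ.isClassFunction]
        exact hc
  · exact T1.three hπD h0 hθ h1 hc hθ h1 (by rw [hθ.classInner_self]; exact ha) hn hd hd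

end Cfsg.Lib.DRG
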