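import Cfsg.Agent.DRG.SY2
import Cfsg.Agent.DRG.L7
import Cfsg.Agent.DRG.T1
import Mathlib.GroupTheory.Transfer

set_option autoImplicit false

namespace Cfsg.Lib.DRG

open MulAction Cfsg.Lib.Perm.Derange Subgroup
open scoped ComplexConjugate

variable {G Ω : Type*} [Group G] [Finite G] [MulAction G Ω] [Finite Ω] [IsPretransitive G Ω]
  {Q : Subgroup G} {δ : Ω} {q : ℕ}

namespace T2

theorem cm {G : Type*} [Group G] (A S : Subgroup G) :
    Nat.card ↥(A ⊓ S) * S.relIndex A = Nat.card A := by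
  rw [← relIndex_bot_left, ← relIndex_bot_left, ← inf_relIndex_left A S,
    relIndex_mul_relIndex _ _ _ bot_le inf_le_left]

omit [Finite Ω] [IsPretransitive G Ω] in
theorem idx (h : RQ Q δ) {A : Subgroup G} (hA : Q ≤ A) :
    Q.relIndex A = Nat.card ↥(A ⊓ stabilizer G δ) := by
  have : IsPretransitive A Ω := ⟨fun a b => by
    obtain ⟨x, hx, rfl⟩ := h.tr a
    obtain ⟨y, hy, rfl⟩ := h.tr b
    exact ⟨⟨y * x⁻¹, hA (mul_mem hy (inv_mem hx))⟩, by simp [Subgroup.smul_def, mul_smul]⟩⟩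
  have e1 : (stabilizer G δ).relIndex A = Nat.card Ω := index_stabilizer_of_transitive A δ
  have e2 := cm A (stabilizer G δ)
  have e3 := cm A Q
  rw [inf_eq_right.2 hA, h.card] at e3
  rw [e1, ← e3, mul_comm] at e2
  exact (Nat.eq_of_mul_eq_mul_left (h.card ▸ Nat.card_pos) e2).symm

omit [Finite Ω] [IsPretransitive G Ω] in
theorem syl (h : Reg Q δ q) : ¬ q ∣ Q.relIndex (der G Ω) := idx h.toRQ h.le ▸ h.cop

end T2

theorem Reg.cent (h : Reg Q δ q) {x : G} (hx : x ∈ Q) (h1 : x ≠ 1) {g : G} (hg : g * x = x * g) :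
    g ∈ Q := by
  have := Fact.mk h.prime
  let C := centralizer ({x} : Set G)
  have mC : ∀ g, g ∈ C ↔ g * x = x * g := fun g => mem_centralizer_singleton_iff
  have QC : Q ≤ C := fun y hy => (mC y).2 (h.ab y hy x hx)
  have dec : ∀ g ∈ C, ∃ y ∈ Q, y⁻¹ * g ∈ C ∧ (y⁻¹ * g) • δ = δ := fun g hg => by
    obtain ⟨y, hy, e⟩ := h.tr (g • δ)
    exact ⟨y, hy, mul_mem (inv_mem (QC hy)) hg, by rw [mul_smul, ← e, inv_smul_smul]⟩
  have KD : ∀ b ∈ C, b • δ = δ → b ∈ der G Ω := fun b hb e =>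
    mem_der_of_fix_two (a := x • δ) (fun k => h1 (h.reg x hx δ k))
      (by rw [← mul_smul, (mC b).1 hb, mul_smul, e]) e
  have CD : C ≤ der G Ω := fun g hg => by
    obtain ⟨y, hy, c, e⟩ := dec g hg
    simpa using mul_mem (h.le hy) (KD _ c e)
  let P : Sylow q C := (h.pg.comap_subtype (K := C)).toSylow fun d => T2.syl h
    (relIndex_mul_relIndex Q C _ QC CD ▸ Dvd.dvd.mul_right d _)
  have mP : ∀ c : C, c ∈ (P : Subgroup C) ↔ (c : G) ∈ Q := fun c => Iff.rfl
  have hP : normalizer ((P : Subgroup C) : Set C) ≤ centralizer ((P : Subgroup C) : Set C) := by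
    intro c hc
    have hn : (c : G) ∈ normalizer (Q : Set G) := by
      have : c ∈ (normalizer (Q : Set G)).subgroupOf C := by
        rw [subgroupOf_normalizer_eq QC]; exact hc
      exact this
    obtain ⟨y, hy, c1, e⟩ := dec c c.2
    have : y⁻¹ * c = 1 := by
      by_contra k
      have m : y⁻¹ * c ∈ normalizer (Q : Set G) := mul_mem (inv_mem (le_normalizer hy)) hn
      exact h1 (h.lin.semi ⟨m, e⟩ k x hx ((mC _).1 c1))
    have cQ : (c : G) ∈ Q := inv_mul_eq_one.1 this ▸ hy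
    exact fun z hz => Subtype.ext (h.ab _ hz _ cQ)
  let f := MonoidHom.transferSylow P hP
  have Kf : ∀ b : C, (b : G) • δ = δ → f b = 1 := fun b e => by
    obtain ⟨k, hk⟩ := IsPGroup.iff_orderOf.1 P.isPGroup' (f b)
    have d1 : orderOf (f b) ∣ Nat.card ↥(der G Ω ⊓ stabilizer G δ) :=
      (orderOf_map_dvd f b).trans (orderOf_coe b ▸ orderOf_dvd_natCard _ ⟨KD _ b.2 e, e⟩)
    rw [← orderOf_eq_one_iff, hk]
    rcases k with _ | k
    · rfl
    · exact absurd ((dvd_pow_self q k.succ_ne_zero).trans (hk ▸ d1)) h.cop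
  have fK : ∀ o : C, f o = 1 → (o : G) • δ = δ := fun o ho => by
    obtain ⟨y, hy, c, e⟩ := dec o o.2
    have k := Kf ⟨_, c⟩ e
    have k' : f ⟨y, QC hy⟩ = 1 := by
      have : (⟨y⁻¹ * o, c⟩ : C) = (⟨y, QC hy⟩ : C)⁻¹ * o := rfl
      rwa [this, map_mul, ho, mul_one, map_inv, inv_eq_one] at k
    have y1 := disjoint_def.1 (MonoidHom.ker_transferSylow_isComplement' P hP).disjoint k' ((mP _).2 hy)
    have y2 : y = 1 := congrArg Subtype.val y1
    simpa [y2] using e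
  obtain ⟨y, hy, c, e⟩ := dec g ((mC g).2 hg)
  have : y⁻¹ * g = 1 := h.fai _ fun ω => by
    obtain ⟨z, hz, rfl⟩ := h.tr ω
    have := fK ((⟨z, QC hz⟩ : C)⁻¹ * ⟨_, c⟩ * ⟨z, QC hz⟩) (by
      rw [map_mul, map_mul, Kf ⟨_, c⟩ e, mul_one, ← map_mul, inv_mul_cancel, map_one])
    change (z⁻¹ * (y⁻¹ * g) * z) • δ = δ at this
    rwa [mul_smul, mul_smul, inv_smul_eq_iff] at this
  exact inv_mul_eq_one.1 this ▸ hy

theorem Reg.th (h : Reg Q δ q) [Fintype (der G Ω)] :
    ∃ e t : ℕ, TH (Q.subgroupOf (der G Ω)) δ q e t := by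
  have eE : EE (Q.subgroupOf (der G Ω)) δ = (EE Q δ ⊓ der G Ω).subgroupOf (der G Ω) := by
    rw [inf_subgroupOf_right, EE, EE, ← subgroupOf_normalizer_eq h.le]
    rfl
  have cE : Nat.card (EE (Q.subgroupOf (der G Ω)) δ) = Nat.card ↥(EE Q δ ⊓ der G Ω) := by
    rw [eE]
    exact Nat.card_congr (subgroupOfEquivOfLe inf_le_right).toEquiv
  have cB := T2.cm (EE Q δ) (der G Ω)
  rw [← relIndex_sup_right, show EE Q δ ⊔ der G Ω = ⊤ from h.cov, relIndex_top_right] at cB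
  have d : Nat.card (EE Q δ) ∣ ({δ}ᶜ : Set Ω).ncard :=
    dvd_ncard_of_dvd_orbits (G := EE Q δ) _
      (fun g x hx k => hx (smul_left_cancel (g : G) (Eq.trans k g.2.2.symm))) fun ω hω => by
      obtain ⟨y, hy, rfl⟩ := h.tr ω
      have : stabilizer (EE Q δ) (y • δ) = ⊥ := eq_bot_iff.2 fun b hb => by
        by_contra k
        have hb' : (b : G) • y • δ = y • δ := hb
        have b1 : (b : G)⁻¹ • δ = δ := inv_smul_eq_iff.2 b.2.2.symm
        have e := h.reg (y⁻¹ * (b * y * (b : G)⁻¹)) (mul_mem (inv_mem hy) (h.lin.nQ b b.2 y hy)) δ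
          (by rw [mul_smul, mul_smul, b1, mul_smul, hb', inv_smul_smul])
        have y1 := h.lin.semi b.2 (fun e => k (Subtype.ext e)) y hy
          (mul_inv_eq_iff_eq_mul.1 (inv_mul_eq_one.1 e).symm)
        exact hω (by simp [y1])
      rw [Nat.card_coe_set_eq, ← index_stabilizer, this, index_bot]
  rw [Set.ncard_compl, Set.ncard_singleton, ← cB] at d
  obtain ⟨k, hk⟩ := d
  have n2 := h.two
  have m2 := h.m2
  have sm := h.sm
  generalize Nat.card ↥(EE Q δ ⊓ der G Ω) = e at cE hk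
  have k1 : 1 ≤ k := Nat.pos_of_ne_zero fun k0 => by rw [k0, mul_zero] at hk; omega
  have hn : Nat.card Ω = (der G Ω).index * k * e + 1 := by
    have : (der G Ω).index * k * e = e * (der G Ω).index * k := by ring
    omega
  refine ⟨e, (der G Ω).index * k, ⟨fun x hx y hy => Subtype.ext (h.ab _ hx _ hy), fun ω => ?_,
    fun x hx ω k => Subtype.ext (h.reg _ hx ω k)⟩, fun g k => Subtype.ext (h.fai _ k), h.prime,
    h.pg.comap_subtype, T2.syl h, fun x hx x1 g k => h.cent hx (fun e => x1 (Subtype.ext e))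
      (congrArg Subtype.val k), cE, hn, by nlinarith, ?_, h.small⟩
  · obtain ⟨x, hx, e⟩ := h.tr ω
    exact ⟨⟨x, h.le hx⟩, hx, e⟩
  · rw [hn] at sm
    generalize (der G Ω).index = m at sm m2
    have : k * e < m + 2 := Nat.lt_of_mul_lt_mul_left (a := m) (by nlinarith)
    nlinarith

end Cfsg.Lib.DRG
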