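import Cfsg.Agent.DRG.Defs

/-! Tower DRG: the permutation character restricted to a regular abelian subgroup. -/

set_option autoImplicit false
set_option linter.unusedSectionVars false

namespace Cfsg.Lib.DRG

open MulAction Cfsg.Lib.Perm.Derange Subgroup
open scoped ComplexConjugate

section C
variable {H Ω : Type*} [Group H] [Fintype H] [MulAction H Ω] [Finite Ω] {Q : Subgroup H}
  [Fintype Q] {δ : Ω} {q e t : ℕ}

theorem C0.card (h : RQ Q δ) : Nat.card Q = Nat.card Ω := by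
  refine Nat.card_eq_of_bijective (fun x : Q => (x : H) • δ) ⟨fun x y hxy => ?_, fun ω => ?_⟩
  · have h1 : ((y : H)⁻¹ * x) • δ = δ := by
      rw [mul_smul]
      simp only at hxy
      rw [hxy, inv_smul_smul]
    have := h.reg _ (Q.mul_mem (Q.inv_mem y.2) x.2) δ h1
    exact Subtype.ext (inv_mul_eq_one.1 this).symm
  · obtain ⟨x, hx, hω⟩ := h.tr ω
    exact ⟨⟨x, hx⟩, hω⟩

theorem C0.comm (h : RQ Q δ) (a b : Q) : a * b = b * a :=
  Subtype.ext (h.ab _ a.2 _ b.2)

theorem C0.cls (h : RQ Q δ) (f : Q → ℂ) : IsClassFunction Q f := by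
  rw [Cfsg.Lib.Char.isClassFunction_iff_isConj]
  rintro a b hab
  obtain ⟨c, rfl⟩ := isConj_iff.1 hab
  rw [C0.comm h c a, mul_inv_cancel_right]

/-- linear characters as irreducible characters -/
noncomputable def C0.toIrr (Q : Subgroup H) (lam : Q →* ℂˣ) : IrrCharacter Q :=
  ⟨fun x => (lam x : ℂ), Cfsg.Lib.Char.isIrrCharacter_monoidHom lam⟩

theorem C0.toIrr_eq_1' : type_of% @C0.toIrr.eq_1 := @C0.toIrr.eq_1

theorem C0.toIrr_inj : Function.Injective (C0.toIrr Q) := by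
  intro a b hab
  have := congrArg Subtype.val hab
  ext x
  exact congrFun this x

theorem C0.toIrr_bij (h : RQ Q δ) : Function.Bijective (C0.toIrr Q) := by
  refine ⟨C0.toIrr_inj, fun χ => ?_⟩
  obtain ⟨lam, hl⟩ := χ.2.isCharacter.exists_monoidHom_of_apply_one
    (χ.2.apply_one_of_comm (C0.comm h))
  exact ⟨lam, Subtype.ext hl.symm⟩

theorem C0.finite : Finite (Q →* ℂˣ) := Finite.of_injective _ (C0.toIrr_inj (Q := Q))

open Classical in
theorem C0.orth (lam mu : Q →* ℂˣ) :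
    classInner (fun x : Q => (lam x : ℂ)) (fun x => (mu x : ℂ)) = if lam = mu then 1 else 0 := by
  have := Cfsg.Lib.Char.classInner_irr (C0.toIrr Q lam) (C0.toIrr Q mu)
  rw [show (if lam = mu then (1 : ℂ) else 0) = if C0.toIrr Q lam = C0.toIrr Q mu then 1 else 0 by
    simp [C0.toIrr_inj.eq_iff]]
  exact this

theorem C0.pc_one : pc H Ω 1 = (Nat.card Ω : ℂ) := by
  simp [pc]

theorem C0.pc_zero (h : RQ Q δ) {x : H} (hx : x ∈ Q) (h1 : x ≠ 1) : pc H Ω x = 0 := by
  have : IsEmpty (fixedBy Ω x) := ⟨fun ω => h1 (h.reg x hx ω.1 ω.2)⟩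
  simp [pc]

theorem C0.pc_char : IsCharacter H (pc H Ω) := Cfsg.Lib.Char.isCharacter_card_fixedBy H Ω

theorem RQ.pc_res (h : RQ Q δ) (lam : Q →* ℂˣ) :
    classInner (fun x : Q => pc H Ω x) (fun x => (lam x : ℂ)) = 1 := by
  unfold classInner
  rw [Finset.sum_eq_single (1 : Q)]
  · have : (Nat.card Q : ℂ) ≠ 0 := Nat.cast_ne_zero.2 Nat.card_pos.ne'
    simp only [OneMemClass.coe_one, map_one, Units.val_one, mul_one]
    rw [C0.pc_one, ← C0.card h, inv_mul_cancel₀ this]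
  · intro b _ hb
    beta_reduce
    rw [C0.pc_zero h b.2 (fun hh => hb (Subtype.ext hh)), zero_mul]
  · simp

theorem C0.sum_one (h : RQ Q δ) (lam : Q →* ℂˣ) :
    ∑ θ : IrrCharacter H, classInner (pc H Ω) θ *
      classInner (fun x : Q => (θ : H → ℂ) x) (fun x => (lam x : ℂ)) = 1 := by
  rw [← h.pc_res lam]
  have h1 : (fun x : Q => pc H Ω x) = ∑ θ : IrrCharacter H,
      classInner (pc H Ω) θ • (fun x : Q => (θ : H → ℂ) x) := by
    funext x
    rw [(C0.pc_char (H := H) (Ω := Ω)).isClassFunction.apply_eq_sum_irr]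
    simp
  rw [h1, Cfsg.Lib.Char.classInner_sum_left]
  simp only [Cfsg.Lib.Char.classInner_smul_left]

theorem RQ.ex_cons (h : RQ Q δ) (lam : Q →* ℂˣ) : ∃ θ : H → ℂ, IsIrrCharacter H θ ∧
    classInner (pc H Ω) θ ≠ 0 ∧ classInner (fun x : Q => θ x) (fun x => (lam x : ℂ)) ≠ 0 := by
  by_contra hc
  push Not at hc
  have := C0.sum_one h lam
  rw [Finset.sum_eq_zero] at this
  · exact zero_ne_one this
  · intro θ _
    by_cases h0 : classInner (pc H Ω) θ = 0
    · rw [h0, zero_mul]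
    · rw [hc θ θ.2 h0, mul_zero]

/-- Fourier expansion on the abelian group `Q` -/
theorem RQ.fourier (h : RQ Q δ) (f : Q → ℂ) (x : Q) :
    f x = ∑ᶠ lam : Q →* ℂˣ, classInner f (fun y => (lam y : ℂ)) * (lam x : ℂ) := by
  have := C0.finite (Q := Q)
  have := Fintype.ofFinite (Q →* ℂˣ)
  rw [finsum_eq_sum_of_fintype, (C0.cls h f).apply_eq_sum_irr x]
  exact (Fintype.sum_bijective _ (C0.toIrr_bij h) _ _ (fun _ => rfl)).symm

theorem RQ.ex_lam (h : RQ Q δ) {θ : H → ℂ} (hθ : IsIrrCharacter H θ) :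
    ∃ lam : Q →* ℂˣ, classInner (fun x : Q => θ x) (fun x => (lam x : ℂ)) ≠ 0 := by
  by_contra hc
  push Not at hc
  have := h.fourier (fun x : Q => θ x) 1
  simp only [hc, zero_mul, finsum_zero] at this
  exact hθ.apply_one_ne_zero this

theorem C0.key (h : RQ Q δ) (lam : Q →* ℂˣ) {θ : H → ℂ} (hθ : IsIrrCharacter H θ)
    (hc : classInner (pc H Ω) θ ≠ 0)
    (hl : classInner (fun x : Q => θ x) (fun x => (lam x : ℂ)) ≠ 0) :
    classInner (pc H Ω) θ = 1 ∧ classInner (fun x : Q => θ x) (fun x => (lam x : ℂ)) = 1 ∧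
        ∀ θ' : H → ℂ, IsIrrCharacter H θ' → classInner (pc H Ω) θ' ≠ 0 →
          classInner (fun x : Q => θ' x) (fun x => (lam x : ℂ)) ≠ 0 → θ' = θ := by
  classical
  choose a ha using fun χ : IrrCharacter H =>
    (C0.pc_char (H := H) (Ω := Ω)).exists_nat_classInner χ.2.isCharacter
  choose b hb using fun χ : IrrCharacter H => (χ.2.isCharacter.res Q).exists_nat_classInner
    (Cfsg.Lib.Char.isIrrCharacter_monoidHom lam).isCharacter
  have hs := C0.sum_one h lam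
  simp only [ha, hb] at hs
  have hn : ∑ χ : IrrCharacter H, a χ * b χ = 1 := by exact_mod_cast hs
  have pos : ∀ χ : IrrCharacter H, classInner (pc H Ω) χ ≠ 0 →
      classInner (fun x : Q => (χ : H → ℂ) x) (fun x => (lam x : ℂ)) ≠ 0 → 0 < a χ * b χ := by
    intro χ h1 h2
    rw [ha] at h1
    rw [hb] at h2
    exact Nat.mul_pos (Nat.pos_of_ne_zero fun h0 => h1 (by simp [h0]))
      (Nat.pos_of_ne_zero fun h0 => h2 (by simp [h0]))
  have p0 := pos ⟨θ, hθ⟩ hc hl
  have le1 : a ⟨θ, hθ⟩ * b ⟨θ, hθ⟩ ≤ 1 := hn ▸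
    Finset.single_le_sum (f := fun χ => a χ * b χ) (fun _ _ => Nat.zero_le _) (Finset.mem_univ _)
  have e1 : a ⟨θ, hθ⟩ * b ⟨θ, hθ⟩ = 1 := le_antisymm le1 p0
  refine ⟨?_, ?_, fun θ' hθ' h1 h2 => ?_⟩
  · have := ha ⟨θ, hθ⟩
    rw [Nat.eq_one_of_mul_eq_one_right e1] at this
    simpa using this
  · have := hb ⟨θ, hθ⟩
    rw [Nat.eq_one_of_mul_eq_one_left e1] at this
    simpa using this
  · by_contra hne
    have hne' : (⟨θ', hθ'⟩ : IrrCharacter H) ≠ ⟨θ, hθ⟩ := fun hh => hne (congrArg Subtype.val hh)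
    have p1 := pos ⟨θ', hθ'⟩ h1 h2
    have := Finset.add_le_sum (f := fun χ : IrrCharacter H => a χ * b χ) (s := Finset.univ)
      (fun _ _ => Nat.zero_le _) (Finset.mem_univ _) (Finset.mem_univ _) hne'
    omega

theorem RQ.part (h : RQ Q δ) {θ : H → ℂ} (hθ : IsIrrCharacter H θ)
    (hc : classInner (pc H Ω) θ ≠ 0) :
    classInner (pc H Ω) θ = 1 ∧ ∀ lam : Q →* ℂˣ,
      classInner (fun x : Q => θ x) (fun x => (lam x : ℂ)) ≠ 0 →
        classInner (fun x : Q => θ x) (fun x => (lam x : ℂ)) = 1 ∧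
        ∀ θ' : H → ℂ, IsIrrCharacter H θ' → classInner (pc H Ω) θ' ≠ 0 →
          classInner (fun x : Q => θ' x) (fun x => (lam x : ℂ)) ≠ 0 → θ' = θ := by
  obtain ⟨lam, hl⟩ := h.ex_lam hθ
  exact ⟨(C0.key h lam hθ hc hl).1, fun mu hm => (C0.key h mu hθ hc hm).2⟩

theorem C0.card_lin (h : RQ Q δ) : Nat.card (Q →* ℂˣ) = Nat.card Q := by
  classical
  have := C0.finite (Q := Q)
  have := Fintype.ofFinite (Q →* ℂˣ)
  have := h.fourier (fun x : Q => pc H Ω x) 1
  simp only [h.pc_res, map_one, Units.val_one, mul_one, OneMemClass.coe_one] at this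
  rw [finsum_eq_sum_of_fintype, C0.pc_one, ← C0.card h] at this
  simp only [Finset.sum_const, Finset.card_univ, nsmul_eq_mul, mul_one] at this
  rw [Nat.card_eq_fintype_card (α := Q →* ℂˣ)]
  exact_mod_cast this.symm

end C

end Cfsg.Lib.DRG
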