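import Cfsg.Agent.DRG.C1
import Cfsg.Agent.Char.Kernel

/-! The norm character of a constituent. -/

set_option autoImplicit false
set_option linter.unusedSectionVars false

namespace Cfsg.Lib.DRG

open MulAction Cfsg.Lib.Perm.Derange Subgroup Cfsg.Lib.Char
open scoped ComplexConjugate

variable {H Ω : Type*} [Group H] [Fintype H] [MulAction H Ω] [Finite Ω] {Q : Subgroup H}
  [Fintype Q] {δ : Ω} {q e t : ℕ}

namespace C4

theorem card (h : RQ Q δ) : Nat.card Q = Nat.card Ω :=
  Nat.card_eq_of_bijective (fun x : Q => (x : H) • δ) ⟨fun x y e => Subtype.ext (by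
    have h1 : (y : H)⁻¹ * x = 1 := h.reg _ (mul_mem (inv_mem y.2) x.2) δ (by
      rw [mul_smul, inv_smul_eq_iff]; exact e)
    exact (inv_mul_eq_one.1 h1).symm), fun ω => by
      obtain ⟨x, hx, e⟩ := h.tr ω
      exact ⟨⟨x, hx⟩, e⟩⟩

theorem coef {θ : Fin t → H → ℂ} (c : CS Q δ e t θ) (i : Fin t) :
    ∃ a : Fin t → ℕ, (∀ x ∈ Q, θ i x * conj (θ i x) = e + ∑ j, (a j : ℂ) * θ j x) ∧
      e = 1 + ∑ j, a j ∧ ∀ j, classInner (fun x : Q => θ i x * conj (θ i x))
        (fun x : Q => θ j x) = a j * e := by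
  obtain ⟨a0, a, ha⟩ := c.res _ ((c.irr i).isCharacter.mul (c.irr i).isCharacter.conj)
  have hf : (fun x : Q => θ i x * conj (θ i x)) =
      (a0 : ℂ) • (fun _ : Q => (1 : ℂ)) + ∑ j, (a j : ℂ) • fun x : Q => θ j x := by
    funext x
    have := ha x x.2
    simpa [Finset.sum_apply] using this
  have h1 : (a0 : ℂ) = e := by
    have h2 : classInner (fun x : Q => θ i x * conj (θ i x)) (fun _ => 1) = e := by
      have := c.orth i i
      rw [if_pos rfl] at this
      rw [← this]
      simp [classInner]
    rw [hf, classInner_add_left, classInner_smul_left, classInner_one_one, classInner_sum_left,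
      Finset.sum_eq_zero fun j _ => by rw [classInner_smul_left, c.orth1, mul_zero]] at h2
    simpa using h2
  have he : (e : ℂ) ≠ 0 := c.deg i ▸ (c.irr i).apply_one_ne_zero
  refine ⟨a, fun x hx => h1 ▸ ha x hx, ?_, fun j => ?_⟩
  · have h2 := ha 1 (one_mem Q)
    simp only [Pi.mul_apply, c.deg, h1, map_natCast, ← Finset.sum_mul] at h2
    have h3 : (e : ℂ) = 1 + ∑ j, (a j : ℂ) :=
      mul_right_cancel₀ he (by rw [h2]; ring)
    exact_mod_cast h3
  · rw [hf, classInner_add_left, classInner_smul_left, classInner_eq_zero_comm.1 (c.orth1 j),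
      classInner_sum_left, Finset.sum_eq_single j (fun k _ hk => by
        rw [classInner_smul_left, c.orth, if_neg hk, mul_zero]) (by simp),
      classInner_smul_left, c.orth, if_pos rfl, mul_zero, zero_add]

theorem dif (h : TH Q δ q e t) {θ : Fin t → H → ℂ} (c : CS Q δ e t θ) {χ : H → ℂ}
    (hχ : IsClassFunction H χ) (j l : Fin t) :
    e * (classInner χ (θ j) - classInner χ (θ l)) =
      classInner (fun x : Q => χ x) (fun x : Q => θ j x) -
        classInner (fun x : Q => χ x) (fun x : Q => θ l x) := by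
  classical
  have h1 := h.tisum (hχ.mul ((c.irr j).isClassFunction.sub (c.irr l).isClassFunction).conj)
  rw [Finset.sum_filter_of_ne fun g _ hg => by
    by_contra hs
    exact hg (by simp [c.off j l g hs])] at h1
  have h2 := card_mul_classInner χ (θ j - θ l)
  have h3 := card_mul_classInner (fun x : Q => χ x) ((fun x : Q => θ j x) - fun x : Q => θ l x)
  rw [classInner_sub_right] at h2 h3
  rw [card h.toRQ] at h3
  simp only [Pi.mul_apply, Pi.sub_apply, c.deg, sub_self, map_zero, mul_zero, sub_zero] at h1 h2 h3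
  rw [← h2, ← h3] at h1
  have h4 : (Nat.card Ω : ℂ) ≠ 0 := by
    rw [← card h.toRQ]; exact card_ne_zero Q
  refine mul_left_cancel₀ (mul_ne_zero h4 (card_ne_zero H)) ?_
  linear_combination h1

theorem normal (h : TH Q δ q e t) {θ : Fin t → H → ℂ} (c : CS Q δ e t θ) {i l : Fin t}
    {a : Fin t → ℕ} (h1 : ∀ x ∈ Q, θ i x * conj (θ i x) = e + ∑ j, (a j : ℂ) * θ j x)
    (h2 : e = 1 + ∑ j, a j) (h3 : ∀ j, classInner (fun x : Q => θ i x * conj (θ i x))
      (fun x : Q => θ j x) = a j * e) (hl : a l = 0) : Q.Normal := by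
  classical
  have hχ : IsCharacter H fun g => θ i g * conj (θ i g) :=
    (c.irr i).isCharacter.mul (c.irr i).isCharacter.conj
  have he : (e : ℂ) ≠ 0 := c.deg i ▸ (c.irr i).apply_one_ne_zero
  have h4 : classInner (fun g => θ i g * conj (θ i g)) (θ l) = 0 := by
    obtain ⟨m, hm⟩ := ((hχ.sub_classInner_smul (c.irr l)).res Q).exists_nat_classInner
      ((c.irr l).isCharacter.res Q)
    obtain ⟨k, hk⟩ := hχ.exists_nat_classInner (c.irr l).isCharacter
    rw [hk] at hm ⊢
    have h5 : classInner ((fun x : Q => θ i x * conj (θ i x)) - (k : ℂ) • fun x : Q => θ l x)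
        (fun x : Q => θ l x) = m := hm
    rw [classInner_sub_left, classInner_smul_left, h3, c.orth, if_pos rfl, hl] at h5
    have h6 : ((k * e + m : ℕ) : ℂ) = 0 := by push_cast; linear_combination -h5
    have h7 : k * e = 0 := by have := Nat.cast_eq_zero.1 h6; omega
    rw [(Nat.mul_eq_zero.1 h7).resolve_right (Nat.cast_ne_zero.1 he), Nat.cast_zero]
  have h5 : ∀ j, classInner (fun g => θ i g * conj (θ i g)) (θ j) = a j := fun j => by
    have := dif h c hχ.isClassFunction j l
    rw [h4, h3, h3, hl] at this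
    exact mul_left_cancel₀ he (by linear_combination this)
  have hη : IsCharacter H ((fun g => θ i g * conj (θ i g)) - ∑ j, (a j : ℂ) • θ j) := by
    refine isCharacter_iff_classInner.2 ⟨hχ.isClassFunction.sub
      (isClassFunction_sum _ fun j _ => (c.irr j).isClassFunction.smul _), fun ψ hψ => ?_⟩
    rw [classInner_sub_left, classInner_sum_left]
    by_cases hk : ∃ k, θ k = ψ
    · obtain ⟨k, rfl⟩ := hk
      refine ⟨0, ?_⟩
      rw [Finset.sum_eq_single k (fun j _ hj => by
        rw [classInner_smul_left, (c.irr j).classInner_of_ne (c.irr k) (c.inj.ne hj), mul_zero])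
        (by simp), classInner_smul_left, (c.irr k).classInner_self, h5]
      simp
    · rw [Finset.sum_eq_zero fun j _ => by
        rw [classInner_smul_left, (c.irr j).classInner_of_ne hψ fun e => hk ⟨j, e⟩, mul_zero],
        sub_zero]
      exact hχ.exists_nat_classInner hψ.isCharacter
  have hv : ∀ x ∈ Q, ((fun g => θ i g * conj (θ i g)) - ∑ j, (a j : ℂ) • θ j) x = e :=
    fun x hx => by simp [Finset.sum_apply, h1 x hx]
  have hK := h.eq_of_sp (T := charKer ((fun g => θ i g * conj (θ i g)) - ∑ j, (a j : ℂ) • θ j))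
    (fun x hx => hη.mem_charKer_iff.2 ((hv x hx).trans (hv 1 (one_mem Q)).symm)) fun k hk hk1 => by
      by_contra hs
      have h6 := (hη.mem_charKer_iff.1 hk).trans (hv 1 (one_mem Q))
      have h7 := c.sum k
      have h8 : ∀ j, θ j k = θ i k := fun j => c.off j i k hs
      simp only [Pi.sub_apply, Finset.sum_apply, Pi.smul_apply, smul_eq_mul, h8,
        ← Finset.sum_mul] at h6
      simp only [h8, Finset.sum_const, Finset.card_univ, Fintype.card_fin, nsmul_eq_mul, pc] at h7
      have ht : (t : ℂ) ≠ 0 := Nat.cast_ne_zero.2 (by have := h.two; omega)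
      have h9 : conj (θ i k) = θ i k := by
        have := congrArg conj h7
        simp only [map_natCast, map_add, map_one, map_mul] at this
        exact mul_left_cancel₀ ht (by linear_combination h7 - this)
      have h10 : (e : ℂ) = 1 + ∑ j, (a j : ℂ) := by exact_mod_cast h2
      have h11 : (θ i k - e) * (θ i k + 1) = 0 := by
        rw [h9] at h6
        linear_combination h6 - θ i k * h10
      rcases mul_eq_zero.1 h11 with h12 | h12
      · have h13 : Nat.card (fixedBy Ω k) = Nat.card Ω := by
          rw [h.cn]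
          have : (Nat.card (fixedBy Ω k) : ℂ) = (t * e + 1 : ℕ) := by
            push_cast; linear_combination h7 + t * h12
          exact_mod_cast this
        rw [Nat.card_coe_set_eq, ← Set.eq_univ_iff_ncard] at h13
        exact hk1 (h.fai k fun ω => (h13.ge (Set.mem_univ ω) : ω ∈ fixedBy Ω k))
      · have : ((Nat.card (fixedBy Ω k) + t : ℕ) : ℂ) = (1 : ℕ) := by
          push_cast; linear_combination h7 + t * h12
        have h13 := Nat.cast_injective (R := ℂ) this
        have := h.two
        omega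
  exact hK ▸ hη.charKer_normal

end C4

theorem TH.dich (h : TH Q δ q e t) {θ : Fin t → H → ℂ} (c : CS Q δ e t θ) :
    Q.Normal ∨ (e = t + 1 ∧ ∀ i, ∀ x ∈ Q, x ≠ 1 → θ i x * conj (θ i x) = t) := by
  refine or_iff_not_imp_left.2 fun hN => ?_
  have key : ∀ i, e = t + 1 ∧ ∀ x ∈ Q, x ≠ 1 → θ i x * conj (θ i x) = t := fun i => by
    obtain ⟨a, h1, h2, h3⟩ := C4.coef c i
    have h4 : ∀ j ∈ Finset.univ, 1 ≤ a j := fun j _ =>
      Nat.one_le_iff_ne_zero.2 fun hj => hN (C4.normal h c h1 h2 h3 hj)
    have h5 := Finset.sum_le_sum h4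
    have h6 := h.le
    have h7 : ∑ _j : Fin t, 1 = t := by simp
    have h8 := (Finset.sum_eq_sum_iff_of_le h4).1 (by omega)
    refine ⟨by omega, fun x hx hx1 => ?_⟩
    have h9 := c.sum x
    have h10 : pc H Ω x = 0 := by
      have : fixedBy Ω x = ∅ := Set.eq_empty_of_forall_notMem fun ω hω => hx1 (h.reg x hx ω hω)
      simp [pc, this]
    have h11 : (e : ℂ) = t + 1 := by exact_mod_cast (by omega : e = t + 1)
    rw [h1 x hx, Finset.sum_congr rfl fun j hj => by rw [← h8 j hj, Nat.cast_one, one_mul]]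
    linear_combination h11 + h10 - h9
  exact ⟨(key ⟨0, by have := h.two; omega⟩).1, fun i => (key i).2⟩

end Cfsg.Lib.DRG
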