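import Cfsg.Agent.DRG.Defs
import Cfsg.Agent.Char.Ind
import Mathlib.GroupTheory.FiniteAbelian.Duality
import Mathlib.RingTheory.RootsOfUnity.AlgebraicallyClosed
import Mathlib.Analysis.Complex.Polynomial.Basic

/-! Tower DRG: the difference set. -/

set_option autoImplicit false

namespace Cfsg.Lib.DRG

open MulAction Cfsg.Lib.Perm.Derange Subgroup
open scoped ComplexConjugate

namespace C5

theorem conj_lam {A : Type*} [Group A] [Finite A] (lam : A →* ℂˣ) (y : A) :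
    conj (lam y : ℂ) = (lam y⁻¹ : ℂ) := by
  have h1 : (lam y : ℂ) ^ Nat.card A = 1 := by
    rw [← Units.val_pow_eq_pow_val, ← map_pow, pow_card_eq_one', map_one, Units.val_one]
  have h2 := Complex.norm_eq_one_of_pow_eq_one h1 Nat.card_pos.ne'
  rw [map_inv, Units.val_inv_eq_inv_val, Complex.inv_eq_conj h2]

theorem card_dual {A : Type*} [CommGroup A] [Finite A] : Nat.card (A →* ℂˣ) = Nat.card A :=
  have : NeZero (Monoid.exponent A) := ⟨Monoid.exponent_ne_zero_of_finite⟩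
  CommGroup.card_monoidHom_of_hasEnoughRootsOfUnity A ℂ

open Classical in
theorem sum_lam {A : Type*} [CommGroup A] [Finite A] [Fintype (A →* ℂˣ)] (y : A) :
    ∑ lam : A →* ℂˣ, (lam y : ℂ) = if y = 1 then (Nat.card A : ℂ) else 0 := by
  have : NeZero (Monoid.exponent A) := ⟨Monoid.exponent_ne_zero_of_finite⟩
  split_ifs with h
  · simp [h, ← card_dual (A := A)]
  · obtain ⟨μ, hμ⟩ := CommGroup.exists_apply_ne_one_of_hasEnoughRootsOfUnity A ℂ h
    have h1 : ∑ lam : A →* ℂˣ, (lam y : ℂ) = (μ y : ℂ) * ∑ lam : A →* ℂˣ, (lam y : ℂ) := by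
      rw [Finset.mul_sum, ← Equiv.sum_comp (Equiv.mulLeft μ)]
      simp
    by_contra h0
    exact hμ (Units.ext (by simpa using ((mul_left_eq_self₀.1 h1.symm).resolve_right h0)))

end C5

variable {H Ω : Type*} [Group H] [Fintype H] [MulAction H Ω] [Finite Ω] {Q : Subgroup H}
  [Fintype Q] {δ : Ω} {q e t : ℕ}

open C5 in
theorem TH.dset (h : TH Q δ q e t) {θ : Fin t → H → ℂ} (c : CS Q δ e t θ) (he : e = t + 1)
    (hv : ∀ i, ∀ x ∈ Q, x ≠ 1 → θ i x * conj (θ i x) = t) {x : H} (hx : x ∈ Q) (hx1 : x ≠ 1)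
    {u : H} (hu : u ∈ Q) (hu1 : u ≠ 1) :
    ∃! p : H × H, (∃ b ∈ EE Q δ, b * x * b⁻¹ = p.1) ∧ (∃ b ∈ EE Q δ, b * x * b⁻¹ = p.2) ∧
      p.1 * p.2⁻¹ = u := by
  classical
  let _ : CommGroup Q := { (inferInstance : Group Q) with
    mul_comm := fun a b => Subtype.ext (h.ab a a.2 b b.2) }
  have hfin : Finite (Q →* ℂˣ) :=
    Nat.finite_of_card_ne_zero (by rw [card_dual]; exact Nat.card_pos.ne')
  let _ : Fintype (Q →* ℂˣ) := Fintype.ofFinite _
  have cQ : Nat.card Q = t * e + 1 := by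
    rw [← h.cn]
    refine Nat.card_congr (Equiv.ofBijective (fun a : Q => (a : H) • δ) ⟨fun a b hab => ?_, fun ω => ?_⟩)
    · have h1 := h.reg ((b : H)⁻¹ * a) (mul_mem (inv_mem b.2) a.2) δ (by
        rw [mul_smul, inv_smul_eq_iff]; exact hab)
      exact Subtype.ext (inv_mul_eq_one.1 h1).symm
    · obtain ⟨a, ha, h1⟩ := h.tr ω
      exact ⟨⟨a, ha⟩, h1⟩
  let φ : EE Q δ → Q := fun b => ⟨b * x * (b : H)⁻¹, (mem_normalizer_iff.1 b.2.1 x).1 hx⟩
  let u' : Q := ⟨u, hu⟩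
  have hph : ∀ lam : Q →* ℂˣ, ph Q (EE Q δ) lam x = ∑ b, (lam (φ b) : ℂ) := by
    intro lam
    rw [ph, finsum_eq_sum_of_fintype]
    exact Finset.sum_congr rfl fun b _ => Char.extendByZero_coe _ _ (φ b)
  have cE : (Fintype.card (EE Q δ) : ℂ) = t + 1 := by
    rw [← Nat.card_eq_fintype_card, h.cE, he]
    push_cast
    rfl
  have hS : ∀ lam : Q →* ℂˣ, ∑ p : EE Q δ × EE Q δ, (lam (φ p.1 * (φ p.2)⁻¹ * u'⁻¹) : ℂ) =
      t * (lam u'⁻¹ : ℂ) + if lam = 1 then ((t : ℂ) + 1) ^ 2 - t else 0 := by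
    intro lam
    have h1 : ∑ p : EE Q δ × EE Q δ, (lam (φ p.1 * (φ p.2)⁻¹ * u'⁻¹) : ℂ) =
        (∑ b, (lam (φ b) : ℂ)) * conj (∑ b, (lam (φ b) : ℂ)) * (lam u'⁻¹ : ℂ) := by
      rw [map_sum, Finset.sum_mul_sum, Finset.sum_mul, Fintype.sum_prod_type]
      refine Finset.sum_congr rfl fun b _ => ?_
      rw [Finset.sum_mul]
      refine Finset.sum_congr rfl fun b' _ => ?_
      rw [conj_lam, map_mul, map_mul, Units.val_mul, Units.val_mul]
    rw [h1]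
    split_ifs with h0
    · subst h0
      simp [cE]
      ring
    · obtain ⟨i, hi⟩ := c.lin lam h0
      rw [← hph, ← hi x hx, hv i x hx hx1, add_zero]
  let F := Finset.univ.filter fun p : EE Q δ × EE Q δ => φ p.1 * (φ p.2)⁻¹ * u'⁻¹ = 1
  have h2 : (F.card : ℂ) * (Nat.card Q : ℂ) = ((t : ℂ) + 1) ^ 2 - t := by
    have h3 := Finset.sum_congr (rfl : (Finset.univ : Finset (Q →* ℂˣ)) = _) fun lam _ => hS lam
    rw [Finset.sum_comm, Finset.sum_add_distrib, ← Finset.mul_sum, sum_lam,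
      if_neg (fun h4 => hu1 (congrArg Subtype.val (inv_eq_one.1 h4))), Finset.sum_ite_eq'] at h3
    simp only [sum_lam, mul_zero, zero_add, Finset.mem_univ, if_true] at h3
    rw [← h3, Finset.card_filter, Nat.cast_sum, Finset.sum_mul]
    refine Finset.sum_congr rfl fun p _ => ?_
    split_ifs <;> simp
  have h4 : F.card = 1 := by
    have h5 : (Nat.card Q : ℂ) = ((t : ℂ) + 1) ^ 2 - t := by
      rw [cQ, he]; push_cast; ring
    have h6 : (Nat.card Q : ℂ) ≠ 0 := Nat.cast_ne_zero.2 Nat.card_pos.ne'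
    rw [← h5] at h2
    exact_mod_cast (mul_left_eq_self₀.1 h2).resolve_right h6
  obtain ⟨p0, hp0⟩ := Finset.card_eq_one.1 h4
  have h7 : p0 ∈ F := hp0 ▸ Finset.mem_singleton_self p0
  refine ⟨(φ p0.1, φ p0.2), ⟨⟨p0.1, p0.1.2, rfl⟩, ⟨p0.2, p0.2.2, rfl⟩, ?_⟩, ?_⟩
  · exact congrArg Subtype.val (mul_inv_eq_one.1 (Finset.mem_filter.1 h7).2)
  · rintro ⟨a, a'⟩ ⟨⟨b, hb, rfl⟩, ⟨b', hb', rfl⟩, h8⟩
    have h9 : ((⟨b, hb⟩, ⟨b', hb'⟩) : EE Q δ × EE Q δ) ∈ F :=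
      Finset.mem_filter.2 ⟨Finset.mem_univ _, mul_inv_eq_one.2 (Subtype.ext h8)⟩
    rw [hp0, Finset.mem_singleton] at h9
    rw [← h9]

end Cfsg.Lib.DRG
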