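import Cfsg.Agent.DRG.C1
import Cfsg.Agent.DRG.C5

set_option autoImplicit false

namespace Cfsg.Lib.DRG

open MulAction Cfsg.Lib.Perm.Derange Subgroup Cfsg.Lib.Char
open scoped ComplexConjugate

namespace C6

theorem plane_of {H Ω : Type*} [Group H] [MulAction H Ω] {Q : Subgroup H} {δ : Ω} {t : ℕ}
    (h : RQ Q δ) (ht : 2 ≤ t) {T : Set H} (hTQ : ∀ s ∈ T, s ∈ Q) (hT1 : ∀ s ∈ T, s ≠ 1)
    (hTc : T.ncard = t + 1) {r : Ω → Ω → Prop}
    (key : ∀ y ∈ Q, ∀ b, r (y • δ) b ↔ ∃ s ∈ T, b = (y * s) • δ)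
    (hd : ∀ u ∈ Q, u ≠ 1 → ∃! p : H × H, p.1 ∈ T ∧ p.2 ∈ T ∧ p.1 * p.2⁻¹ = u) : Plane r t := by
  have inj : ∀ y ∈ Q, ∀ y' ∈ Q, y • δ = y' • δ → y = y' := by
    intro y hy y' hy' e
    have := h.reg (y'⁻¹ * y) (Q.mul_mem (Q.inv_mem hy') hy) δ (by rw [mul_smul, e, inv_smul_smul])
    exact (inv_mul_eq_one.mp this).symm
  have key' : ∀ y ∈ Q, ∀ z ∈ Q, r (y • δ) (z • δ) ↔ y⁻¹ * z ∈ T := by
    intro y hy z hz
    rw [key y hy]
    constructor
    · rintro ⟨s, hs, e⟩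
      rw [inj z hz _ (Q.mul_mem hy (hTQ s hs)) e]
      simpa using hs
    · intro hs
      exact ⟨_, hs, by simp⟩
  refine ⟨ht, ?_, ?_, ?_, ?_, ?_⟩
  · intro a ha
    obtain ⟨y, hy, rfl⟩ := h.tr a
    exact hT1 _ ((key' y hy y hy).mp ha) (inv_mul_cancel y)
  · intro a
    obtain ⟨y, hy, rfl⟩ := h.tr a
    have e : {b | r (y • δ) b} = (fun s => (y * s) • δ) '' T := by
      ext b
      simp only [Set.mem_setOf_eq, key y hy, Set.mem_image]
      exact ⟨fun ⟨s, hs, e⟩ => ⟨s, hs, e.symm⟩, fun ⟨s, hs, e⟩ => ⟨s, hs, e.symm⟩⟩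
    rw [e, Set.InjOn.ncard_image, hTc]
    intro s hs s' hs' e
    exact mul_left_cancel (inj _ (Q.mul_mem hy (hTQ s hs)) _ (Q.mul_mem hy (hTQ s' hs')) e)
  · intro b
    obtain ⟨z, hz, rfl⟩ := h.tr b
    have e : {a | r a (z • δ)} = (fun s => (z * s⁻¹) • δ) '' T := by
      ext a
      obtain ⟨y, hy, rfl⟩ := h.tr a
      simp only [Set.mem_setOf_eq, key' y hy z hz, Set.mem_image]
      constructor
      · intro hs
        exact ⟨_, hs, by simp⟩
      · rintro ⟨s, hs, e⟩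
        rw [← inj _ (Q.mul_mem hz (Q.inv_mem (hTQ s hs))) y hy e]
        simpa using hs
    rw [e, Set.InjOn.ncard_image, hTc]
    intro s hs s' hs' e
    exact inv_injective (mul_left_cancel (inj _ (Q.mul_mem hz (Q.inv_mem (hTQ s hs))) _
      (Q.mul_mem hz (Q.inv_mem (hTQ s' hs'))) e))
  · intro b c hbc
    obtain ⟨z, hz, rfl⟩ := h.tr b
    obtain ⟨w, hw, rfl⟩ := h.tr c
    have hu : z * w⁻¹ ≠ 1 := fun e => hbc (by rw [mul_inv_eq_one.mp e])
    obtain ⟨⟨s, s'⟩, ⟨hs, hs', e⟩, huniq⟩ := hd _ (Q.mul_mem hz (Q.inv_mem hw)) hu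
    simp only at hs hs' e
    have hsQ := hTQ s hs
    have hy : z * s⁻¹ ∈ Q := Q.mul_mem hz (Q.inv_mem hsQ)
    refine ⟨(z * s⁻¹) • δ, ⟨(key' _ hy z hz).mpr (by simpa using hs), (key' _ hy w hw).mpr ?_⟩, ?_⟩
    · have e1 : s' = (z * s⁻¹)⁻¹ * w := by
        have e2 : s' = (z * w⁻¹)⁻¹ * s := by rw [← e]; group
        rw [e2, h.ab _ (Q.inv_mem (Q.mul_mem hz (Q.inv_mem hw))) s hsQ]
        have := h.ab w hw z⁻¹ (Q.inv_mem hz)
        simp only [mul_inv_rev, inv_inv, mul_assoc, this]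
      rw [← e1]; exact hs'
    · rintro a ⟨h1, h2⟩
      obtain ⟨y, hy', rfl⟩ := h.tr a
      have h3 := huniq (y⁻¹ * z, y⁻¹ * w) ⟨(key' y hy' z hz).mp h1, (key' y hy' w hw).mp h2, by
        have := h.ab y hy' _ (Q.mul_mem hz (Q.inv_mem hw))
        simp only [mul_inv_rev, inv_inv]
        calc y⁻¹ * z * (w⁻¹ * y) = y⁻¹ * (z * w⁻¹ * y) := by group
          _ = z * w⁻¹ := by rw [← this]; group⟩
      have h4 : y⁻¹ * z = s := congrArg Prod.fst h3
      rw [← h4]; simp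
  · intro a a' haa
    obtain ⟨y, hy, rfl⟩ := h.tr a
    obtain ⟨y', hy', rfl⟩ := h.tr a'
    have hu : y⁻¹ * y' ≠ 1 := fun e => haa (by rw [inv_mul_eq_one.mp e])
    obtain ⟨⟨s, s'⟩, ⟨hs, hs', e⟩, huniq⟩ := hd _ (Q.mul_mem (Q.inv_mem hy) hy') hu
    simp only at hs hs' e
    have hz : y * s ∈ Q := Q.mul_mem hy (hTQ s hs)
    refine ⟨(y * s) • δ, ⟨(key' y hy _ hz).mpr (by simpa using hs), (key' y' hy' _ hz).mpr ?_⟩, ?_⟩
    · have e1 : s' = y'⁻¹ * (y * s) := by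
        have e2 : s' = (y⁻¹ * y')⁻¹ * s := by rw [← e]; group
        rw [e2]; group
      rw [← e1]; exact hs'
    · rintro b ⟨h1, h2⟩
      obtain ⟨z, hz', rfl⟩ := h.tr b
      have h3 := huniq (y⁻¹ * z, y'⁻¹ * z) ⟨(key' y hy z hz').mp h1, (key' y' hy' z hz').mp h2, by
        group⟩
      have h4 : y⁻¹ * z = s := congrArg Prod.fst h3
      rw [← h4]; simp

end C6

variable {H Ω : Type*} [Group H] [Fintype H] [MulAction H Ω] [Finite Ω] {Q : Subgroup H}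
  [Fintype Q] {δ : Ω} {q e t : ℕ}

theorem C6.norm {θ : Fin t → H → ℂ} (c : CS Q δ e t θ) :
    classInner (pc H Ω) (pc H Ω) = (t : ℂ) + 1 := by
  classical
  have e1 : pc H Ω = (fun _ => 1) + ∑ i, θ i := by
    funext g
    rw [c.sum g]; simp
  have h0 : ∀ i, classInner (θ i) (fun _ => 1) = 0 := fun i =>
    (c.irr i).classInner_of_ne isIrrCharacter_one (c.ne1 i)
  have h0' : ∀ i, classInner (fun _ => 1) (θ i) = 0 := fun i => classInner_eq_zero_comm.mp (h0 i)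
  have h1 : ∀ i, ∑ j, classInner (θ i) (θ j) = 1 := by
    intro i
    rw [Finset.sum_eq_single i, (c.irr i).classInner_self]
    · intro j _ hj
      exact (c.irr i).classInner_of_ne (c.irr j) (fun e => hj (c.inj e).symm)
    · simp
  rw [e1, classInner_add_left, classInner_add_right, classInner_add_right, classInner_one_one,
    classInner_sum_left, classInner_sum_right, classInner_sum_left]
  simp only [h0, h0', classInner_sum_right, h1]
  simp [add_comm]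

theorem TH.plane (h : TH Q δ q e t) {θ : Fin t → H → ℂ} (c : CS Q δ e t θ) (he : e = t + 1)
    (hv : ∀ i, ∀ x ∈ Q, x ≠ 1 → θ i x * conj (θ i x) = t) :
    ∃ r : Ω → Ω → Prop, Plane r t ∧ ∀ (g : H) (a b : Ω), r a b → r (g • a) (g • b) := by
  have h2 := h.two
  have hn : 1 < Nat.card Ω := by rw [h.cn, he]; nlinarith
  haveI : Nontrivial Ω := Finite.one_lt_card_iff_nontrivial.mp hn
  obtain ⟨ω, hω⟩ := exists_ne δ
  obtain ⟨x, hx, rfl⟩ := h.tr ω
  have hx1 : x ≠ 1 := fun e => hω (by rw [e, one_smul])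
  refine ⟨fun a b => ∃ g : H, g • δ = a ∧ g • x • δ = b, ?_, ?_⟩
  · refine C6.plane_of h.toRQ h2 (T := {s | ∃ b ∈ EE Q δ, b * x * b⁻¹ = s}) ?_ ?_ ?_ ?_ ?_
    · rintro _ ⟨b, hb, rfl⟩
      exact (Subgroup.mem_normalizer_iff.mp hb.1 x).mp hx
    · rintro _ ⟨b, -, rfl⟩ e1
      exact hx1 (by simpa using e1)
    · have e1 : {s | ∃ b ∈ EE Q δ, b * x * b⁻¹ = s} =
          (fun b => b * x * b⁻¹) '' (EE Q δ : Set H) := rfl
      rw [e1, Set.InjOn.ncard_image, ← he, ← h.cE]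
      · rfl
      · intro b hb b' hb' e2
        have := h.semi ((EE Q δ).mul_mem ((EE Q δ).inv_mem hb') hb) hx hx1 (by
          have e3 : b * x * b⁻¹ = b' * x * b'⁻¹ := e2
          calc b'⁻¹ * b * x = b'⁻¹ * (b * x * b⁻¹) * b := by group
            _ = x * (b'⁻¹ * b) := by rw [e3]; group)
        exact (inv_mul_eq_one.mp this).symm
    · intro y hy b
      constructor
      · rintro ⟨g, hg, rfl⟩
        obtain ⟨b, hb, e1⟩ := h.rank (C6.norm c) (k := y⁻¹ * g)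
          (by rw [mul_smul, hg, inv_smul_smul]) hx
        refine ⟨_, ⟨b, hb, rfl⟩, ?_⟩
        rw [mul_smul y, ← e1, mul_smul, smul_inv_smul]
      · rintro ⟨_, ⟨b, hb, rfl⟩, rfl⟩
        have hb2 : b • δ = δ := hb.2
        refine ⟨y * b, by rw [mul_smul, hb2], ?_⟩
        simp only [mul_smul]
        rw [inv_smul_eq_iff.mpr hb2.symm]
    · intro u hu hu1
      exact h.dset c he hv hx hx1 hu hu1
  · rintro g _ _ ⟨k, rfl, rfl⟩
    exact ⟨g * k, mul_smul _ _ _, mul_smul _ _ _⟩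

end Cfsg.Lib.DRG
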