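import Cfsg.Agent.DRG.Defs

/-! Tower DRG: involutions of a projective plane whose lines are indexed by the points. -/

set_option autoImplicit false

namespace Cfsg.Lib.DRG

namespace PL

variable {Ω : Type*} {r : Ω → Ω → Prop} {t : ℕ} {σ : Ω → Ω}

theorem line (h : Plane r t) (hσ : ∀ a, σ (σ a) = a) (hr : ∀ a b, r a b → r (σ a) (σ b)) {a : Ω}
    (ha : σ a ≠ a) : ∃ b, σ b = b ∧ r a b := by
  obtain ⟨b, ⟨h1, h2⟩, h3⟩ := h.meet a (σ a) ha.symm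
  exact ⟨b, h3 _ ⟨hσ a ▸ hr _ _ h2, hr _ _ h1⟩, h1⟩

theorem line' (h : Plane r t) (hr : ∀ a b, r a b → r (σ a) (σ b)) {a b c : Ω} (ha : σ a ≠ a)
    (hb : σ b = b) (hc : σ c = c) (h1 : r a b) (h2 : r a c) : b = c :=
  (h.meet a (σ a) ha.symm).unique ⟨h1, hb ▸ hr _ _ h1⟩ ⟨h2, hc ▸ hr _ _ h2⟩

theorem count [Finite Ω] (h : Plane r t) (hσ : ∀ a, σ (σ a) = a)
    (hr : ∀ a b, r a b → r (σ a) (σ b)) {γ a : Ω} (hγ : σ γ ≠ γ) (ha : σ a = a) (e : r a γ) :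
    {b | σ b = b}.ncard = t + ({b | σ b = b} ∩ {b | r a b}).ncard ∧
      ({b | σ b = b} ∩ {b | r a b}).ncard + 1 ≤ t := by
  have nf : ∀ c, r c γ → c ≠ a → σ c ≠ c := fun c h1 h2 h3 =>
    h2 ((h.join γ (σ γ) hγ.symm).unique ⟨h1, h3 ▸ hr _ _ h1⟩ ⟨e, ha ▸ hr _ _ e⟩)
  have ne : ∀ b, σ b = b → b ≠ γ := fun b h1 h2 => hγ (h2 ▸ h1)
  constructor
  · have h1 : ({c | r c γ} \ {a}).ncard = t := by
      rw [Set.ncard_sdiff_singleton_of_mem (show a ∈ {c | r c γ} from e), h.inn, Nat.add_sub_cancel]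
    have h2 : ({c | r c γ} \ {a}).ncard = ({b | σ b = b} \ {b | r a b}).ncard := by
      choose f f1 f2 using fun (c : Ω) (hc : c ∈ {c | r c γ} \ {a}) => line h hσ hr (nf c hc.1 hc.2)
      refine Set.ncard_congr f (fun c hc => ⟨f1 c hc, fun k => hc.2 ?_⟩) (fun c d hc hd k => ?_)
        fun b hb => ?_
      · exact (h.join _ γ (ne _ (f1 c hc))).unique ⟨f2 c hc, hc.1⟩ ⟨k, e⟩
      · exact (h.join _ γ (ne _ (f1 c hc))).unique ⟨f2 c hc, hc.1⟩ ⟨k ▸ f2 d hd, hd.1⟩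
      · obtain ⟨c, ⟨c1, c2⟩, -⟩ := h.join b γ (ne b hb.1)
        have hc : c ∈ {c | r c γ} \ {a} := ⟨c2, fun k => hb.2 (show r a b from k ▸ c1)⟩
        exact ⟨c, hc, line' h hr (nf c hc.1 hc.2) (f1 c hc) hb.1 (f2 c hc) c1⟩
    rw [← h1, h2, add_comm, Set.ncard_inter_add_ncard_sdiff_eq_ncard]
  · have h1 : {b | σ b = b} ∩ {b | r a b} ⊆ ({b | r a b} \ {γ}) \ {σ γ} := fun b hb =>
      ⟨⟨hb.2, ne b hb.1⟩, fun k => ne b hb.1 (by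
        have : σ b = γ := by rw [show b = σ γ from k, hσ]
        exact hb.1.symm.trans this)⟩
    have h2 := Set.ncard_le_ncard h1
    rw [Set.ncard_sdiff_singleton_of_mem (show σ γ ∈ {b | r a b} \ {γ} from ⟨ha ▸ hr _ _ e, hγ⟩),
      Set.ncard_sdiff_singleton_of_mem (show γ ∈ {b | r a b} from e), h.out] at h2
    have := h.two
    omega

end PL

theorem Plane.no_inv {Ω : Type*} [Finite Ω] {r : Ω → Ω → Prop} {t : ℕ} (h : Plane r t)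
    (σ : Ω → Ω) (hσ : ∀ a, σ (σ a) = a) (hne : ∃ a, σ a ≠ a)
    (hr : ∀ a b, r a b → r (σ a) (σ b)) (hN : (t : ℤ) ∣ ({a | σ a = a}.ncard : ℤ) - 1) :
    False := by
  have t2 := h.two
  have key : ∀ γ a, σ γ ≠ γ → σ a = a → r a γ → ({b | σ b = b} ∩ {b | r a b}).ncard = 1 ∧
      {b | σ b = b}.ncard = t + 1 := fun γ a hγ ha e => by
    obtain ⟨h1, h2⟩ := PL.count h hσ hr hγ ha e
    generalize ({b | σ b = b} ∩ {b | r a b}).ncard = f at h1 h2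
    rw [h1, Nat.cast_add, add_sub_assoc, dvd_add_right dvd_rfl] at hN
    have := Int.eq_zero_of_abs_lt_dvd hN (abs_lt.2 ⟨by omega, by omega⟩)
    omega
  obtain ⟨γ, hγ⟩ := hne
  obtain ⟨a, ⟨a1, a2⟩, a3⟩ := h.join γ (σ γ) hγ.symm
  have hF := (key γ a hγ (a3 _ ⟨hσ γ ▸ hr _ _ a2, hr _ _ a1⟩) a1).2
  obtain ⟨b, hb, c, hc, bc⟩ := (Set.one_lt_ncard (s := {b | σ b = b})).1 (by omega)
  obtain ⟨d, ⟨d1, d2⟩, d3⟩ := h.join b c bc
  have hd : σ d = d := d3 _ ⟨(show σ b = b from hb) ▸ hr _ _ d1, (show σ c = c from hc) ▸ hr _ _ d2⟩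
  have sub : {b | r d b} ⊆ {b | σ b = b} := fun x hx => by
    by_contra k
    obtain ⟨y, hy⟩ := Set.ncard_eq_one.1 (key x d k hd hx).1
    exact bc ((hy.le ⟨hb, d1⟩).trans (hy.le ⟨hc, d2⟩).symm)
  exact h.irr d ((Set.eq_of_subset_of_ncard_le sub (by rw [hF, h.out])).ge hd)

end Cfsg.Lib.DRG
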