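import Cfsg.Agent.DRG.P1
import Mathlib.GroupTheory.PGroup

/-! Tower DRG: the regular abelian Sylow subgroup of the derangement subgroup. -/

set_option autoImplicit false

namespace Cfsg.Lib.DRG

open MulAction Cfsg.Lib.Perm.Derange Subgroup

section SY
variable {G Ω : Type*} [Group G] [Finite G] [MulAction G Ω] [Finite Ω] [IsPretransitive G Ω]

namespace SY2

omit [Finite G] [Finite Ω] [IsPretransitive G Ω] in
theorem rel_orb (Q : Subgroup G) (δ : Ω) :
    (stabilizer G δ).relIndex Q = (orbit Q δ).ncard := by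
  rw [← MulAction.index_stabilizer]
  rfl

theorem rel_der (δ : Ω) : (stabilizer G δ).relIndex (der G Ω) = Nat.card Ω := by
  haveI := (der_main (G := G) (Ω := Ω)).1
  rw [rel_orb, MulAction.orbit_eq_univ, Set.ncard_univ]

theorem key {Q : Subgroup G} {δ : Ω} {q : ℕ} (hq : q.Prime) (hp : IsPGroup q Q)
    (hle : Q ≤ der G Ω) (h1 : ¬ q ∣ Q.relIndex (der G Ω))
    (h2 : ¬ q ∣ (Q ⊓ stabilizer G δ).relIndex (der G Ω ⊓ stabilizer G δ)) :
    ∃ s c : ℕ, (stabilizer G δ).relIndex Q = q ^ s ∧ Nat.card Ω = q ^ s * c ∧ ¬ q ∣ c := by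
  haveI := Fact.mk hq
  obtain ⟨s, hs⟩ := hp.index ((stabilizer G δ).subgroupOf Q)
  have hs' : (stabilizer G δ).relIndex Q = q ^ s := hs
  have e1 := relIndex_mul_relIndex (Q ⊓ stabilizer G δ) Q (der G Ω) inf_le_left hle
  have e2 := relIndex_mul_relIndex (Q ⊓ stabilizer G δ) (der G Ω ⊓ stabilizer G δ) (der G Ω)
    (inf_le_inf_right _ hle) inf_le_left
  rw [inf_relIndex_left, hs'] at e1
  rw [inf_relIndex_left, rel_der, ← e1] at e2
  have hc : (q ^ s).Coprime ((Q ⊓ stabilizer G δ).relIndex (der G Ω ⊓ stabilizer G δ)) :=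
    Nat.Coprime.pow_left _ ((Nat.Prime.coprime_iff_not_dvd hq).2 h2)
  have hd : q ^ s ∣ Nat.card Ω := hc.dvd_of_dvd_mul_left ⟨_, e2⟩
  obtain ⟨c, hc'⟩ := hd
  refine ⟨s, c, hs', hc', fun hqc => h1 ?_⟩
  rw [hc', mul_left_comm] at e2
  have := Nat.eq_of_mul_eq_mul_left (pow_pos hq.pos s) e2
  rw [← this]
  exact Dvd.dvd.mul_left hqc _

/-- a nontrivial subgroup of a regular group, normalised by a covering group, is everything -/
theorem all {Q Y N : Subgroup G} {δ : Ω} (hsm : Nat.card Ω < ((der G Ω).index + 1) ^ 2)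
    (hreg : ∀ x ∈ Q, x • δ = δ → x = 1) (hN : (N ⊓ stabilizer G δ) ⊔ der G Ω = ⊤)
    (hQ : Q ≤ N) (hY : Y ≤ Q) (hn : ∀ a ∈ N, ∀ y ∈ Y, a * y * a⁻¹ ∈ Y) (h1 : Y ≠ ⊥) :
    Y = Q := by
  refine le_antisymm hY fun x hx => ?_
  by_contra hxY
  obtain ⟨⟨y, hy⟩, hy1⟩ := (ne_bot_iff_exists_ne_one).1 h1
  have := bl hN (hY.trans hQ) hn
    ⟨y, hy, fun h => hy1 (Subtype.ext (hreg y (hY hy) h))⟩
    ⟨x, hQ hx, fun z hz h => hxY (by
      have h3 : z⁻¹ * x = 1 := hreg _ (Q.mul_mem (Q.inv_mem (hY hz)) hx) (by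
        rw [mul_smul, ← h, inv_smul_smul])
      rw [← inv_mul_eq_one.1 h3]
      exact hz)⟩
  omega

end SY2

theorem RQ.card {H Ω : Type*} [Group H] [MulAction H Ω] {Q : Subgroup H} {δ : Ω} (h : RQ Q δ) :
    Nat.card Q = Nat.card Ω := by
  refine Nat.card_congr (Equiv.ofBijective (fun x : Q => (x : H) • δ) ⟨fun x y e => ?_, fun ω => ?_⟩)
  · have e' : (x : H) • δ = (y : H) • δ := e
    have := h.reg ((y : H)⁻¹ * x) (Q.mul_mem (Q.inv_mem y.2) x.2) δ (by
      rw [mul_smul, e', inv_smul_smul])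
    exact Subtype.ext (inv_mul_eq_one.1 this).symm
  · obtain ⟨x, hx, e⟩ := h.tr ω
    exact ⟨⟨x, hx⟩, e⟩

theorem Reg.lin {Q : Subgroup G} {δ : Ω} {q : ℕ} (h : Reg Q δ q) :
    Lin Q (EE Q δ) (der G Ω) := by
  haveI := Fact.mk h.prime
  have hfix : ∀ b ∈ EE Q δ, ∀ x : G, b * x = x * b → b • x • δ = x • δ := by
    intro b hb x e
    have hb' : b • δ = δ := hb.2
    rw [← mul_smul, e, mul_smul, hb']
  refine ⟨inferInstance, h.ab, fun b hb x hx => (mem_normalizer_iff.1 hb.1 x).1 hx, h.cov, ?_,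
    fun b hb hD x hx e => ?_, fun b hb e => ?_, fun B' hB hc Y hY hinv => ?_, ?_⟩
  · obtain ⟨a, ha⟩ := IsPGroup.iff_card.1 h.pg
    rw [ha]
    refine Nat.Coprime.pow_left _ ((Nat.Prime.coprime_iff_not_dvd h.prime).2 fun hd => h.cop ?_)
    exact hd.trans (card_dvd_of_le fun g hg => ⟨hg.2, hg.1.2⟩)
  · by_contra h1
    exact hD (mem_der_of_fix_two (fun e' => h1 (h.reg x hx δ e')) (hfix b hb x e) hb.2)
  · refine h.fai b fun ω => ?_
    obtain ⟨x, hx, rfl⟩ := h.tr ω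
    exact hfix b hb x (e x hx)
  · by_cases h1 : Y = ⊥
    · exact Or.inl h1
    refine Or.inr (SY2.all (N := normalizer (Y : Set G)) h.sm (fun x hx => h.reg x hx δ) ?_ ?_ hY
      (fun a ha y hy => (mem_normalizer_iff.1 ha y).1 hy) h1)
    · refine top_le_iff.1 (hc ▸ sup_le_sup_right (fun b hb => ⟨?_, (hB hb).2⟩) _)
      refine mem_normalizer_iff.2 fun y => ⟨hinv b hb y, fun hy => ?_⟩
      have := hinv b⁻¹ (B'.inv_mem hb) _ hy
      have e : b⁻¹ * (b * y * b⁻¹) * b⁻¹⁻¹ = y := by group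
      rwa [e] at this
    · intro x hx
      refine mem_normalizer_iff.2 fun y => ⟨fun hy => ?_, fun hy => ?_⟩
      · rw [h.ab x hx y (hY hy), mul_inv_cancel_right]
        exact hy
      · have e := h.ab x hx _ (hY hy)
        have e2 : y = x * y * x⁻¹ := by
          calc y = x⁻¹ * (x * y * x⁻¹ * x) := by group
            _ = x * y * x⁻¹ := by rw [← e]; group
        rw [e2]
        exact hy
  · rw [h.toRQ.card]
    exact h.sm
end SY

end Cfsg.Lib.DRG
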