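import Cfsg.Agent.DRG.SY1
import Cfsg.Agent.DRG.SY2

/-! Tower DRG: existence of the regular abelian Sylow subgroup of the derangement subgroup. -/

set_option autoImplicit false

namespace Cfsg.Lib.DRG

open MulAction Cfsg.Lib.Perm.Derange Subgroup

variable {G Ω : Type*} [Group G] [Finite G] [MulAction G Ω] [Finite Ω] [IsPretransitive G Ω]

theorem reg [FaithfulSMul G Ω] (hΩ : 2 ≤ Nat.card Ω) (hm : 2 ≤ (der G Ω).index)
    (hsm : Nat.card Ω < ((der G Ω).index + 1) ^ 2) :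
    ∃ (Q : Subgroup G) (δ : Ω) (q : ℕ), Reg Q δ q := by
  obtain ⟨q, hq, hqn⟩ := Nat.exists_prime_and_dvd (n := Nat.card Ω) (by omega)
  haveI := Fact.mk hq
  obtain ⟨Q, δ, hp, hle, h1, h2, h5, hcov, hk⟩ := syl hm hsm hq hqn
  obtain ⟨s, c, hs, hn, hc⟩ := SY2.key hq hp hle h1 h2
  have hc1 : c = 1 := by
    by_contra hc1
    obtain ⟨q', hq', hqc⟩ := Nat.exists_prime_and_dvd hc1
    obtain ⟨Q', δ', hp', hle', h1', h2', -, -, hk'⟩ :=
      syl hm hsm hq' (hn ▸ Dvd.dvd.mul_left hqc _)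
    obtain ⟨s', c', hs', hn', -⟩ := SY2.key hq' hp' hle' h1' h2'
    have hne : q ≠ q' := fun h => hc (h ▸ hqc)
    have hcop : (q ^ s).Coprime (q' ^ s') :=
      Nat.Coprime.pow _ _ ((Nat.coprime_primes hq hq').2 hne)
    have hd : q ^ s * q' ^ s' ∣ Nat.card Ω :=
      hcop.mul_dvd_of_dvd_of_dvd ⟨_, hn⟩ ⟨_, hn'⟩
    have hle2 := Nat.le_of_dvd (by omega) hd
    rw [hs] at hk
    rw [hs'] at hk'
    have := Nat.mul_le_mul hk hk'
    rw [pow_two] at hsm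
    omega
  rw [hc1, mul_one, ← hs, SY2.rel_orb] at hn
  have htr : ∀ ω : Ω, ∃ x ∈ Q, x • δ = ω := by
    intro ω
    have hu : orbit Q δ = Set.univ := (Set.eq_univ_iff_ncard _).2 hn.symm
    have : ω ∈ orbit Q δ := hu ▸ Set.mem_univ ω
    obtain ⟨⟨x, hx⟩, h⟩ := this
    exact ⟨x, hx, h⟩
  have hfai : ∀ g : G, (∀ ω : Ω, g • ω = ω) → g = 1 := fun g hg =>
    eq_of_smul_eq_smul (α := Ω) fun ω => by rw [hg, one_smul]
  have hr0 : ∀ x ∈ Q, x • δ = δ → x = 1 := by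
    intro x hx h
    refine hfai x fun ω => ?_
    obtain ⟨a, ha, rfl⟩ := htr ω
    exact h5 a ha x hx h
  have hreg : ∀ x ∈ Q, ∀ ω : Ω, x • ω = ω → x = 1 := by
    intro x hx ω h
    obtain ⟨a, ha, rfl⟩ := htr ω
    have := hr0 (a⁻¹ * x * a) (Q.mul_mem (Q.mul_mem (Q.inv_mem ha) hx) ha) (by
      rw [mul_smul, mul_smul, h, inv_smul_smul])
    calc x = a * (a⁻¹ * x * a) * a⁻¹ := by group
      _ = 1 := by rw [this]; group
  have hnt : Nontrivial Q := by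
    obtain ⟨ω, hω⟩ : ∃ ω : Ω, ω ≠ δ := by
      haveI : Nontrivial Ω := Finite.one_lt_card_iff_nontrivial.1 (by omega)
      exact exists_ne δ
    obtain ⟨x, hx, h⟩ := htr ω
    refine ⟨⟨⟨x, hx⟩, 1, fun e => hω ?_⟩⟩
    have : x = 1 := congrArg Subtype.val e
    rw [← h, this, one_smul]
  have hY : Q ⊓ centralizer (Q : Set G) = Q := by
    refine SY2.all hsm hr0 hcov le_normalizer inf_le_left ?_ ?_
    · intro a ha y hy
      have ha' := mem_normalizer_iff.1 ha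
      refine ⟨(ha' y).1 hy.1, mem_centralizer_iff.2 fun z hz => ?_⟩
      have hz' : a⁻¹ * z * a ∈ Q := (ha' _).2 (by
        have : a * (a⁻¹ * z * a) * a⁻¹ = z := by group
        rw [this]; exact hz)
      have := (mem_centralizer_iff.1 hy.2) _ hz'
      calc z * (a * y * a⁻¹) = a * (a⁻¹ * z * a * y) * a⁻¹ := by group
        _ = a * y * a⁻¹ * z := by rw [this]; group
    · haveI := hp.center_nontrivial
      obtain ⟨⟨z, hz⟩, hz1⟩ := exists_ne (1 : center Q)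
      refine (ne_bot_iff_exists_ne_one).2
        ⟨⟨z, z.2, mem_centralizer_iff.2 fun w hw => ?_⟩, fun e => hz1 ?_⟩
      · exact congrArg Subtype.val (mem_center_iff.1 hz ⟨w, hw⟩)
      · have e' : (z : G) = 1 := congrArg Subtype.val e
        exact Subtype.ext (Subtype.ext e')
  have hbot : Q ⊓ stabilizer G δ = ⊥ :=
    (eq_bot_iff_forall _).2 fun x hx => hr0 x hx.1 hx.2
  refine ⟨Q, δ, q, ⟨⟨fun x hx y hy => ?_, htr, hreg⟩, hfai, hq, hp, hle, hcov, ?_, hΩ, hm, hsm⟩⟩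
  · have hy' : y ∈ Q ⊓ centralizer (Q : Set G) := hY.symm ▸ hy
    exact (mem_centralizer_iff.1 hy'.2) x hx
  · rwa [hbot, relIndex_bot_left] at h2

end Cfsg.Lib.DRG
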