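import Cfsg.Agent.DRG.P2
import Cfsg.Agent.DRG.SY2
import Cfsg.Agent.DRG.SY3
import Cfsg.Agent.DRG.C3
import Cfsg.Agent.DRG.C4
import Cfsg.Agent.DRG.C6
import Cfsg.Agent.DRG.PL
import Cfsg.Agent.DRG.T2
import Cfsg.Agent.DRG.L7
import Cfsg.Agent.Char.DihEight

set_option autoImplicit false

namespace Cfsg.Lib.DRG

open MulAction Cfsg.Lib.Perm.Derange Subgroup
open scoped ComplexConjugate

section C
variable {H Ω : Type*} [Group H] [Fintype H] [MulAction H Ω] [Finite Ω] {Q : Subgroup H}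
  [Fintype Q] {δ : Ω} {q e t : ℕ}

theorem TH.chr (h : TH Q δ q e t) : Q.Normal ∨ Odd (Nat.card H) := by
  classical
  obtain ⟨θ, c⟩ := h.cs
  rcases h.dich c with hn | ⟨he, hv⟩
  · exact Or.inl hn
  right
  by_contra hodd
  rw [Nat.not_odd_iff_even, even_iff_two_dvd] at hodd
  haveI : Fact (Nat.Prime 2) := ⟨Nat.prime_two⟩
  obtain ⟨k, hk⟩ := exists_prime_orderOf_dvd_card' 2 hodd
  obtain ⟨r, hp, hr⟩ := h.plane c he hv
  have hk1 : k ≠ 1 := by
    rintro rfl
    simp at hk
  have hkk : k * k = 1 := by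
    have := pow_orderOf_eq_one k
    rwa [hk, sq] at this
  have hsp : ¬ Sp Q k := by
    rintro ⟨-, g, hg⟩
    have h1 : orderOf (g * k * g⁻¹) = 2 := by
      rw [← hk]
      exact (MulAut.conj g).orderOf_eq k
    have h2 := orderOf_dvd_natCard (⟨_, hg⟩ : Q)
    rw [← Subgroup.orderOf_coe, h.toRQ.card, h.cn, he] at h2
    simp only [h1] at h2
    have h3 : 2 ∣ t * (t + 1) := (Nat.even_mul_succ_self t).two_dvd
    omega
  have ht : 0 < t := by have := h.two; omega
  obtain ⟨b, hb⟩ := (c.irr ⟨0, ht⟩).isCharacter.exists_int_of_mul_self hk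
  have hs := c.sum k
  rw [Finset.sum_congr rfl (fun i _ => (c.off i ⟨0, ht⟩ k hsp).trans hb)] at hs
  simp only [Finset.sum_const, Finset.card_univ, Fintype.card_fin, nsmul_eq_mul, pc] at hs
  refine hp.no_inv (fun a => k • a) (fun a => by simp only [smul_smul, hkk, one_smul]) ?_
    (fun a b => hr k a b) ?_
  · by_contra! hh
    exact hk1 (h.fai k hh)
  · have h4 : Nat.card (fixedBy Ω k) = {a : Ω | k • a = a}.ncard := by
      rw [← Nat.card_coe_set_eq]; rfl
    rw [h4] at hs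
    refine ⟨b, ?_⟩
    have : (({a : Ω | k • a = a}.ncard : ℤ) : ℂ) = ((1 + t * b : ℤ) : ℂ) := by
      push_cast
      exact hs
    have := Int.cast_injective this
    omega
end C

end Cfsg.Lib.DRG
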