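import Cfsg.Agent.Perm.Derange
import Cfsg.Agent.Char.Irr

/-! Tower DRG (statement S3550): structures. -/

set_option autoImplicit false

namespace Cfsg.Lib.DRG

open MulAction Cfsg.Lib.Perm.Derange
open scoped ComplexConjugate

/-- `B` acts on the abelian group `Q`; `B \ D` acts fixed point freely. -/
structure Lin {G : Type*} [Group G] (Q B D : Subgroup G) : Prop where
  nD : D.Normal
  ab : ∀ x ∈ Q, ∀ y ∈ Q, x * y = y * x
  nQ : ∀ b ∈ B, ∀ x ∈ Q, b * x * b⁻¹ ∈ Q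
  cov : B ⊔ D = ⊤
  cop : (Nat.card Q).Coprime (Nat.card ↥(B ⊓ D))
  fpf : ∀ b ∈ B, b ∉ D → ∀ x ∈ Q, b * x = x * b → x = 1
  fai : ∀ b ∈ B, (∀ x ∈ Q, b * x = x * b) → b = 1
  irr : ∀ B' ≤ B, B' ⊔ D = ⊤ → ∀ Y ≤ Q, (∀ b ∈ B', ∀ y ∈ Y, b * y * b⁻¹ ∈ Y) → Y = ⊥ ∨ Y = Q
  sm : Nat.card Q < (D.index + 1) ^ 2

/-- a `B`-invariant subgroup `X` of `B ⊓ D` of class at most two with `Φ(X) ≤ ⟨z⟩`. -/
structure XS {G : Type*} [Group G] (B D X : Subgroup G) (z : G) (r : ℕ) : Prop where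
  prime : r.Prime
  le : X ≤ B ⊓ D
  inv : ∀ b ∈ B, ∀ x ∈ X, b * x * b⁻¹ ∈ X
  mem : z ∈ X
  ord : orderOf z = r
  cen : ∀ x ∈ X, x * z = z * x
  zinv : ∀ b ∈ B, b * z * b⁻¹ ∈ Subgroup.zpowers z
  comm : ∀ x ∈ X, ∀ y ∈ X, x * y * x⁻¹ * y⁻¹ ∈ Subgroup.zpowers z
  pow : ∀ x ∈ X, x ^ r ∈ Subgroup.zpowers z

/-- `Q` is an abelian regular subgroup. -/
structure RQ {G Ω : Type*} [Group G] [MulAction G Ω] (Q : Subgroup G) (δ : Ω) : Prop where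
  ab : ∀ x ∈ Q, ∀ y ∈ Q, x * y = y * x
  tr : ∀ ω : Ω, ∃ x ∈ Q, x • δ = ω
  reg : ∀ x ∈ Q, ∀ ω : Ω, x • ω = ω → x = 1

/-- `Q` is an abelian regular Sylow subgroup of the derangement subgroup. -/
structure Reg {G Ω : Type*} [Group G] [MulAction G Ω] (Q : Subgroup G) (δ : Ω) (q : ℕ) : Prop
    extends RQ Q δ where
  fai : ∀ g : G, (∀ ω : Ω, g • ω = ω) → g = 1
  prime : q.Prime
  pg : IsPGroup q Q
  le : Q ≤ der G Ω
  cov : (Subgroup.normalizer (Q : Set G) ⊓ stabilizer G δ) ⊔ der G Ω = ⊤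
  cop : ¬ q ∣ Nat.card ↥(der G Ω ⊓ stabilizer G δ)
  two : 2 ≤ Nat.card Ω
  m2 : 2 ≤ (der G Ω).index
  sm : Nat.card Ω < ((der G Ω).index + 1) ^ 2

/-- the permutation character -/
noncomputable def pc (H Ω : Type*) [Group H] [MulAction H Ω] : H → ℂ :=
  fun g => (Nat.card (fixedBy Ω g) : ℂ)

theorem pc_eq_1' : type_of% @pc.eq_1 := @pc.eq_1

/-- `g` is a nonidentity element conjugate into `Q` -/
def Sp {H : Type*} [Group H] (Q : Subgroup H) (g : H) : Prop :=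
  g ≠ 1 ∧ ∃ k : H, k * g * k⁻¹ ∈ Q

theorem Sp_eq_1' : type_of% @Sp.eq_1 := @Sp.eq_1

/-- the complement `E = N(Q)_δ` -/
def EE {H Ω : Type*} [Group H] [MulAction H Ω] (Q : Subgroup H) (δ : Ω) : Subgroup H :=
  Subgroup.normalizer (Q : Set H) ⊓ stabilizer H δ

theorem EE_eq_1' : type_of% @EE.eq_1 := @EE.eq_1

/-- the sum of the `E`-conjugates of a linear character of `Q` -/
noncomputable def ph {H : Type*} [Group H] (Q E : Subgroup H) (lam : Q →* ℂˣ) (x : H) : ℂ :=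
  ∑ᶠ b : E, extendByZero Q (fun y => (lam y : ℂ)) ((b : H) * x * (b : H)⁻¹)

theorem ph_eq_1' : type_of% @ph.eq_1 := @ph.eq_1

/-- the T.I. situation in `H = D` -/
structure TH {H Ω : Type*} [Group H] [Fintype H] [MulAction H Ω] (Q : Subgroup H) (δ : Ω)
    (q e t : ℕ) : Prop extends RQ Q δ where
  fai : ∀ g : H, (∀ ω : Ω, g • ω = ω) → g = 1
  prime : q.Prime
  pg : IsPGroup q Q
  syl : ¬ q ∣ Q.index
  cent : ∀ x ∈ Q, x ≠ 1 → ∀ g : H, g * x = x * g → g ∈ Q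
  cE : Nat.card (EE Q δ) = e
  cn : Nat.card Ω = t * e + 1
  two : 2 ≤ t
  le : e ≤ t + 1
  small : ∀ θ : H → ℂ, IsIrrCharacter H θ → θ ≠ (fun _ => 1) → classInner (pc H Ω) θ ≠ 0 →
    ∃ d : ℕ, θ 1 = d ∧ 2 * d < Nat.card Ω

/-- the nontrivial constituents of the permutation character -/
structure CS {H Ω : Type*} [Group H] [Fintype H] [MulAction H Ω] (Q : Subgroup H) [Fintype Q]
    (δ : Ω) (e t : ℕ) (θ : Fin t → H → ℂ) : Prop where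
  irr : ∀ i, IsIrrCharacter H (θ i)
  inj : Function.Injective θ
  ne1 : ∀ i, θ i ≠ fun _ => 1
  deg : ∀ i, θ i 1 = e
  sum : ∀ g, pc H Ω g = 1 + ∑ i, θ i g
  orth : ∀ i j, classInner (fun x : Q => θ i x) (fun x : Q => θ j x) = if i = j then (e : ℂ) else 0
  orth1 : ∀ i, classInner (fun x : Q => θ i x) (fun _ => 1) = 0
  off : ∀ i j g, ¬ Sp Q g → θ i g = θ j g
  res : ∀ χ : H → ℂ, IsCharacter H χ →
    ∃ (a0 : ℕ) (a : Fin t → ℕ), ∀ x ∈ Q, χ x = a0 + ∑ j, (a j : ℂ) * θ j x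
  lin : ∀ lam : Q →* ℂˣ, lam ≠ 1 → ∃ i, ∀ x ∈ Q, θ i x = ph Q (EE Q δ) lam x

/-- a projective plane of order `t` whose lines `{b | r a b}` are indexed by the points -/
structure Plane {Ω : Type*} (r : Ω → Ω → Prop) (t : ℕ) : Prop where
  two : 2 ≤ t
  irr : ∀ a, ¬ r a a
  out : ∀ a, {b | r a b}.ncard = t + 1
  inn : ∀ b, {a | r a b}.ncard = t + 1
  join : ∀ b c, b ≠ c → ∃! a, r a b ∧ r a c
  meet : ∀ a a', a ≠ a' → ∃! b, r a b ∧ r a' b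

end Cfsg.Lib.DRG
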