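import Mathlib.Combinatorics.Enumerative.DoubleCounting
import Cfsg.Agent.DRG.Defs

/-! Tower DRG: basic lemmas on `Lin` (monotonicity, class sizes, counting). -/

set_option autoImplicit false

namespace Cfsg.Lib.DRG

open MulAction Cfsg.Lib.Perm.Derange Subgroup

namespace L1

theorem ncard_cl {G : Type*} [Group G] (B : Subgroup G) (v : G) :
    {w | ∃ b ∈ B, b * v * b⁻¹ = w}.ncard = (centralizer {v}).relIndex B := by
  letI : MulAction B G := MulAction.compHom G ((MulAut.conj (G := G)).comp B.subtype)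
  have hs : ∀ (b : B) (x : G), b • x = (b : G) * x * (b : G)⁻¹ := fun b x => rfl
  have h1 : orbit B v = {w | ∃ b ∈ B, b * v * b⁻¹ = w} := by
    ext w
    constructor
    · rintro ⟨b, rfl⟩
      exact ⟨b, b.2, (hs b v).symm⟩
    · rintro ⟨b, hb, rfl⟩
      exact ⟨⟨b, hb⟩, hs _ _⟩
  have h2 : stabilizer B v = (centralizer {v}).subgroupOf B := by
    ext b
    rw [mem_stabilizer_iff, hs, mem_subgroupOf, mem_centralizer_singleton_iff,
      mul_inv_eq_iff_eq_mul]
  rw [← h1, ← MulAction.index_stabilizer, h2]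
  rfl

theorem four_pow {x : ℕ} : ∀ t : ℕ, 2 ≤ t → (2 + t * x) ^ 2 ≤ 4 * (x + 1) ^ t := by
  intro t ht
  induction t, ht using Nat.le_induction with
  | base => nlinarith
  | succ t ht ih =>
    have h1 : x ≤ t * x := Nat.le_mul_of_pos_left x (by omega)
    have h2 : (2 + (t + 1) * x) ^ 2 ≤ (2 + t * x) ^ 2 * (x + 1) := by
      have e : (t + 1) * x = t * x + x := by ring
      rw [e]
      generalize t * x = a at h1 ⊢
      nlinarith [Nat.mul_le_mul_left x h1, Nat.zero_le (x * a * a), Nat.zero_le (x * a)]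
    calc (2 + (t + 1) * x) ^ 2 ≤ (2 + t * x) ^ 2 * (x + 1) := h2
      _ ≤ 4 * (x + 1) ^ t * (x + 1) := Nat.mul_le_mul_right _ ih
      _ = 4 * (x + 1) ^ (t + 1) := by ring

end L1

section L
variable {G : Type*} [Group G] [Finite G] {Q B D : Subgroup G}

theorem Lin.mono (h : Lin Q B D) {B' : Subgroup G} (hB : B' ≤ B) (hc : B' ⊔ D = ⊤) :
    Lin Q B' D where
  nD := h.nD
  ab := h.ab
  nQ := fun b hb => h.nQ b (hB hb)
  cov := hc
  cop := Nat.Coprime.coprime_dvd_right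
    (Subgroup.card_dvd_of_le (inf_le_inf_right D hB)) h.cop
  fpf := fun b hb => h.fpf b (hB hb)
  fai := fun b hb => h.fai b (hB hb)
  irr := fun B'' hB'' => h.irr B'' (hB''.trans hB)
  sm := h.sm

theorem Lin.orb (h : Lin Q B D) {X : Subgroup G} (hX : X ≤ B ⊓ D) {v : G} (hv : v ∈ Q)
    (h1 : v ≠ 1) : D.index * Nat.card X ≤
      {w | ∃ b ∈ B, b * v * b⁻¹ = w}.ncard * Nat.card ↥(X ⊓ centralizer {v}) := by
  haveI := h.nD
  rw [L1.ncard_cl]
  set C : Subgroup G := centralizer {v} with hC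
  have hCD : C ⊓ B ≤ D ⊓ B := by
    intro b hb
    refine ⟨?_, hb.2⟩
    by_contra hD
    exact h1 (h.fpf b hb.2 hD v hv (mem_centralizer_singleton_iff.1 hb.1))
  have e1 : D.relIndex B = D.index := by
    rw [← Subgroup.relIndex_sup_right, h.cov, Subgroup.relIndex_top_right]
  have e2 : C.relIndex B = C.relIndex (B ⊓ D) * D.index := by
    rw [← e1, ← Subgroup.inf_relIndex_right C B, ← Subgroup.inf_relIndex_right D B,
      ← Subgroup.relIndex_mul_relIndex _ _ _ hCD inf_le_right]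
    congr 1
    rw [← Subgroup.inf_relIndex_right (C ⊓ B) (D ⊓ B), ← Subgroup.inf_relIndex_right C (B ⊓ D),
      inf_comm B D]
    congr 1
    ext g
    simp only [Subgroup.mem_inf]
    tauto
  have e3 : Nat.card X = C.relIndex X * Nat.card ↥(X ⊓ C) := by
    rw [← Subgroup.inf_relIndex_left X C, mul_comm]
    have := Subgroup.card_mul_index ((X ⊓ C).subgroupOf X)
    rw [Nat.card_congr (Subgroup.subgroupOfEquivOfLe (inf_le_left : X ⊓ C ≤ X)).toEquiv] at this
    exact this.symm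
  have e4 : C.relIndex X ≤ C.relIndex (B ⊓ D) :=
    Subgroup.relIndex_le_of_le_right hX (Subgroup.index_ne_zero_of_finite)
  rw [e2, e3]
  calc D.index * (C.relIndex X * Nat.card ↥(X ⊓ C))
      ≤ D.index * (C.relIndex (B ⊓ D) * Nat.card ↥(X ⊓ C)) :=
        Nat.mul_le_mul_left _ (Nat.mul_le_mul_right _ e4)
    _ = _ := by ring

theorem Lin.cfix (h : Lin Q B D) {Y : Subgroup G} (hY : Y ≤ B) (h1 : Y ≠ ⊥)
    (hinv : ∀ b ∈ B, ∀ y ∈ Y, b * y * b⁻¹ ∈ Y) : Q ⊓ centralizer (Y : Set G) = ⊥ := by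
  have hi : ∀ b ∈ B, ∀ w ∈ Q ⊓ centralizer (Y : Set G),
      b * w * b⁻¹ ∈ Q ⊓ centralizer (Y : Set G) := by
    intro b hb w hw
    refine ⟨h.nQ b hb w hw.1, ?_⟩
    intro y hy
    have h2 : b⁻¹ * y * b⁻¹⁻¹ ∈ Y := hinv b⁻¹ (B.inv_mem hb) y hy
    have h3 := hw.2 _ h2
    rw [inv_inv] at h3
    calc y * (b * w * b⁻¹) = b * (b⁻¹ * y * b * w) * b⁻¹ := by group
      _ = b * (w * (b⁻¹ * y * b)) * b⁻¹ := by rw [h3]
      _ = b * w * b⁻¹ * y := by group
  rcases h.irr B le_rfl h.cov _ inf_le_left hi with h2 | h2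
  · exact h2
  · exfalso
    apply h1
    rw [eq_bot_iff]
    intro y hy
    rw [Subgroup.mem_bot]
    refine h.fai y (hY hy) fun x hx => ?_
    have h3 : x ∈ Q ⊓ centralizer (Y : Set G) := h2.symm ▸ hx
    exact h3.2 y hy

theorem Lin.cnt (h : Lin Q B D) {X : Subgroup G} (hX : X ≤ B ⊓ D) {I : Set G}
    (hI : ∀ b ∈ B, ∀ e ∈ I, b * e * b⁻¹ ∈ I) {y : ℕ}
    (hy : ∀ e ∈ I, Nat.card ↥(Q ⊓ centralizer {e}) ≤ y) {v : G} (hv : v ∈ Q) (h1 : v ≠ 1) :
    D.index * Nat.card X * {e | e ∈ I ∧ e * v = v * e}.ncard ≤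
      Nat.card ↥(X ⊓ centralizer {v}) * I.ncard * (y - 1) := by
  classical
  have horb := h.orb hX hv h1
  set cl : Set G := {w | ∃ b ∈ B, b * v * b⁻¹ = w} with hcl
  set c := {e | e ∈ I ∧ e * v = v * e}.ncard with hc
  have key : cl.ncard * c ≤ I.ncard * (y - 1) := by
    rw [Set.ncard_eq_toFinset_card cl, Set.ncard_eq_toFinset_card I]
    refine Finset.card_mul_le_card_mul (fun w e : G => e * w = w * e) ?_ ?_
    · intro w hw
      rw [Set.Finite.mem_toFinset] at hw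
      obtain ⟨b, hb, rfl⟩ := hw
      rw [← Set.ncard_coe_finset]
      refine Set.ncard_le_ncard_of_injOn (fun e => b * e * b⁻¹) ?_ ?_ (Set.toFinite _)
      · intro e he
        simp only [Finset.coe_bipartiteAbove, Set.Finite.coe_toFinset, Set.mem_setOf_eq,
          Set.Finite.mem_toFinset]
        refine ⟨hI b hb e he.1, ?_⟩
        calc b * e * b⁻¹ * (b * v * b⁻¹) = b * (e * v) * b⁻¹ := by group
          _ = b * (v * e) * b⁻¹ := by rw [he.2]
          _ = b * v * b⁻¹ * (b * e * b⁻¹) := by group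
      · intro e _ e' _ hee
        simpa using hee
    · intro e he
      rw [Set.Finite.mem_toFinset] at he
      rw [← Set.ncard_coe_finset]
      have h2 : ((((Q ⊓ centralizer {e} : Subgroup G) : Set G)) \ {1}).ncard ≤ y - 1 := by
        rw [Set.ncard_diff_singleton_of_mem (Subgroup.one_mem _)]
        have := hy e he
        rw [← SetLike.coe_sort_coe, Nat.card_coe_set_eq] at this
        omega
      refine le_trans (Set.ncard_le_ncard ?_ (Set.toFinite _)) h2
      intro w hw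
      simp only [Finset.coe_bipartiteBelow, Set.Finite.coe_toFinset, Set.mem_setOf_eq,
        Set.Finite.mem_toFinset] at hw
      obtain ⟨⟨b, hb, rfl⟩, hw2⟩ := hw
      refine ⟨⟨h.nQ b hb v hv, mem_centralizer_singleton_iff.2 hw2.symm⟩, ?_⟩
      intro h3
      rw [Set.mem_singleton_iff] at h3
      apply h1
      calc v = b⁻¹ * (b * v * b⁻¹) * b := by group
        _ = 1 := by rw [h3]; group
  calc D.index * Nat.card X * c ≤ cl.ncard * Nat.card ↥(X ⊓ centralizer {v}) * c :=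
        Nat.mul_le_mul_right _ horb
    _ = Nat.card ↥(X ⊓ centralizer {v}) * (cl.ncard * c) := by ring
    _ ≤ Nat.card ↥(X ⊓ centralizer {v}) * (I.ncard * (y - 1)) := Nat.mul_le_mul_left _ key
    _ = _ := by ring

theorem bern {m t y n : ℕ} (ht : 2 ≤ t) (h : 2 * m ≤ t * (y - 1)) (hy : 1 ≤ y) (hn : y ^ t ≤ n) :
    (m + 1) ^ 2 ≤ n := by
  obtain ⟨x, rfl⟩ : ∃ x, y = x + 1 := ⟨y - 1, by omega⟩
  rw [Nat.add_sub_cancel] at h
  have h1 := L1.four_pow (x := x) t ht
  have h2 : (2 * (m + 1)) ^ 2 ≤ (2 + t * x) ^ 2 := Nat.pow_le_pow_left (by omega) 2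
  nlinarith

end L

end Cfsg.Lib.DRG
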