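import Cfsg.Agent.DRG.Defs
import Cfsg.Agent.Solv.CyclicIndexP
import Cfsg.Agent.Solv.PGroupNormal

/-! Tower DRG: the subgroup of class two attached to a central element of prime order. -/

set_option autoImplicit false

namespace Cfsg.Lib.DRG.L7a

open Subgroup

theorem cyc {P : Type*} [Group P] [Finite P] {r : ℕ} (hr : r.Prime) (hP : IsPGroup r P) {z : P}
    (hz : z ∈ center P) (ho : orderOf z = r)
    (h : ∀ x : P, (∀ s, x * s * x⁻¹ * s⁻¹ ∈ zpowers z) → x ^ r = 1 → x ∈ zpowers z)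
    (A : Subgroup P) (hn : A.Normal) (hA : IsMulCommutative A) : IsCyclic A := by
  haveI : Fact r.Prime := ⟨hr⟩
  have cm : ∀ a ∈ A, ∀ b ∈ A, Commute a b := fun a ha b hb =>
    congrArg Subtype.val (hA.is_comm.comm ⟨a, ha⟩ ⟨b, hb⟩)
  let W : Subgroup P :=
    { carrier := {a | a ∈ A ∧ a ^ r = 1}
      one_mem' := ⟨one_mem _, one_pow _⟩
      mul_mem' := fun {a b} ha hb =>
        ⟨mul_mem ha.1 hb.1, by rw [(cm a ha.1 b hb.1).mul_pow, ha.2, hb.2, one_mul]⟩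
      inv_mem' := fun {a} ha => ⟨inv_mem ha.1, by rw [inv_pow, ha.2, inv_one]⟩ }
  haveI nW : W.Normal := ⟨fun a ha g => ⟨hn.conj_mem a ha.1 g, by rw [conj_pow, ha.2]; group⟩⟩
  haveI nZ : (zpowers z).Normal := ⟨fun a ha g => by
    rw [mem_center_iff.1 (zpowers_le.2 hz ha) g, mul_inv_cancel_right]; exact ha⟩
  have le : W ≤ zpowers z := by
    by_contra k
    haveI : (W.map (QuotientGroup.mk' (zpowers z))).Normal := nW.map _ (QuotientGroup.mk'_surjective _)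
    obtain ⟨_, ⟨y, hy, rfl⟩, c, o⟩ := Solv.PG.exists_mem_center_orderOf_eq (hP.to_quotient (zpowers z))
      (W.map (QuotientGroup.mk' (zpowers z))) (fun e => k (by
        rwa [Subgroup.map_eq_bot_iff, QuotientGroup.ker_mk'] at e))
    have m : y ∈ zpowers z := h y (fun s => by
      rw [← QuotientGroup.eq_one_iff, QuotientGroup.mk_mul, QuotientGroup.mk_mul, QuotientGroup.mk_mul,
        QuotientGroup.mk_inv, QuotientGroup.mk_inv]
      have := mem_center_iff.1 c (s : P ⧸ zpowers z)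
      rw [QuotientGroup.mk'_apply] at this
      rw [← this]; group) hy.2
    rw [QuotientGroup.mk'_apply, (QuotientGroup.eq_one_iff y).2 m, orderOf_one] at o
    exact hr.one_lt.ne o
  have key : ∀ H : Subgroup P, H ≤ A → Nat.card H = r → H = zpowers z := fun H h1 h2 =>
    eq_of_le_of_card_ge (fun a ha => le ⟨h1 ha, by
      rw [← h2]; exact congrArg Subtype.val (pow_card_eq_one' (x := (⟨a, ha⟩ : H)))⟩)
      (by rw [h2, Nat.card_zpowers, ho])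
  exact Solv.PG.isCyclic_of_unique_card_prime (hP.to_subgroup A)
    (fun H K h1 h2 h3 h4 => (key H h1 h3).trans (key K h2 h4).symm) (Or.inr hA)

variable {G : Type*} [Group G] {B D S : Subgroup G} {z : G} {r : ℕ}

theorem xs (hr : r.Prime) (hS : S ≤ B ⊓ D) (hinv : ∀ b ∈ B, ∀ y ∈ S, b * y * b⁻¹ ∈ S) (hz : z ∈ S)
    (hc : ∀ s ∈ S, s * z = z * s) (ho : orderOf z = r) (zi : ∀ b ∈ B, b * z * b⁻¹ ∈ zpowers z) :
    ∃ X : Subgroup G, XS B D X z r ∧
      ∀ y ∈ S, (∀ s ∈ S, y * s * y⁻¹ * s⁻¹ ∈ zpowers z) → y ^ r ∈ zpowers z → y ∈ X := by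
  have cz : ∀ c ∈ zpowers z, ∀ s ∈ S, s * c * s⁻¹ = c := fun c hc' s hs => by
    obtain ⟨k, rfl⟩ := mem_zpowers_iff.1 hc'
    exact mul_inv_eq_iff_eq_mul.2 ((show Commute s z from hc s hs).zpow_right k).eq
  have bz : ∀ b ∈ B, ∀ c ∈ zpowers z, b * c * b⁻¹ ∈ zpowers z := fun b hb c hc' => by
    obtain ⟨k, rfl⟩ := mem_zpowers_iff.1 hc'
    rw [← conj_zpow]
    exact zpow_mem (zi b hb) k
  let X : Subgroup G :=
    { carrier := {y | y ∈ S ∧ (∀ s ∈ S, y * s * y⁻¹ * s⁻¹ ∈ zpowers z) ∧ y ^ r ∈ zpowers z}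
      one_mem' := ⟨one_mem _, fun s _ => by simp, by simp⟩
      mul_mem' := by
        rintro a b ⟨a1, a2, a3⟩ ⟨b1, b2, b3⟩
        refine ⟨mul_mem a1 b1, fun s hs => ?_, ?_⟩
        · rw [show a * b * s * (a * b)⁻¹ * s⁻¹ = a * (b * s * b⁻¹ * s⁻¹) * a⁻¹ * (a * s * a⁻¹ * s⁻¹) by group,
            cz _ (b2 s hs) a a1]
          exact mul_mem (b2 s hs) (a2 s hs)
        · have k : ∀ n : ℕ, (a * b) ^ n * (b ^ n)⁻¹ * (a ^ n)⁻¹ ∈ zpowers z := fun n => by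
            induction n with
            | zero => simp
            | succ n ih =>
              have d := inv_mem (a2 _ (pow_mem b1 n))
              rw [show (a * b) ^ (n + 1) * (b ^ (n + 1))⁻¹ * (a ^ (n + 1))⁻¹ =
                (a * b) ^ n * (b ^ n)⁻¹ * (a ^ n)⁻¹ *
                  (a ^ n * (a * b ^ n * a⁻¹ * (b ^ n)⁻¹)⁻¹ * (a ^ n)⁻¹) by
                    rw [pow_succ, pow_succ, pow_succ]
                    generalize (a * b) ^ n = p
                    generalize a ^ n = p'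
                    generalize b ^ n = p''
                    group, cz _ d _ (pow_mem a1 n)]
              exact mul_mem ih d
          rw [show (a * b) ^ r = (a * b) ^ r * (b ^ r)⁻¹ * (a ^ r)⁻¹ * a ^ r * b ^ r by
            simp only [inv_mul_cancel_right]]
          exact mul_mem (mul_mem (k r) a3) b3
      inv_mem' := by
        rintro a ⟨a1, a2, a3⟩
        refine ⟨inv_mem a1, fun s hs => ?_, by rw [inv_pow]; exact inv_mem a3⟩
        rw [show a⁻¹ * s * a⁻¹⁻¹ * s⁻¹ = a⁻¹ * (a * s * a⁻¹ * s⁻¹)⁻¹ * a⁻¹⁻¹ by group,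
          cz _ (inv_mem (a2 s hs)) _ (inv_mem a1)]
        exact inv_mem (a2 s hs) }
  refine ⟨X, ⟨hr, fun x hx => hS hx.1, fun b hb x hx => ⟨hinv b hb x hx.1, fun s hs => ?_, ?_⟩,
    ⟨hz, fun s hs => ?_, pow_mem (mem_zpowers z) r⟩, ho, fun x hx => hc x hx.1, zi,
    fun x hx y hy => hx.2.1 y hy.1, fun x hx => hx.2.2⟩, fun y h1 h2 h3 => ⟨h1, h2, h3⟩⟩
  · rw [show b * x * b⁻¹ * s * (b * x * b⁻¹)⁻¹ * s⁻¹ =
      b * (x * (b⁻¹ * s * b⁻¹⁻¹) * x⁻¹ * (b⁻¹ * s * b⁻¹⁻¹)⁻¹) * b⁻¹ by group]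
    exact bz b hb _ (hx.2.1 _ (hinv _ (inv_mem hb) s hs))
  · rw [conj_pow]
    exact bz b hb _ hx.2.2
  · rw [← hc s hs]; simp

theorem ex [Finite G] (hr : r.Prime) (hS : S ≤ B ⊓ D) (hp : IsPGroup r S)
    (hinv : ∀ b ∈ B, ∀ y ∈ S, b * y * b⁻¹ ∈ S) (hz : z ∈ S)
    (hc : ∀ s ∈ S, s * z = z * s) (ho : orderOf z = r) (zi : ∀ b ∈ B, b * z * b⁻¹ ∈ zpowers z) :
    ∃ X : Subgroup G, XS B D X z r ∧ ((∀ x ∈ X, x ^ r = 1 → x ∈ zpowers z) →
      ∀ A : Subgroup S, A.Normal → IsMulCommutative A → IsCyclic A) := by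
  obtain ⟨X, h1, h2⟩ := xs hr hS hinv hz hc ho zi
  have m : ∀ x : S, x ∈ zpowers (⟨z, hz⟩ : S) ↔ (x : G) ∈ zpowers z := fun x =>
    ⟨fun ⟨k, e⟩ => ⟨k, congrArg Subtype.val e⟩, fun ⟨k, e⟩ => ⟨k, Subtype.ext e⟩⟩
  refine ⟨X, h1, fun h => cyc hr hp (z := ⟨z, hz⟩) (mem_center_iff.2 fun s => Subtype.ext (hc s s.2))
    ((orderOf_mk z hz).trans ho) fun x k1 k2 => ?_⟩
  have k3 : (x : G) ^ r = 1 := congrArg Subtype.val k2
  exact (m x).2 (h x (h2 x x.2 (fun s hs => (m _).1 (k1 ⟨s, hs⟩)) (k3 ▸ one_mem _)) k3)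

end Cfsg.Lib.DRG.L7a
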