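import Cfsg.Agent.DRG.Defs

/-! Tower DRG: subgroups covering the quotient by the derangement subgroup. -/

set_option autoImplicit false

namespace Cfsg.Lib.DRG

open MulAction Cfsg.Lib.Perm.Derange Subgroup
open scoped Pointwise

section P1
variable {G Ω : Type*} [Group G] [Finite G] [MulAction G Ω] [Finite Ω] [IsPretransitive G Ω]

omit [Finite G] [Finite Ω] [IsPretransitive G Ω] in
theorem P1.idx {N : Subgroup G} (hN : N ⊔ der G Ω = ⊤) :
    ((der G Ω).subgroupOf N).index = (der G Ω).index := by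
  change (der G Ω).relIndex N = _
  rw [← Subgroup.relIndex_sup_right, hN, Subgroup.relIndex_top_right]

theorem P1.blk {B : Set Ω} (hB : IsBlock G B) (h3 : B.Nontrivial) (hu : B ≠ Set.univ) :
    ((der G Ω).index + 1) ^ 2 ≤ Nat.card Ω := by
  obtain ⟨a, ha⟩ := h3.nonempty
  have h1 := hB.ncard_block_mul_ncard_orbit_eq ⟨a, ha⟩
  have h2 : (der G Ω).index ∣ (B \ {a}).ncard :=
    index_dvd_ncard (a := a) (by simp) fun g hg x hx =>
      ⟨hB.smul_eq_of_mem ha (hg.symm ▸ ha) ▸ Set.smul_mem_smul_set hx.1,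
        fun h => hx.2 (smul_left_cancel g (h.trans hg.symm))⟩
  rw [Set.ncard_sdiff_singleton_of_mem ha] at h2
  have h3 : 1 < B.ncard := (Set.one_lt_ncard_iff_nontrivial).mpr h3
  have h4 := Nat.le_of_dvd (by omega) h2
  have : Nonempty (orbit G B) := ⟨⟨B, mem_orbit_self B⟩⟩
  have h5 := index_dvd_card_sub_one (G := G) (Ω := orbit G B)
  have h6 : der G (orbit G B) ≤ der G Ω := by
    refine Subgroup.closure_mono fun g hg ω hω => ?_
    obtain ⟨k, rfl⟩ := exists_smul_eq G a ω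
    refine hg ⟨k • B, mem_orbit B k⟩ (Subtype.ext ?_)
    exact (hB.translate k).smul_eq_of_mem (Set.smul_mem_smul_set ha)
      (hω.symm ▸ Set.smul_mem_smul_set ha)
  have h7 : 1 < (orbit G B).ncard := by
    obtain ⟨b, hb⟩ := (Set.ne_univ_iff_exists_notMem B).mp hu
    obtain ⟨k, rfl⟩ := exists_smul_eq G a b
    refine (Set.one_lt_ncard_iff_nontrivial).mpr ⟨B, mem_orbit_self B, k • B, mem_orbit B k, ?_⟩
    intro h
    exact hb (h ▸ Set.smul_mem_smul_set ha)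
  rw [Nat.card_coe_set_eq] at h5
  have h8 := Nat.le_of_dvd (by omega) ((Subgroup.index_dvd_of_le h6).trans h5)
  rw [← h1, sq]
  exact Nat.mul_le_mul (by omega) (by omega)

theorem orbdvd {N : Subgroup G} {δ : Ω} (hN : N ⊔ der G Ω = ⊤) (hδ : N ≤ stabilizer G δ)
    {X : Set Ω} (hX : δ ∉ X) (hinv : ∀ g ∈ N, ∀ x ∈ X, g • x ∈ X) :
    (der G Ω).index ∣ X.ncard := by
  refine dvd_ncard_of_dvd_orbits (G := N) X (fun g => hinv g g.2) fun x hx => ?_
  rw [Nat.card_coe_set_eq, ← index_stabilizer, ← P1.idx hN]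
  refine Subgroup.index_dvd_of_le fun g hg => ?_
  exact mem_der_of_fix_two (a := x) (b := δ) (by rintro rfl; exact hX hx) hg (hδ g.2)

theorem fix {N : Subgroup G} {δ : Ω} (hN : (N ⊓ stabilizer G δ) ⊔ der G Ω = ⊤) {g : G}
    (hg : g ∈ N) (hgD : g ∉ der G Ω) : ∃ a ∈ N, g • a • δ = a • δ := by
  classical
  have := Fintype.ofFinite N
  have : Nonempty (orbit N δ) := ⟨⟨δ, mem_orbit_self δ⟩⟩
  set H := (der G Ω).subgroupOf N with hH
  have ht : IsPretransitive H (orbit N δ) := by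
    refine (isPretransitive_iff_base (a := ⟨δ, mem_orbit_self δ⟩)).2 ?_
    rintro ⟨_, ⟨a, ha⟩, rfl⟩
    have h1 : a ∈ der G Ω ⊔ (N ⊓ stabilizer G δ) := by rw [sup_comm, hN]; trivial
    obtain ⟨d, hd, b, hb, rfl⟩ := Subgroup.mem_sup_of_normal_left.1 h1
    refine ⟨⟨⟨d, (N.mul_mem_cancel_right hb.1).1 ha⟩, hd⟩, Subtype.ext ?_⟩
    change d • δ = (d * b) • δ
    rw [mul_smul, show b • δ = δ from hb.2]
  have h1 := burnside N (orbit N δ)
  rw [card_quotient_eq_one, one_mul, ← Finset.sum_filter_add_sum_filter_not _ (· ∈ H),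
    burnside_sub, card_quotient_eq_one, one_mul] at h1
  have h2 := Finset.card_filter_add_card_filter_not (s := Finset.univ) (· ∈ H)
  rw [card_filter_mem, Finset.card_univ, ← Nat.card_eq_fintype_card] at h2
  have h3 : ∀ x ∈ Finset.univ.filter (· ∉ H), Nat.card (fixedBy (orbit N δ) x) ≤ 1 := by
    intro x hx
    refine Finite.card_le_one_iff_subsingleton.2 ⟨fun u v => Subtype.ext (Subtype.ext ?_)⟩
    by_contra h
    exact (Finset.mem_filter.1 hx).2 (mem_der_of_fix_two (G := G) (g := x) h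
      (congrArg Subtype.val u.2) (congrArg Subtype.val v.2))
  have h4 := (Finset.sum_eq_sum_iff_of_le h3).1 (by rw [← Finset.card_eq_sum_ones]; omega)
    ⟨g, hg⟩ (Finset.mem_filter.2 ⟨Finset.mem_univ _, hgD⟩)
  obtain ⟨⟨⟨_, ⟨a, ha⟩, rfl⟩, h⟩⟩ := (Nat.card_eq_one_iff_unique.1 h4).2
  exact ⟨a, ha, congrArg Subtype.val h⟩

theorem bl {N Y : Subgroup G} {δ : Ω} (hN : (N ⊓ stabilizer G δ) ⊔ der G Ω = ⊤) (hY : Y ≤ N)
    (hn : ∀ a ∈ N, ∀ y ∈ Y, a * y * a⁻¹ ∈ Y) (h1 : ∃ y ∈ Y, y • δ ≠ δ)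
    (h2 : ∃ a ∈ N, ∀ y ∈ Y, y • δ ≠ a • δ) : ((der G Ω).index + 1) ^ 2 ≤ Nat.card Ω := by
  have : (Y.subgroupOf N).Normal := ⟨fun y hy a => hn a a.2 y hy⟩
  have h3 := P1.blk (G := N) (Ω := orbit N δ)
    (IsBlock.orbit_of_normal (N := Y.subgroupOf N) ⟨δ, mem_orbit_self δ⟩)
    (by
      obtain ⟨y, hy, h⟩ := h1
      exact ⟨_, mem_orbit _ (⟨⟨y, hY hy⟩, hy⟩ : Y.subgroupOf N), _, mem_orbit_self _,
        fun e => h (congrArg Subtype.val e)⟩)
    (by
      obtain ⟨a, ha, h⟩ := h2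
      intro e
      obtain ⟨⟨⟨y, hy⟩, hy'⟩, e'⟩ := e ▸ Set.mem_univ (⟨a • δ, mem_orbit δ (⟨a, ha⟩ : N)⟩ : orbit N δ)
      exact h y hy' (congrArg Subtype.val e'))
  have h4 : der N (orbit N δ) ≤ (der G Ω).subgroupOf N := by
    refine (Subgroup.closure_le _).2 fun g hg => ?_
    by_contra h
    obtain ⟨a, ha, e⟩ := fix hN g.2 h
    exact hg ⟨a • δ, mem_orbit δ (⟨a, ha⟩ : N)⟩ (Subtype.ext e)
  have h5 := Nat.le_of_dvd (Nat.pos_of_ne_zero Subgroup.index_ne_zero_of_finite)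
    (Subgroup.index_dvd_of_le h4)
  rw [P1.idx (top_le_iff.1 (hN ▸ sup_le_sup_right inf_le_left _))] at h5
  exact ((Nat.pow_le_pow_left (by omega) 2).trans h3).trans (Finite.card_subtype_le _)

end P1

end Cfsg.Lib.DRG
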