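import Cfsg.Agent.DRG.P1
import Cfsg.Agent.DRG.P2
import Cfsg.Agent.Trans.SylowIn

/-! Tower DRG (statement S3550): choice of a Sylow subgroup of the derangement subgroup. -/

set_option autoImplicit false

namespace Cfsg.Lib.DRG

open MulAction Cfsg.Lib.Perm.Derange Subgroup
open scoped ComplexConjugate

namespace SY1

open Cfsg.Lib.Trans

theorem syl_of_norm {G : Type*} [Group G] [Finite G] {q : ℕ} [Fact q.Prime] {T H : Subgroup G}
    (h : IsSylowIn q T (normalizer (T : Set G) ⊓ H)) : IsSylowIn q T H := by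
  refine isSylowIn_of_maximal (h.le.trans inf_le_right) h.isPGroup fun S hS hTS hSH => ?_
  by_contra hn
  have hlt : T < S := lt_of_le_of_ne hTS fun e => hn e.ge
  have h2 := lt_inf_normalizer hS hlt
  exact h2.ne' (h.eq_of_le hS.to_inf_left h2.le
    (le_inf inf_le_right (inf_le_left.trans hSH)))

theorem fix_conj {G Ω : Type*} [Group G] [MulAction G Ω] {R : Subgroup G} {δ : Ω}
    (hR : R ≤ stabilizer G δ) {a : G} (ha : a ∈ normalizer (R : Set G)) {r : G} (hr : r ∈ R) :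
    r • a • δ = a • δ := by
  have h1 : a⁻¹ * r * a⁻¹⁻¹ ∈ R := (mem_normalizer_iff.mp (inv_mem ha) r).mp hr
  have h2 : (a⁻¹ * r * a⁻¹⁻¹) • δ = δ := hR h1
  rw [inv_inv, mul_smul, mul_smul, inv_smul_eq_iff] at h2
  exact h2

theorem cj_stab {G Ω : Type*} [Group G] [MulAction G Ω] (D : Subgroup G) [hD : D.Normal] (δ : Ω)
    (a : G) : cj a (stabilizer G δ ⊓ D) = D ⊓ stabilizer G (a • δ) := by
  ext x
  rw [mem_cj, mem_inf, mem_inf, mem_stabilizer_iff, mem_stabilizer_iff, mul_smul, mul_smul,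
    inv_smul_eq_iff, and_comm]
  refine and_congr_left fun _ => ⟨fun h => ?_, fun h => ?_⟩
  · simpa [mul_assoc] using hD.conj_mem _ h a
  · simpa using hD.conj_mem _ h a⁻¹

end SY1

section SY
variable {G Ω : Type*} [Group G] [Finite G] [MulAction G Ω] [Finite Ω] [IsPretransitive G Ω]

open Cfsg.Lib.Trans in
theorem syl (hm : 2 ≤ (der G Ω).index) (hsm : Nat.card Ω < ((der G Ω).index + 1) ^ 2) {q : ℕ}
    (hq : q.Prime) (hqn : q ∣ Nat.card Ω) :
    ∃ (Q : Subgroup G) (δ : Ω), IsPGroup q Q ∧ Q ≤ der G Ω ∧ ¬ q ∣ Q.relIndex (der G Ω) ∧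
      ¬ q ∣ (Q ⊓ stabilizer G δ).relIndex (der G Ω ⊓ stabilizer G δ) ∧
      (∀ a ∈ Q, ∀ r ∈ Q, r • δ = δ → r • a • δ = a • δ) ∧
      (normalizer (Q : Set G) ⊓ stabilizer G δ) ⊔ der G Ω = ⊤ ∧
      (der G Ω).index + 1 ≤ (stabilizer G δ).relIndex Q := by
  classical
  have : Fact q.Prime := ⟨hq⟩
  obtain ⟨δ0, h0⟩ := cov (Ω := Ω) (N := (⊤ : Subgroup G)) (top_sup_eq _) hm
  rw [top_inf_eq] at h0
  obtain ⟨R, hR⟩ := exists_isSylowIn (p := q) (stabilizer G δ0 ⊓ der G Ω)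
  have h1 := frat hq h0 hR.le hR.isPGroup hR.not_dvd
  obtain ⟨Q, hQ, hRQ⟩ := exists_isSylowIn_ge hR.isPGroup
    (H := normalizer (R : Set G) ⊓ der G Ω) (le_inf le_normalizer (hR.le.trans inf_le_right))
  have hQR : Q ≠ R := by
    rintro rfl
    have h2 := (SY1.syl_of_norm hQ).not_dvd_relIndex_of_le (hR.le.trans inf_le_left)
    have h3 := (der_main (G := G) (Ω := Ω)).1
    have h4 : (stabilizer G δ0).relIndex (der G Ω) = Nat.card Ω :=
      index_stabilizer_of_transitive (der G Ω) δ0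
    exact h2 (h4 ▸ hqn)
  have h2 : normalizer (R : Set G) ⊔ der G Ω = ⊤ :=
    eq_top_iff.mpr (h1.ge.trans (sup_le_sup_right inf_le_right _))
  have h3 := frat hq h2 hQ.le hQ.isPGroup hQ.not_dvd
  obtain ⟨δ, hδ⟩ := cov h3 hm
  obtain ⟨g, hg, hgD⟩ : ∃ g ∈ (normalizer (R : Set G) ⊓ normalizer (Q : Set G)) ⊓ stabilizer G δ,
      g ∉ der G Ω := by
    by_contra! h
    have h4 : der G Ω = ⊤ := by
      rw [← hδ]
      exact (sup_eq_right.mpr h).symm
    rw [h4, index_top] at hm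
    omega
  obtain ⟨a, ha, hga⟩ := fix (N := normalizer (R : Set G)) (δ := δ0) (by rwa [inf_comm]) hg.1.1 hgD
  have hδa : δ = a • δ0 := by
    by_contra h
    exact hgD (mem_der_of_fix_two h hg.2 hga)
  have hR' : IsSylowIn q R (der G Ω ⊓ stabilizer G δ) := by
    have h4 := hR.cj a
    rwa [cj_eq_of_mem_normalizer ha, SY1.cj_stab, ← hδa] at h4
  have hRδ : R ≤ stabilizer G δ := hR'.le.trans inf_le_right
  have hQD : Q ≤ der G Ω := hQ.le.trans inf_le_right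
  have key : ∀ S : Subgroup G, IsPGroup q S → Q ≤ S → S ≤ der G Ω → S ⊓ stabilizer G δ = R :=
    fun S hS h4 h5 => hR'.eq_of_le hS.to_inf_left (le_inf (hRQ.trans h4) hRδ)
      (inf_le_inf_right _ h5)
  have hQδ := key Q hQ.isPGroup le_rfl hQD
  have hmv : ∃ y ∈ Q, y • δ ≠ δ := by
    by_contra! h
    exact hQR (hQδ ▸ (inf_eq_left.mpr h).symm)
  have h5 : (normalizer (Q : Set G) ⊓ stabilizer G δ) ⊔ der G Ω = ⊤ :=
    eq_top_iff.mpr (hδ.ge.trans (sup_le_sup_right (inf_le_inf_right _ inf_le_right) _))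
  have h6 : ∀ b ∈ normalizer (Q : Set G), ∃ y ∈ Q, y • δ = b • δ := by
    by_contra! h
    exact hsm.not_ge (bl h5 le_normalizer
      (fun b hb y hy => (mem_normalizer_iff.mp hb y).mp hy) hmv h)
  have hQS : IsSylowIn q Q (der G Ω) := by
    refine SY1.syl_of_norm (isSylowIn_of_maximal (le_inf le_normalizer hQD) hQ.isPGroup
      fun S hS h7 h8 s hs => ?_)
    obtain ⟨y, hy, hys⟩ := h6 s (h8 hs).1
    have h9 : y⁻¹ * s ∈ S ⊓ stabilizer G δ :=
      ⟨S.mul_mem (S.inv_mem (h7 hy)) hs, by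
        change (y⁻¹ * s) • δ = δ
        rw [mul_smul, ← hys, inv_smul_smul]⟩
    rw [key S hS h7 (h8.trans inf_le_right)] at h9
    simpa using mul_mem hy (hRQ h9)
  refine ⟨Q, δ, hQ.isPGroup, hQD, hQS.not_dvd, hQδ ▸ hR'.not_dvd, fun b hb r hr hrδ => ?_, h5, ?_⟩
  · exact SY1.fix_conj hRδ (hQ.le hb).1 (hQδ ▸ ⟨hr, hrδ⟩ : r ∈ R)
  · have h7 : (stabilizer G δ).relIndex Q = (orbit Q δ).ncard := index_stabilizer Q δ
    have h8 := orbdvd hδ inf_le_right (X := orbit Q δ \ {δ}) (by simp) (by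
      rintro n hn x ⟨⟨y, rfl⟩, hx⟩
      have hnδ : n • δ = δ := hn.2
      refine ⟨⟨⟨n * y * n⁻¹, (mem_normalizer_iff.mp hn.1.2 y).mp y.2⟩, ?_⟩, fun h => hx ?_⟩
      · change (n * y * n⁻¹) • δ = n • (y : G) • δ
        rw [mul_smul, mul_smul, inv_smul_eq_iff.mpr hnδ.symm]
      · exact smul_left_cancel n (h.trans hnδ.symm))
    obtain ⟨y, hy, hyδ⟩ := hmv
    have h9 : 0 < (orbit Q δ \ {δ}).ncard :=
      (Set.ncard_pos (Set.toFinite _)).mpr ⟨y • δ, ⟨⟨y, hy⟩, rfl⟩, hyδ⟩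
    rw [h7, ← Set.ncard_diff_singleton_add_one (mem_orbit_self δ) (Set.toFinite _)]
    exact Nat.add_le_add_right (Nat.le_of_dvd h9 h8) 1

end SY

end Cfsg.Lib.DRG
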